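import Mathlib
import Cfsg.Agent.Lib.Perm.Fpf.SL25Model
import Cfsg.Agent.S0253

/-!
Facts on the special linear group of degree two over five elements.
-/

set_option autoImplicit false
set_option maxRecDepth 100000
set_option synthInstance.maxSize 2000

namespace Cfsg.Agent.MclThree

open scoped commutatorElement

/-- The group. -/
abbrev SL5 := Matrix.SpecialLinearGroup (Fin 2) (ZMod 5)

/-- quadruples of entries -/
abbrev M4 := ZMod 5 × ZMod 5 × ZMod 5 × ZMod 5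

/-- product of quadruples -/
def m4 (x y : M4) : M4 :=
  (x.1 * y.1 + x.2.1 * y.2.2.1, x.1 * y.2.1 + x.2.1 * y.2.2.2,
    x.2.2.1 * y.1 + x.2.2.2 * y.2.2.1, x.2.2.1 * y.2.1 + x.2.2.2 * y.2.2.2)

/-- determinant one -/
def det4 (x : M4) : Prop := x.1 * x.2.2.2 - x.2.1 * x.2.2.1 = 1

instance (x : M4) : Decidable (det4 x) := by unfold det4; infer_instance

/-- the entries -/
def ent (g : SL5) : M4 := (g.1 0 0, g.1 0 1, g.1 1 0, g.1 1 1)

theorem ent_mul (g h : SL5) : ent (g * h) = m4 (ent g) (ent h) := by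
  simp [ent, m4, Matrix.mul_apply, Fin.sum_univ_two]

theorem ent_inj {g h : SL5} (e : ent g = ent h) : g = h := by
  simp only [ent, Prod.mk.injEq] at e
  ext i j; fin_cases i <;> fin_cases j <;> simp [e]

theorem ent_det (g : SL5) : det4 (ent g) := by
  have h := g.2
  rw [Matrix.det_fin_two] at h
  exact h

theorem ent_surj {x : M4} (hx : det4 x) : ∃ g : SL5, ent g = x :=
  ⟨⟨!![x.1, x.2.1; x.2.2.1, x.2.2.2], by rw [Matrix.det_fin_two]; exact hx⟩, by simp [ent]⟩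

theorem ent_one : ent 1 = (1, 0, 0, 1) := by simp [ent]

theorem ent_neg : ent (-1) = (4, 0, 0, 4) := by
  have : (-1 : ZMod 5) = 4 := by decide
  simp [ent, this]

theorem m4_invol : ∀ x : M4, det4 x → m4 x x = (1, 0, 0, 1) → x = (1, 0, 0, 1) ∨ x = (4, 0, 0, 4) := by
  decide +kernel

theorem m4_invert : ∀ x : M4, det4 x → m4 x (m4 x x) = (1, 0, 0, 1) → x ≠ (1, 0, 0, 1) →
    ∃ u : M4, det4 u ∧ m4 (m4 x u) x = u ∧ m4 u u = (4, 0, 0, 4) := by
  decide +kernel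

theorem m4_invert_sq : ∀ x : M4, det4 x → m4 x (m4 x x) = (1, 0, 0, 1) → x ≠ (1, 0, 0, 1) →
    ∀ u : M4, det4 u → m4 (m4 x u) x = u → m4 u u = (4, 0, 0, 4) := by
  decide +kernel

theorem m4_cent : ∀ x : M4, det4 x → m4 x (m4 x x) = (1, 0, 0, 1) → x ≠ (1, 0, 0, 1) →
    ∀ c : M4, det4 c → m4 x c = m4 c x → m4 (m4 c (m4 c c)) (m4 c (m4 c c)) = (1, 0, 0, 1) := by
  decide +kernel

theorem m4_central : ∀ c : M4, det4 c → m4 c (1, 1, 0, 1) = m4 (1, 1, 0, 1) c →
    m4 c (1, 0, 1, 1) = m4 (1, 0, 1, 1) c → c = (1, 0, 0, 1) ∨ c = (4, 0, 0, 4) := by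
  decide +kernel

theorem m4_elts : m4 (2, 0, 0, 3) (0, 1, 4, 0) = m4 (4, 0, 0, 4) (m4 (0, 1, 4, 0) (2, 0, 0, 3)) ∧
    det4 (2, 0, 0, 3) ∧ det4 (0, 1, 4, 0) ∧ det4 (1, 1, 0, 1) ∧ det4 (1, 0, 1, 1) := by
  decide +kernel

theorem sl_card : Nat.card SL5 = 120 := Cfsg.Agent.Perm.Fpf.SL25.card_SL

theorem sl_invol {g : SL5} (h : g * g = 1) : g = 1 ∨ g = -1 := by
  rcases m4_invol _ (ent_det g) (by rw [← ent_mul, h, ent_one]) with e | e
  · exact Or.inl (ent_inj (e.trans ent_one.symm))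
  · exact Or.inr (ent_inj (e.trans ent_neg.symm))

theorem sl_three {g : SL5} (h : g ^ 3 = 1) (h1 : g ≠ 1) :
    m4 (ent g) (m4 (ent g) (ent g)) = (1, 0, 0, 1) ∧ ent g ≠ (1, 0, 0, 1) := by
  refine ⟨?_, fun e => h1 (ent_inj (e.trans ent_one.symm))⟩
  rw [← ent_mul, ← ent_mul, show g * (g * g) = g ^ 3 by rw [pow_succ', pow_two], h, ent_one]

theorem sl_three_invert {g : SL5} (h : g ^ 3 = 1) (h1 : g ≠ 1) :
    ∃ u : SL5, u * g * u⁻¹ = g⁻¹ ∧ u * u = -1 := by
  obtain ⟨a, b⟩ := sl_three h h1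
  obtain ⟨x, hx, e1, e2⟩ := m4_invert _ (ent_det g) a b
  obtain ⟨u, rfl⟩ := ent_surj hx
  rw [← ent_mul, ← ent_mul] at e1
  rw [← ent_mul] at e2
  refine ⟨u, ?_, ent_inj (e2.trans ent_neg.symm)⟩
  rw [eq_inv_iff_mul_eq_one]
  have := ent_inj e1
  calc u * g * u⁻¹ * g = u * g * (g * u * g)⁻¹ * g := by rw [this]
    _ = u * g * g⁻¹ * u⁻¹ * g⁻¹ * g := by group
    _ = 1 := by group

theorem sl_invert_sq {g u : SL5} (h : g ^ 3 = 1) (h1 : g ≠ 1) (hu : u * g * u⁻¹ = g⁻¹) : u * u = -1 := by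
  obtain ⟨a, b⟩ := sl_three h h1
  refine ent_inj ?_
  rw [ent_mul, ent_neg]
  refine m4_invert_sq _ (ent_det g) a b _ (ent_det u) ?_
  rw [← ent_mul, ← ent_mul]
  congr 1
  calc g * u * g = g * (u * g * u⁻¹) * u := by group
    _ = u := by rw [hu, mul_inv_cancel, one_mul]

theorem sl_cent_three {g c : SL5} (h : g ^ 3 = 1) (h1 : g ≠ 1) (hc : g * c = c * g) : c ^ 6 = 1 := by
  obtain ⟨a, b⟩ := sl_three h h1
  refine ent_inj ?_
  have := m4_cent _ (ent_det g) a b _ (ent_det c) (by rw [← ent_mul, ← ent_mul, hc])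
  rw [← ent_mul, ← ent_mul, ← ent_mul] at this
  rw [ent_one, ← this]
  congr 1
  simp only [pow_succ, pow_zero, one_mul, mul_assoc]

theorem sl_central {c : SL5} (h : ∀ g, c * g = g * c) : c = 1 ∨ c = -1 := by
  obtain ⟨-, -, -, hu, hl⟩ := m4_elts
  obtain ⟨u, hu'⟩ := ent_surj hu
  obtain ⟨l, hl'⟩ := ent_surj hl
  rcases m4_central _ (ent_det c) (by rw [← hu', ← ent_mul, ← ent_mul, h]) (by rw [← hl', ← ent_mul, ← ent_mul, h])
    with e | e
  · exact Or.inl (ent_inj (e.trans ent_one.symm))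
  · exact Or.inr (ent_inj (e.trans ent_neg.symm))

theorem sl_neg_ne : (-1 : SL5) ≠ 1 := fun e => by
  have := congrArg ent e
  rw [ent_one, ent_neg] at this
  exact absurd this (by decide)

theorem sl_neg_comm (g : SL5) : -1 * g = g * -1 := ent_inj (by
  simp [ent_mul, ent_neg, m4, ent, mul_comm])

/-- The map onto the alternating group of degree five. -/
theorem exists_pi : ∃ π : SL5 →* alternatingGroup (Fin 5), Function.Surjective π ∧
    ∀ g, π g = 1 ↔ g = 1 ∨ g = -1 := by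
  haveI : Fact (Nat.Prime 5) := ⟨Nat.prime_five⟩
  obtain ⟨e⟩ := Cfsg.Agent.S0253.result (F := ZMod 5) (ZMod.card 5)
  refine ⟨e.toMonoidHom.comp (QuotientGroup.mk' _), e.surjective.comp (QuotientGroup.mk'_surjective _), fun g => ?_⟩
  rw [MonoidHom.comp_apply, MulEquiv.coe_toMonoidHom, e.map_eq_one_iff, QuotientGroup.mk'_apply,
    QuotientGroup.eq_one_iff, Subgroup.mem_center_iff]
  refine ⟨fun h => sl_central fun x => (h x).symm, ?_⟩
  rintro (rfl | rfl) <;> intro x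
  · simp
  · exact (sl_neg_comm x).symm

theorem sl_perfect : _root_.commutator SL5 = ⊤ := by
  obtain ⟨π, hπ, hk⟩ := exists_pi
  have hA : _root_.commutator (alternatingGroup (Fin 5)) = ⊤ := by
    exact commutator_alternatingGroup_eq_top (by simp)
  obtain ⟨e, ha, hb, -, -⟩ := m4_elts
  obtain ⟨a, ha'⟩ := ent_surj ha
  obtain ⟨b, hb'⟩ := ent_surj hb
  have hab : a * b = -1 * (b * a) := ent_inj (by rw [ent_mul, ent_mul, ent_mul, ent_neg, ha', hb', e])
  have hneg : (-1 : SL5) ∈ _root_.commutator SL5 := by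
    have h : ⁅a, b⁆ = -1 := by
      rw [commutatorElement_def, hab]; group
    exact h ▸ Subgroup.commutator_mem_commutator (Subgroup.mem_top a) (Subgroup.mem_top b)
  refine eq_top_iff.2 fun g _ => ?_
  have hg : π g ∈ (_root_.commutator SL5).map π := by
    rw [_root_.commutator_def, Subgroup.map_commutator, Subgroup.map_top_of_surjective π hπ,
      ← _root_.commutator_def, hA]
    trivial
  obtain ⟨h, hh, he⟩ := hg
  rcases (hk (h⁻¹ * g)).1 (by rw [map_mul, map_inv, he, inv_mul_cancel]) with e1 | e1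
  · rw [← inv_mul_eq_one.1 e1]; exact hh
  · rw [show g = h * (h⁻¹ * g) by group, e1]; exact mul_mem hh hneg

end Cfsg.Agent.MclThree
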