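import Cfsg.Agent.Lib.Recognition.MclThreeLocal.Base

/-!
The elementary abelian subgroup of order 81 is its own centraliser.
-/

set_option autoImplicit false
set_option linter.unusedSectionVars false

namespace Cfsg.Agent.MclThree

universe u

variable {G : Type u} [Group G] [Finite G] (D : Data G)

theorem Data.A_le : D.A ≤ D.J ∧ D.A ≤ D.Q ∧ D.A ≤ D.S :=
  ⟨inf_le_left, inf_le_right, inf_le_left.trans D.hJS⟩

theorem Data.cent_A_Q {x : G} (hx : x ∈ D.Q) (hc : ∀ a ∈ D.A, a * x = x * a) : x ∈ D.A := by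
  have habel : ∀ u ∈ D.A ⊔ Subgroup.zpowers x, ∀ v ∈ D.A ⊔ Subgroup.zpowers x, u * v = v * u := by
    have hle : D.A ⊔ Subgroup.zpowers x ≤ Subgroup.centralizer ((D.A : Set G) ∪ {x}) := by
      refine sup_le (fun a ha => Subgroup.mem_centralizer_iff.2 ?_) (Subgroup.zpowers_le.2 (Subgroup.mem_centralizer_iff.2 ?_))
      · rintro b (hb | hb)
        · exact D.Jc b hb.1 a ha.1
        · rw [Set.mem_singleton_iff.1 hb]; exact (hc a ha).symm
      · rintro b (hb | hb)
        · exact hc b hb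
        · rw [Set.mem_singleton_iff.1 hb]
    intro u hu v hv
    have hu' : D.A ⊔ Subgroup.zpowers x ≤ Subgroup.centralizer ({u} : Set G) := by
      refine sup_le (fun a ha => Subgroup.mem_centralizer_singleton_iff.2 ?_)
        (Subgroup.zpowers_le.2 (Subgroup.mem_centralizer_singleton_iff.2 ?_))
      · exact (Subgroup.mem_centralizer_iff.1 (hle hu) a (Or.inl ha))
      · exact (Subgroup.mem_centralizer_iff.1 (hle hu) x (Or.inr rfl))
    exact (Subgroup.mem_centralizer_singleton_iff.1 (hu' hv)).symm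
  have h := D.abelian_Q_le (sup_le D.A_le.2.1 (Subgroup.zpowers_le.2 hx)) habel
  have he := Subgroup.eq_of_le_of_card_ge (H := D.A) (K := D.A ⊔ Subgroup.zpowers x) le_sup_left (by rw [D.card_S.2.2]; exact h)
  rw [he]
  exact Subgroup.mem_sup_right (Subgroup.mem_zpowers x)

theorem Data.Z_le_A : D.Z ≤ D.A := fun z hz =>
  D.cent_A_Q (D.Z_le_Q hz) fun a ha => (D.mem_Z.1 hz).2 a (D.A_le.2.2 ha)

theorem Data.Z_le_J : D.Z ≤ D.J := D.Z_le_A.trans D.A_le.1

theorem Data.exists_jq {s : G} (hs : s ∈ (D.S : Subgroup G)) : ∃ j ∈ D.J, ∃ q ∈ D.Q, s = j * q := by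
  rw [D.card_S.2.1] at hs
  have hn : D.J ≤ Subgroup.normalizer (D.Q : Set G) := fun j hj => D.Q_conj (D.S_le_NZ (D.hJS hj))
  have h : s ∈ ((D.J ⊔ D.Q : Subgroup G) : Set G) := hs
  rw [Subgroup.coe_mul_of_left_le_normalizer_right D.J D.Q hn] at h
  obtain ⟨j, hj, q, hq, e⟩ := h
  exact ⟨j, hj, q, hq, e.symm⟩

theorem Data.S_le_NA : (D.S : Subgroup G) ≤ Subgroup.normalizer (D.A : Set G) := by
  rw [D.card_S.2.1]
  have key : ∀ g : G, (∀ a ∈ D.A, g * a * g⁻¹ ∈ D.A) → g ∈ Subgroup.normalizer (D.A : Set G) := fun g hg => by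
    rw [Subgroup.mem_normalizer_iff_map_conj_eq]
    refine Subgroup.eq_of_le_of_card_ge ?_ (le_of_eq (Subgroup.card_map_of_injective (MulEquiv.injective _)).symm)
    rintro _ ⟨a, ha, rfl⟩
    exact hg a ha
  refine sup_le (fun j hj => key j fun a ha => ?_) (fun q hq => key q fun a ha => ?_)
  · rwa [D.Jc j hj a ha.1, mul_inv_cancel_right]
  · have h := mul_mem (D.Z_le_A (D.comm_Q hq ha.2)) ha
    rwa [commutatorElement_def, inv_mul_cancel_right] at h

theorem Data.mem_J {s : G} (hs : s ∈ (D.S : Subgroup G)) (hc : ∀ a ∈ D.A, a * s = s * a) : s ∈ D.J := by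
  obtain ⟨j, hj, q, hq, rfl⟩ := D.exists_jq hs
  have hq' : q ∈ D.A := D.cent_A_Q hq fun a ha => by
    have h := hc a ha
    rw [← mul_assoc, D.Jc a ha.1 j hj, mul_assoc, mul_assoc] at h
    exact mul_left_cancel h
  exact mul_mem hj hq'.1

theorem Data.S_le_NJ : (D.S : Subgroup G) ≤ Subgroup.normalizer (D.J : Set G) := fun s hs => by
  rw [Subgroup.mem_normalizer_iff_map_conj_eq]
  refine Subgroup.eq_of_le_of_card_ge ?_ (le_of_eq (Subgroup.card_map_of_injective (MulEquiv.injective _)).symm)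
  rintro _ ⟨j, hj, rfl⟩
  refine D.mem_J (mul_mem (mul_mem hs (D.hJS hj)) (inv_mem hs)) fun a ha => ?_
  have h := D.Jc (s⁻¹ * a * s) (by simpa using (mem_norm (inv_mem (D.S_le_NA hs)) ha : _ ∈ D.A).1) j hj
  show a * (s * j * s⁻¹) = s * j * s⁻¹ * a
  calc a * (s * j * s⁻¹) = s * (s⁻¹ * a * s * j) * s⁻¹ := by group
    _ = s * (j * (s⁻¹ * a * s)) * s⁻¹ := by rw [h]
    _ = _ := by group

theorem Data.S_le_M : (D.S : Subgroup G) ≤ D.M := fun _ hs => D.M_three _ (D.S_le_NJ hs) (three_pow D.S.2 hs)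

theorem Data.cent_J {g : G} (hg : ∀ a ∈ D.J, a * g = g * a) : g ∈ D.J := by
  haveI : Fact (Nat.Prime 3) := ⟨Nat.prime_three⟩
  set C := Subgroup.centralizer (D.J : Set G) with hC
  -- elements of order prime to three are trivial
  have h3' : ∀ k ∈ C, ∀ n : ℕ, k ^ n = 1 → Nat.Coprime n 3 → k = 1 := by
    intro k hk n hn hco
    have hkJ : ∀ a ∈ D.J, a * k = k * a := Subgroup.mem_centralizer_iff.1 hk
    have hkN : k ∈ Subgroup.normalizer (D.Z : Set G) :=
      cent_le_norm _ (Subgroup.mem_centralizer_iff.2 fun z hz => hkJ z (D.Z_le_J hz))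
    have hkA : ∀ a ∈ D.A, k * a * k⁻¹ = a := fun a ha => by rw [← hkJ a ha.1, mul_inv_cancel_right]
    have hkQ : ∀ q ∈ D.Q, q * k = k * q := by
      intro q hq
      have hq' : k * q * k⁻¹ ∈ D.Q := mem_norm (D.Q_conj hkN) hq
      have hd : q⁻¹ * (k * q * k⁻¹) ∈ D.A := by
        refine D.cent_A_Q (mul_mem (inv_mem hq) hq') fun a ha => ?_
        have hqa : q * a * q⁻¹ ∈ D.A := mem_norm (D.S_le_NA (D.QS hq)) ha
        calc a * (q⁻¹ * (k * q * k⁻¹)) = q⁻¹ * (q * a * q⁻¹) * (k * q * k⁻¹) := by group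
          _ = q⁻¹ * (k * (q * a * q⁻¹) * k⁻¹) * (k * q * k⁻¹) := by rw [hkA _ hqa]
          _ = q⁻¹ * (k * q * a * k⁻¹) := by group
          _ = q⁻¹ * (k * q * k⁻¹ * (k * a * k⁻¹)) := by group
          _ = _ := by rw [hkA a ha]; group
      set d := q⁻¹ * (k * q * k⁻¹) with hd'
      have hpow : ∀ m : ℕ, k ^ m * q * (k ^ m)⁻¹ = q * d ^ m := by
        intro m
        induction m with
        | zero => simp
        | succ m ih =>
          calc k ^ (m + 1) * q * (k ^ (m + 1))⁻¹ = k * (k ^ m * q * (k ^ m)⁻¹) * k⁻¹ := by rw [pow_succ']; group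
            _ = k * (q * d ^ m) * k⁻¹ := by rw [ih]
            _ = k * q * k⁻¹ * (k * d ^ m * k⁻¹) := by group
            _ = q * d * d ^ m := by rw [hkA _ (pow_mem hd m), hd']; group
            _ = q * d ^ (m + 1) := by rw [pow_succ']; group
      have h1 : d ^ n = 1 := by
        have := hpow n
        rw [hn] at this
        simpa using this
      have h2 : d = 1 := by
        have := pow_gcd_eq_one.2 ⟨h1, D.Je d hd.1⟩
        rwa [hco.gcd_eq_one, pow_one] at this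
      rw [hd', inv_mul_eq_one] at h2
      calc q * k = k * q * k⁻¹ * k := by rw [← h2]
        _ = k * q := by group
    have h3 := D.Qe k (D.QC (Subgroup.mem_centralizer_iff.2 hkQ))
    have := pow_gcd_eq_one.2 ⟨hn, h3⟩
    rwa [hco.gcd_eq_one, pow_one] at this
  have hCp : IsPGroup 3 C := by
    intro k
    obtain ⟨e, m, hm, hk⟩ := Nat.exists_eq_pow_mul_and_not_dvd (orderOf_pos k).ne' 3 (by norm_num)
    refine ⟨e, Subtype.ext (h3' _ (k ^ 3 ^ e).2 m ?_ ((Nat.prime_three.coprime_iff_not_dvd).2 hm).symm)⟩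
    rw [Subgroup.coe_pow, ← pow_mul, ← hk, ← Subgroup.coe_pow, pow_orderOf_eq_one, Subgroup.coe_one]
  have hn : (D.S : Subgroup G) ≤ Subgroup.normalizer (C : Set G) := fun s hs => by
    rw [Subgroup.mem_normalizer_iff_map_conj_eq]
    refine Subgroup.eq_of_le_of_card_ge ?_ (le_of_eq (Subgroup.card_map_of_injective (MulEquiv.injective _)).symm)
    rintro _ ⟨k, hk, rfl⟩
    refine Subgroup.mem_centralizer_iff.2 fun a ha => ?_
    have h := Subgroup.mem_centralizer_iff.1 hk _ (mem_norm (inv_mem (D.S_le_NJ hs)) ha)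
    show a * (s * k * s⁻¹) = s * k * s⁻¹ * a
    calc a * (s * k * s⁻¹) = s * (s⁻¹ * a * s⁻¹⁻¹ * k) * s⁻¹ := by group
      _ = s * (k * (s⁻¹ * a * s⁻¹⁻¹)) * s⁻¹ := by rw [h]
      _ = _ := by group
  have hsup : IsPGroup 3 (C ⊔ D.S : Subgroup G) := IsPGroup.to_sup_of_normal_left' hCp D.S.2 hn
  have hCS : C ≤ D.S := le_sup_left.trans (le_of_eq (D.S.3 hsup le_sup_right))
  have hgC : g ∈ C := Subgroup.mem_centralizer_iff.2 hg
  exact D.mem_J (hCS hgC) fun a ha => hg a ha.1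

end Cfsg.Agent.MclThree
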