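import Cfsg.Agent.Lib.Recognition.MclThreeLocal.Vec

/-!
The matrices of the basic elements on the elementary abelian subgroup.
-/

set_option autoImplicit false
set_option linter.unusedSectionVars false
set_option synthInstance.maxSize 2000
set_option maxRecDepth 100000

namespace Cfsg.Agent.MclThree

open scoped commutatorElement

universe u

/-- the four-cycle -/
def fM (l : ZMod 3) (v : V4) : V4 := (l * v.1, -v.2.2.1, v.2.1, l * v.2.2.2)

/-- the inverse of the four-cycle -/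
def fMi (l : ZMod 3) (v : V4) : V4 := (l * v.1, v.2.2.1, -v.2.1, l * v.2.2.2)

/-- the elements of the Sylow subgroup, general form -/
def pK (k u v : ZMod 3) (w : V4) : V4 :=
  (w.1 + k * (u * w.2.1 + v * w.2.2.1) - k * (u * u + v * v) * w.2.2.2, w.2.1 + u * w.2.2.2, w.2.2.1 + v * w.2.2.2,
    w.2.2.2)

theorem fM_add : ∀ l : ZMod 3, ∀ v w : V4, fM l (v + w) = fM l v + fM l w := by
  intro l v w
  simp [fM, mul_add, neg_add_rev, add_comm]

theorem pK_add (k u v : ZMod 3) (x y : V4) : pK k u v (x + y) = pK k u v x + pK k u v y := by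
  simp only [pK, Prod.fst_add, Prod.snd_add, Prod.mk_add_mk, Prod.mk.injEq]
  refine ⟨?_, ?_, ?_, trivial⟩ <;> ring

variable {G : Type u} [Group G] [Finite G] {D : Data G}

namespace Norm

variable (K : Norm D)

/-- action by a matrix -/
def Acts (z e1 : G) (m : D.M) (A : V4 → V4) : Prop :=
  ∀ v, (m : G) * K.ι z e1 v * (m : G)⁻¹ = K.ι z e1 (A v)

theorem S_split {s : G} (hs : s ∈ (D.S : Subgroup G)) {a : G} (ha : a ∈ D.A) : s * a * s⁻¹ * a⁻¹ ∈ D.Z := by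
  obtain ⟨j, hj, q, hq, rfl⟩ := D.exists_jq hs
  have hc := D.comm_Q hq ha.2
  rw [commutatorElement_def] at hc
  have hqa : q * a * q⁻¹ ∈ D.J := (mem_norm (D.S_le_NA (D.QS hq)) ha).1
  have e : j * q * a * (j * q)⁻¹ = q * a * q⁻¹ := by
    calc j * q * a * (j * q)⁻¹ = j * (q * a * q⁻¹) * j⁻¹ := by group
      _ = _ := by rw [D.Jc j hj _ hqa, mul_inv_cancel_right]
  rwa [e]

theorem S_z' {s : G} (hs : s ∈ (D.S : Subgroup G)) {c : G} (hc : c ∈ D.J) : s * c * s⁻¹ * c⁻¹ ∈ D.A := by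
  obtain ⟨j, hj, q, hq, rfl⟩ := D.exists_jq hs
  have hqJ : q * c * q⁻¹ ∈ D.J := mem_norm (D.S_le_NJ (D.QS hq)) hc
  have e : j * q * c * (j * q)⁻¹ = q * c * q⁻¹ := by
    calc j * q * c * (j * q)⁻¹ = j * (q * c * q⁻¹) * j⁻¹ := by group
      _ = _ := by rw [D.Jc j hj _ hqJ, mul_inv_cancel_right]
  rw [e]
  refine Subgroup.mem_inf.2 ⟨mul_mem hqJ (inv_mem hc), ?_⟩
  rw [show q * c * q⁻¹ * c⁻¹ = q * (c * q⁻¹ * c⁻¹) by group]
  exact mul_mem hq (mem_norm (D.Q_conj (D.S_le_NZ (D.hJS hc))) (inv_mem hq))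

/-- an element of the Sylow subgroup fixing the second point is in the abelian subgroup -/
theorem S_fix {z : G} (hz : z ∈ D.Z) (h1 : z ≠ 1) {s : G} (hs : s ∈ (D.S : Subgroup G))
    (h : s * K.z' z * s⁻¹ = K.z' z) : s ∈ D.J := by
  set n : D.M := K.g⁻¹ * ⟨s, D.S_le_M hs⟩ * K.g with hn
  have e : (n : G) * z * (n : G)⁻¹ = z := by
    rw [hn]
    simp only [Subgroup.coe_mul, Subgroup.coe_inv]
    calc (K.g : G)⁻¹ * s * K.g * z * ((K.g : G)⁻¹ * s * K.g)⁻¹
        = (K.g : G)⁻¹ * (s * K.z' z * s⁻¹) * K.g := by rw [z']; group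
      _ = z := by rw [h, z']; group
  have hN : (n : G) ∈ Subgroup.normalizer (D.Z : Set G) := by
    rw [Subgroup.mem_normalizer_iff_map_conj_eq]
    refine Subgroup.eq_of_le_of_card_ge ?_ (le_of_eq (Subgroup.card_map_of_injective (MulEquiv.injective _)).symm)
    rintro _ ⟨w, hw, rfl⟩
    show (n : G) * w * (n : G)⁻¹ ∈ D.Z
    rcases Z_gen hz h1 hw with rfl | rfl | rfl
    · simp
    · rw [e]; exact hw
    · rw [show (n : G) * z⁻¹ * (n : G)⁻¹ = ((n : G) * z * (n : G)⁻¹)⁻¹ by group, e]; exact hw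
  have hp := (K.hS ⟨s, D.S_le_M hs⟩).1 hs
  refine (K.ker ⟨s, D.S_le_M hs⟩).1 (six_reg _ hp ?_)
  have := K.NZ_syl hN
  rwa [hn, map_mul, map_mul, map_inv, K.hg] at this

/-- the conjugates of the second point under the Sylow subgroup differ outside the centre -/
theorem S_ker {z : G} (hz : z ∈ D.Z) (h1 : z ≠ 1) {s : G} (hs : s ∈ (D.S : Subgroup G))
    (h : s * K.z' z * s⁻¹ * (K.z' z)⁻¹ ∈ D.Z) : s ∈ D.J := by
  haveI : Fact (Nat.Prime 3) := ⟨Nat.prime_three⟩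
  by_contra hsJ
  set c := K.z' z with hc
  have hcent : ∀ {x : G}, x ∈ (D.S : Subgroup G) → x * c * x⁻¹ * c⁻¹ ∈ D.Z → ∀ {y : G}, y ∈ (D.S : Subgroup G) →
      y * c * y⁻¹ * c⁻¹ ∈ D.Z → (x * y) * c * (x * y)⁻¹ * c⁻¹ = (y * c * y⁻¹ * c⁻¹) * (x * c * x⁻¹ * c⁻¹) := by
    intro x hx _ y _ hy2
    have hxy := (D.mem_Z.1 hy2).2 x hx
    calc (x * y) * c * (x * y)⁻¹ * c⁻¹ = x * (y * c * y⁻¹ * c⁻¹) * x⁻¹ * (x * c * x⁻¹ * c⁻¹) := by group
      _ = _ := by rw [hxy, mul_inv_cancel_right]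
  let T : Subgroup G :=
    { carrier := {x | x ∈ (D.S : Subgroup G) ∧ x * c * x⁻¹ * c⁻¹ ∈ D.Z}
      one_mem' := ⟨one_mem _, by simp⟩
      mul_mem' := fun {x y} hx hy => ⟨mul_mem hx.1 hy.1, by rw [hcent hx.1 hx.2 hy.1 hy.2]; exact mul_mem hy.2 hx.2⟩
      inv_mem' := fun {x} hx => ⟨inv_mem hx.1, by
        have hxc := (D.mem_Z.1 hx.2).2 x hx.1
        have e : x⁻¹ * c * x⁻¹⁻¹ * c⁻¹ = (x * c * x⁻¹ * c⁻¹)⁻¹ := by
          calc x⁻¹ * c * x⁻¹⁻¹ * c⁻¹ = (x⁻¹ * (x * c * x⁻¹ * c⁻¹) * x)⁻¹ := by group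
            _ = (x⁻¹ * ((x * c * x⁻¹ * c⁻¹) * x))⁻¹ := by group
            _ = _ := by rw [← hxc]; group
        rw [e]; exact inv_mem hx.2⟩ }
  have hJT : D.J ≤ T := fun j hj => ⟨D.hJS hj, by
    rw [D.Jc j hj c (K.z'_J hz)]; simp⟩
  have hfT : (K.f : G) * s * (K.f : G)⁻¹ ∈ T := by
    refine ⟨mem_norm K.f_NS hs, ?_⟩
    have hfc : (K.f : G) * c * (K.f : G)⁻¹ = c ∨ (K.f : G) * c * (K.f : G)⁻¹ = c⁻¹ := by
      have e : (K.f : G) * c * (K.f : G)⁻¹ = (K.g : G) * ((K.f : G)⁻¹ * z * K.f) * (K.g : G)⁻¹ := by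
        have hcg : K.φ (K.f * K.g) = K.φ (K.g * K.f⁻¹) := by
          rw [map_mul, map_mul, map_inv, K.hf, K.hg]; decide +kernel
        calc (K.f : G) * c * (K.f : G)⁻¹ = ((K.f * K.g : D.M) : G) * z * ((K.f * K.g : D.M) : G)⁻¹ := by
              simp [hc, z', mul_assoc]
          _ = ((K.g * K.f⁻¹ : D.M) : G) * z * ((K.g * K.f⁻¹ : D.M) : G)⁻¹ := K.act_congr hcg (D.Z_le_J hz)
          _ = _ := by simp [mul_assoc]
      have hfz : (K.f : G)⁻¹ * z * K.f ∈ D.Z := by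
        have := mem_norm (inv_mem K.f_NZ) hz
        rwa [inv_inv] at this
      rcases Z_gen hz h1 hfz with h' | h' | h' <;> rw [h'] at e
      · exfalso
        exact h1 (by rw [show z = (K.f : G) * ((K.f : G)⁻¹ * z * K.f) * (K.f : G)⁻¹ by group, h']; group)
      · exact Or.inl (by rw [e, hc, z'])
      · exact Or.inr (by rw [e, hc, z']; group)
    have hm := mem_norm K.f_NZ h
    set y := (K.f : G) * s * (K.f : G)⁻¹ with hy
    have e : y * ((K.f : G) * c * (K.f : G)⁻¹) * y⁻¹ * ((K.f : G) * c * (K.f : G)⁻¹)⁻¹ =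
        (K.f : G) * (s * c * s⁻¹ * c⁻¹) * (K.f : G)⁻¹ := by rw [hy]; group
    rw [← e] at hm
    rcases hfc with e1 | e1 <;> rw [e1] at hm
    · exact hm
    · rw [inv_inv] at hm
      have hcc := (D.mem_Z.1 (inv_mem hm)).2 c (D.hJS (K.z'_J hz))
      rw [show y * c * y⁻¹ * c⁻¹ = c * (y * c⁻¹ * y⁻¹ * c)⁻¹ * c⁻¹ by group, hcc, mul_inv_cancel_right]
      exact inv_mem hm
  have hall : (D.S : Subgroup G) ≤ T := by
    intro x hx
    have hs' := (K.hS ⟨s, D.S_le_M hs⟩).1 hs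
    have hs1 : K.φ ⟨s, D.S_le_M hs⟩ ≠ 1 := fun e => hsJ ((K.ker _).1 e)
    obtain ⟨i, -, j, -, e⟩ := six_f.2.2 _ hs' hs1 _ ((K.hS ⟨x, D.S_le_M hx⟩).1 hx)
    set w : D.M := ⟨s, D.S_le_M hs⟩ ^ i * (K.f * ⟨s, D.S_le_M hs⟩ * K.f⁻¹) ^ j with hw
    have hj : ((w⁻¹ * ⟨x, D.S_le_M hx⟩ : D.M) : G) ∈ D.J := (K.ker _).1 (by
      rw [map_mul, map_inv, e, hw, map_mul, map_pow, map_pow, map_mul, map_mul, map_inv, K.hf, inv_mul_cancel])
    have hwT : (w : G) ∈ T := by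
      rw [hw]; simp only [Subgroup.coe_mul, Subgroup.coe_pow, Subgroup.coe_inv]
      exact mul_mem (pow_mem (show s ∈ T from ⟨hs, h⟩) i) (pow_mem hfT j)
    have := mul_mem hwT (hJT hj)
    simpa using this
  let θ : (D.S : Subgroup G) →* D.Z :=
    { toFun := fun x => ⟨_, (hall x.2).2⟩
      map_one' := Subtype.ext (by simp)
      map_mul' := fun x y => Subtype.ext (by
        show ((x : G) * y) * c * ((x : G) * y)⁻¹ * c⁻¹ = _
        rw [hcent x.2 (hall x.2).2 y.2 (hall y.2).2]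
        exact (D.Jc _ (D.Z_le_J (hall x.2).2) _ (D.Z_le_J (hall y.2).2)).symm) }
  have hk : Nat.card θ.ker ≤ 81 := by
    rw [← D.hJ]
    refine le_of_eq_of_le (Subgroup.card_map_of_injective (D.S : Subgroup G).subtype_injective).symm
      (Subgroup.card_le_of_le ?_)
    rintro _ ⟨x, hx, rfl⟩
    refine K.S_fix hz h1 x.2 ?_
    exact mul_inv_eq_one.1 (congrArg Subtype.val hx)
  have hr : Nat.card θ.range ≤ 3 := (Subgroup.card_le_card_group _).trans_eq D.Z_eq.2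
  have := Subgroup.card_mul_index θ.ker
  rw [Subgroup.index_ker, D.card_S.1] at this
  nlinarith

/-- the component inverted by the involution -/
def wp (a : G) : G := (a * ((K.t : G) * a * (K.t : G)⁻¹)⁻¹) ^ 2

namespace Base

variable {K} {z e1 : G} (b : K.Base z e1)
include b

theorem acts_of_basis (m : D.M) (A : V4 → V4) (hA : ∀ v w, A (v + w) = A v + A w)
    (h1 : (m : G) * z * (m : G)⁻¹ = K.ι z e1 (A (1, 0, 0, 0)))
    (h2 : (m : G) * e1 * (m : G)⁻¹ = K.ι z e1 (A (0, 1, 0, 0)))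
    (h3 : (m : G) * ((K.f : G) * e1 * (K.f : G)⁻¹) * (m : G)⁻¹ = K.ι z e1 (A (0, 0, 1, 0)))
    (h4 : (m : G) * K.z' z * (m : G)⁻¹ = K.ι z e1 (A (0, 0, 0, 1))) : K.Acts z e1 m A := by
  have b1 : K.ι z e1 (1, 0, 0, 0) = z := by simp [ι, pw_one, pw_zero]
  have b2 : K.ι z e1 (0, 1, 0, 0) = e1 := by simp [ι, pw_one, pw_zero]
  have b3 : K.ι z e1 (0, 0, 1, 0) = (K.f : G) * e1 * (K.f : G)⁻¹ := by simp [ι, pw_one, pw_zero]
  have b4 : K.ι z e1 (0, 0, 0, 1) = K.z' z := by simp [ι, pw_one, pw_zero]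
  let T : AddSubgroup V4 :=
    { carrier := {v | (m : G) * K.ι z e1 v * (m : G)⁻¹ = K.ι z e1 (A v)}
      zero_mem' := by
        have h0 : A 0 = 0 := by
          have := hA 0 0
          rw [add_zero] at this
          exact left_eq_add.1 this
        show _ = _
        rw [h0, b.zero, mul_one, mul_inv_cancel]
      add_mem' := fun {v w} hv hw => by
        show _ = _
        rw [hA, b.add, b.add, ← hv, ← hw]; group
      neg_mem' := fun {v} hv => by
        show _ = _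
        have h0 : A (-v) = -A v := by
          have := hA v (-v)
          rw [add_neg_cancel] at this
          have h0' : A 0 = 0 := by
            have := hA 0 0
            rw [add_zero] at this
            exact left_eq_add.1 this
          rw [h0'] at this
          exact (neg_eq_of_add_eq_zero_right this.symm).symm
        rw [h0, b.neg, b.neg, ← hv]; group }
  intro v
  have : v ∈ T := by
    obtain ⟨a, x, y, c⟩ := v
    have e : ((a, x, y, c) : V4) = a.val • (1, 0, 0, 0) + x.val • (0, 1, 0, 0) + y.val • (0, 0, 1, 0) +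
        c.val • (0, 0, 0, 1) := by
      simp [ZMod.natCast_zmod_val]
    rw [e]
    refine add_mem (add_mem (add_mem (nsmul_mem ?_ _) (nsmul_mem ?_ _)) (nsmul_mem ?_ _)) (nsmul_mem ?_ _)
    · show _ = _; rw [b1, h1]
    · show _ = _; rw [b2, h2]
    · show _ = _; rw [b3, h3]
    · show _ = _; rw [b4, h4]
  exact this

theorem comp {m n : D.M} {A B : V4 → V4} (h : K.Acts z e1 m A) (h' : K.Acts z e1 n B) :
    K.Acts z e1 (m * n) (fun v => A (B v)) := fun v => by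
  rw [← h, ← h']; simp [mul_assoc]

theorem eq {m n : D.M} {A B : V4 → V4} (h : K.Acts z e1 m A) (h' : K.Acts z e1 n B) (hmn : K.φ m = K.φ n) (v : V4) :
    A v = B v := b.inj (by rw [← h, ← h']; exact K.act_congr hmn (b.mem v))

theorem congr {m n : D.M} {A : V4 → V4} (h : K.Acts z e1 m A) (hmn : K.φ m = K.φ n) : K.Acts z e1 n A := fun v => by
  rw [← h]; exact (K.act_congr hmn (b.mem v)).symm

theorem exists_f : ∃ l : ZMod 3, (l = 1 ∨ l = -1) ∧ K.Acts z e1 K.f (fM l) ∧ K.Acts z e1 K.f⁻¹ (fMi l) := by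
  have hfz := mem_norm K.f_NZ b.hz
  have hl : ∃ l : ZMod 3, (l = 1 ∨ l = -1) ∧ (K.f : G) * z * (K.f : G)⁻¹ = pw z l := by
    rcases Z_gen b.hz b.z1 hfz with h | h | h
    · exact absurd (conj_eq_one_iff.1 h) b.z1
    · exact ⟨1, Or.inl rfl, by rw [pw_one]; exact h⟩
    · refine ⟨-1, Or.inr rfl, h.trans ?_⟩
      refine inv_eq_of_mul_eq_one_right ?_
      nth_rw 1 [← pw_one z]
      rw [← pw_add (D.Je _ b.mems.1), add_neg_cancel, pw_zero]
  obtain ⟨l, hl1, hl⟩ := hl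
  have hz' : (K.f : G) * K.z' z * (K.f : G)⁻¹ = pw (K.z' z) l := by
    have hcg : K.φ (K.f * K.g) = K.φ (K.g * K.f⁻¹) := by
      rw [map_mul, map_mul, map_inv, K.hf, K.hg]; decide +kernel
    have hfi : (K.f : G)⁻¹ * z * K.f = pw z l := by
      rcases hl1 with rfl | rfl
      · rw [pw_one] at hl ⊢
        nth_rw 1 [← hl]; group
      · have e : pw z (-1 : ZMod 3) = z⁻¹ := by
          refine eq_inv_of_mul_eq_one_left ?_
          nth_rw 2 [← pw_one z]
          rw [← pw_add (D.Je _ b.mems.1), neg_add_cancel, pw_zero]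
        rw [e] at hl ⊢
        have : z = (K.f : G) * z⁻¹ * (K.f : G)⁻¹ := by
          rw [show (K.f : G) * z⁻¹ * (K.f : G)⁻¹ = ((K.f : G) * z * (K.f : G)⁻¹)⁻¹ by group, hl, inv_inv]
        nth_rw 1 [this]; group
    calc (K.f : G) * K.z' z * (K.f : G)⁻¹ = ((K.f * K.g : D.M) : G) * z * ((K.f * K.g : D.M) : G)⁻¹ := by
          simp [z', mul_assoc]
      _ = ((K.g * K.f⁻¹ : D.M) : G) * z * ((K.g * K.f⁻¹ : D.M) : G)⁻¹ := K.act_congr hcg (D.Z_le_J b.hz)
      _ = (K.g : G) * ((K.f : G)⁻¹ * z * K.f) * (K.g : G)⁻¹ := by simp [mul_assoc]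
      _ = _ := by rw [hfi, pw_conj, z']
  have hff : (K.f : G) * ((K.f : G) * e1 * (K.f : G)⁻¹) * (K.f : G)⁻¹ = e1⁻¹ := by
    rw [← b.he.2, t, Subgroup.coe_mul]; group
  have hact : K.Acts z e1 K.f (fM l) := by
    refine b.acts_of_basis _ _ (fM_add l) ?_ ?_ ?_ ?_
    · rw [hl]; simp [ι, fM, pw_zero]
    · simp [ι, fM, pw_zero, pw_one]
    · rw [hff]
      simp only [fM, mul_zero, ι, pw_zero, one_mul, mul_one, neg_zero]
      refine inv_eq_of_mul_eq_one_right ?_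
      nth_rw 1 [← pw_one e1]
      rw [← pw_add (D.Je _ b.mems.2.1), add_neg_cancel, pw_zero]
    · rw [hz']; simp [ι, fM, pw_zero]
  refine ⟨l, hl1, hact, fun v => ?_⟩
  have e : fM l (fMi l v) = v := by
    obtain ⟨a, x, y, c⟩ := v
    rcases hl1 with rfl | rfl <;> simp [fM, fMi]
  have := hact (fMi l v)
  rw [e] at this
  rw [← this]; simp [mul_assoc]

end Base

end Norm

end Cfsg.Agent.MclThree
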