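import Cfsg.Agent.Lib.Recognition.MclThreeLocal.Cent2

/-!
Elements of the normalisers fixing the two isotropic points, and the stabiliser of a point of the section.
-/

set_option autoImplicit false
set_option linter.unusedSectionVars false
set_option synthInstance.maxSize 2000
set_option maxRecDepth 100000

namespace Cfsg.Agent.MclThree

universe u

theorem app_one (w : V2) : app (1, 0, 0, 1) w = w := by simp [app]

theorem app_neg_one (w : V2) : app (-1, 0, 0, -1) w = -w := by simp [app, Prod.ext_iff]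

theorem lm_one (v : V4) : lm 1 1 (1, 0, 0, 1) v = v := by simp [lm, app]

theorem pK_inverse : ∀ u v : ZMod 3, ∀ w : V4, pK (-1) (-u) (-v) (pK (-1) u v w) = w := by
  decide +kernel

theorem rot_four : ∀ H : Mt, (H = (1, 0, 0, 1) ∨ H = (-1, 0, 0, -1) ∨ H = (0, -1, 1, 0) ∨ H = (0, 1, -1, 0)) →
    ∀ w : V2, app H (app H (app H (app H w))) = w := by
  decide +kernel

variable {G : Type u} [Group G] [Finite G] {D : Data G}

namespace Ctx

variable (C : Ctx D)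
include C

theorem A_b {v : V4} (h : C.vec v ∈ D.Q) : v.2.2.2 = 0 := by
  obtain ⟨a, x, y, b⟩ := v
  by_contra hb
  have h2 : C.vec (0, 0, 0, b) ∈ D.Q := by
    have e : C.vec (0, 0, 0, b) = (C.vec (a, x, y, 0))⁻¹ * C.vec (a, x, y, b) := by
      rw [eq_inv_mul_iff_mul_eq, ← C.vec_add]; simp
    rw [e]
    exact mul_mem (inv_mem (C.vec_A a x y).2) h
  refine C.toNorm.zp_not_A C.base.hz C.base.z1 ?_
  show C.toNorm.z' C.z ∈ D.A
  refine ⟨C.toNorm.z'_J C.base.hz, ?_⟩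
  rw [← C.vec_z']
  rcases (show ∀ b : ZMod 3, b ≠ 0 → b = 1 ∨ b + b = 1 by decide) b hb with rfl | e
  · exact h2
  · rw [← e, show ((0 : ZMod 3), (0 : ZMod 3), (0 : ZMod 3), b + b) = ((0, 0, 0, b) : V4) + (0, 0, 0, b) by simp,
      C.vec_add]
    exact mul_mem h2 h2

theorem z_pow_mem {α : ZMod 3} : C.vec (α, 0, 0, 0) ∈ D.Z := C.mem_Z_iff.2 ⟨rfl, rfl, rfl⟩

theorem Z_mem {x : G} (hx : x ∈ D.Z) : ∃ i : ZMod 3, x = C.vec (i, 0, 0, 0) := by
  obtain ⟨⟨i, a, b, c⟩, rfl⟩ := C.vec_surj (D.Z_le_J hx)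
  obtain ⟨h1, h2, h3⟩ := C.mem_Z_iff.1 hx
  simp only at h1 h2 h3
  subst h1 h2 h3
  exact ⟨i, rfl⟩

theorem mem_NZ {n : G} {α : ZMod 3} (hz : n * C.z * n⁻¹ = C.vec (α, 0, 0, 0)) :
    n ∈ Subgroup.normalizer (D.Z : Set G) := by
  rw [Subgroup.mem_normalizer_iff_map_conj_eq]
  refine Subgroup.eq_of_le_of_card_ge ?_ (le_of_eq (Subgroup.card_map_of_injective (MulEquiv.injective _)).symm)
  rintro _ ⟨x, hx, rfl⟩
  obtain ⟨i, rfl⟩ := C.Z_mem hx
  show n * C.vec (i, 0, 0, 0) * n⁻¹ ∈ D.Z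
  rw [show C.vec (i, 0, 0, 0) = pw (C.vec (1, 0, 0, 0)) i by rw [C.vec_smul]; simp, pw_conj, C.vec_z, hz]
  exact pw_mem C.z_pow_mem _

/-- the action of an element of the normaliser stabilising both isotropic points -/
theorem lin' {n : G} (hn : n ∈ Subgroup.normalizer (D.J : Set G)) {α β : ZMod 3} (hβ : β ≠ 0)
    (hz : n * C.z * n⁻¹ = C.vec (α, 0, 0, 0)) (hz' : n * C.toNorm.z' C.z * n⁻¹ = C.vec (0, 0, 0, β)) :
    ∃ H : Mt, (∀ v, n * C.vec v * n⁻¹ = C.vec (lm α β H v)) ∧ ∀ w, qf (app H w) = α * β * qf w := by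
  have hQ := D.Q_conj (C.mem_NZ hz)
  have mid : ∀ x y : ZMod 3, ∃ g p r, n * C.vec (0, x, y, 0) * n⁻¹ = C.vec (g, p, r, 0) := fun x y => by
    obtain ⟨⟨g, p, r, s⟩, hw⟩ := C.vec_surj (mem_norm hn (C.vec_mem (0, x, y, 0)))
    have := C.A_b (v := (g, p, r, s)) (by rw [hw]; exact mem_norm hQ (C.vec_A 0 x y).2)
    simp only at this
    subst this
    exact ⟨g, p, r, hw.symm⟩
  obtain ⟨g1, p, r, h1⟩ := mid 1 0
  obtain ⟨g2, q, s, h2⟩ := mid 0 1
  have key : ∀ v : V4, n * C.vec v * n⁻¹ =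
      C.vec (α * v.1 + g1 * v.2.1 + g2 * v.2.2.1, (app (p, q, r, s) (v.2.1, v.2.2.1)).1,
        (app (p, q, r, s) (v.2.1, v.2.2.1)).2, β * v.2.2.2) := by
    rintro ⟨a, x, y, b⟩
    have e : C.vec (a, x, y, b) = pw (C.vec (1, 0, 0, 0)) a * pw (C.vec (0, 1, 0, 0)) x *
        pw (C.vec (0, 0, 1, 0)) y * pw (C.vec (0, 0, 0, 1)) b := by
      simp only [C.vec_smul]
      rw [← C.vec_add, ← C.vec_add, ← C.vec_add]
      simp
    rw [e, show n * (pw (C.vec (1, 0, 0, 0)) a * pw (C.vec (0, 1, 0, 0)) x * pw (C.vec (0, 0, 1, 0)) y *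
        pw (C.vec (0, 0, 0, 1)) b) * n⁻¹ = n * pw (C.vec (1, 0, 0, 0)) a * n⁻¹ *
        (n * pw (C.vec (0, 1, 0, 0)) x * n⁻¹) * (n * pw (C.vec (0, 0, 1, 0)) y * n⁻¹) *
        (n * pw (C.vec (0, 0, 0, 1)) b * n⁻¹) by group, pw_conj, pw_conj, pw_conj, pw_conj, C.vec_z, hz, C.vec_z',
      hz', h1, h2, C.vec_smul, C.vec_smul, C.vec_smul, C.vec_smul, ← C.vec_add, ← C.vec_add, ← C.vec_add]
    congr 1
    simp [app, mul_comm, add_comm]
  have hg : g1 = 0 ∧ g2 = 0 ∧ ∀ w, qf (app (p, q, r, s) w) = α * β * qf w := by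
    have step : ∀ x y : ZMod 3, g1 * x + g2 * y = 0 ∧ qf (app (p, q, r, s) (x, y)) = α * β * qf (x, y) := by
      intro x y
      have e1 := C.iso_perm hn (v := (qf (x, y), x, y, 1)) (by simp [nf, qf]) (key _)
      have e2 := C.iso_perm hn (v := (qf (x, y), -x, -y, 1)) (by simp [nf, qf]) (key _)
      simp only [nf, qf, app] at e1 e2 ⊢
      have h0 : β * (g1 * x + g2 * y) = 0 := by
        refine (show ∀ a : ZMod 3, a + a = 0 → a = 0 by decide) _ ?_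
        linear_combination e2 - e1
      have h0' := (mul_eq_zero.1 h0).resolve_left hβ
      refine ⟨h0', ?_⟩
      linear_combination e1 + β * h0'
    refine ⟨by simpa using (step 1 0).1, by simpa using (step 0 1).1, fun w => (step w.1 w.2).2⟩
  obtain ⟨rfl, rfl, hq⟩ := hg
  refine ⟨(p, q, r, s), fun v => ?_, hq⟩
  rw [key]; simp [lm]

/-- elements whose action commutes with the involution can be corrected to commute with it -/
theorem adjust {n : G} (hn : n ∈ Subgroup.normalizer (D.J : Set G))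
    (h : ∀ v, n * ((C.t : G) * C.vec v * (C.t : G)⁻¹) * n⁻¹ = (C.t : G) * (n * C.vec v * n⁻¹) * (C.t : G)⁻¹) :
    ∃ j ∈ D.J, j * n * C.t = C.t * (j * n) ∧ ∀ v, j * n * C.vec v * (j * n)⁻¹ = n * C.vec v * n⁻¹ := by
  set i := n * (C.t : G) * n⁻¹ * C.t with hi
  have hiJ : i ∈ D.J := by
    refine D.cent_J fun a ha => ?_
    obtain ⟨w, rfl⟩ := C.vec_surj ha
    obtain ⟨v, hv⟩ := C.vec_surj (mem_norm (inv_mem hn) (C.vec_mem ((fun w : V4 => (w.1, -w.2.1, -w.2.2.1, w.2.2.2)) w)))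
    refine (mul_inv_eq_iff_eq_mul.1 ?_).symm
    have e1 : n * C.vec v * n⁻¹ = (C.t : G) * C.vec w * (C.t : G)⁻¹ := by rw [hv, C.t_act]; group
    calc i * C.vec w * i⁻¹ = n * (C.t : G) * (n⁻¹ * ((C.t : G) * C.vec w * (C.t : G)⁻¹) * n) * (C.t : G)⁻¹ * n⁻¹ := by
          rw [hi]; group
      _ = n * ((C.t : G) * C.vec v * (C.t : G)⁻¹) * n⁻¹ := by rw [← e1]; group
      _ = (C.t : G) * ((C.t : G) * C.vec w * (C.t : G)⁻¹) * (C.t : G)⁻¹ := by rw [h, e1]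
      _ = ((C.t : G) * C.t) * C.vec w * ((C.t : G) * C.t)⁻¹ := by group
      _ = C.vec w := by rw [C.t_sq]; simp
  have hti : (C.t : G) * i * (C.t : G)⁻¹ = i⁻¹ := by
    refine eq_inv_of_mul_eq_one_left ?_
    have ht := C.t_sq
    calc (C.t : G) * i * (C.t : G)⁻¹ * i = (C.t : G) * n * ((C.t : G) * C.t) * n⁻¹ * C.t := by rw [hi]; group
      _ = _ := by rw [ht]; simpa using ht
  have h3 := D.Je i hiJ
  refine ⟨(i * i)⁻¹, inv_mem (mul_mem hiJ hiJ), ?_, fun v => ?_⟩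
  · have hnt : n * (C.t : G) = i * C.t * n := by
      rw [hi]
      calc n * (C.t : G) = n * (C.t : G) * n⁻¹ * ((C.t : G) * C.t) * n := by rw [C.t_sq]; group
        _ = _ := by group
    have hti' : (C.t : G) * (i * i)⁻¹ = (i * i) * C.t := by
      calc (C.t : G) * (i * i)⁻¹ = ((C.t : G) * i * (C.t : G)⁻¹ * ((C.t : G) * i * (C.t : G)⁻¹))⁻¹ * C.t := by group
        _ = _ := by rw [hti, ← mul_inv_rev, inv_inv]
    calc (i * i)⁻¹ * n * C.t = (i * i)⁻¹ * i * C.t * n := by rw [mul_assoc, hnt]; group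
      _ = (i ^ 3)⁻¹ * (i * i) * C.t * n := by
        congr 2
        rw [pow_succ, pow_two]; group
      _ = C.t * ((i * i)⁻¹ * n) := by rw [h3, inv_one, one_mul, ← hti', mul_assoc]
  · have hc := D.Jc _ (inv_mem (mul_mem hiJ hiJ)) _ (mem_norm hn (C.vec_mem v))
    calc (i * i)⁻¹ * n * C.vec v * ((i * i)⁻¹ * n)⁻¹ = (i * i)⁻¹ * (n * C.vec v * n⁻¹) * (i * i)⁻¹⁻¹ := by group
      _ = _ := by rw [hc, mul_inv_cancel_right]

/-- elements of the centraliser of the centre fixing the second point act as rotations -/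
theorem rot_of {n : G} (hn : n ∈ Subgroup.centralizer (D.Z : Set G))
    (hz' : n * C.toNorm.z' C.z * n⁻¹ = C.toNorm.z' C.z) : ∃ H : Mt,
    (H = (1, 0, 0, 1) ∨ H = (-1, 0, 0, -1) ∨ H = (0, -1, 1, 0) ∨ H = (0, 1, -1, 0)) ∧
      ∀ v, n * C.vec v * n⁻¹ = C.vec (lm 1 1 H v) := by
  have hnJ := (C.NJ_of (cent_le_norm _ hn) (by rw [hz']; exact D.hJS (C.toNorm.z'_J C.base.hz))).2
  obtain ⟨H, hH, -⟩ := C.lin' hnJ (α := 1) (β := 1) one_ne_zero (by rw [cZ hn C.base.hz, C.vec_z])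
    (by rw [hz', C.vec_z'])
  obtain ⟨j, hj, hjt, hja⟩ := C.adjust hnJ (fun v => by
    rw [C.t_act, hH, hH, C.t_act]
    congr 1
    simp [lm, app, add_comm])
  have hjZ : j ∈ Subgroup.centralizer (D.Z : Set G) :=
    Subgroup.mem_centralizer_iff.2 fun z hz => D.Jc z (D.Z_le_J hz) j hj
  obtain ⟨H', hc, hH'⟩ := C.stab_rot (mul_mem hjZ hn) hjt (by rw [← C.vec_z', hja, C.vec_z', hz'])
  exact ⟨H', hc, fun v => by rw [← hja, hH']⟩

/-- the stabiliser of a point of the section is in the Sylow subgroup -/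
theorem point_stab {a : G} (ha : a ∈ D.A) (haZ : a ∉ D.Z) {l : G} (hl : l ∈ D.L)
    (h : l * a * l⁻¹ * a⁻¹ ∈ D.Z) : l ∈ (D.S : Subgroup G) := by
  let T : Subgroup D.L :=
    { carrier := {l | (l : G) * a * (l : G)⁻¹ * a⁻¹ ∈ D.Z}
      one_mem' := by simp
      mul_mem' := fun {p q} hp hq => by
        show (p : G) * q * a * ((p : G) * q)⁻¹ * a⁻¹ ∈ D.Z
        rw [show (p : G) * q * a * ((p : G) * q)⁻¹ * a⁻¹ =
          (p : G) * ((q : G) * a * (q : G)⁻¹ * a⁻¹) * (p : G)⁻¹ * ((p : G) * a * (p : G)⁻¹ * a⁻¹) by group,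
          cZ (D.L_le p.2) hq]
        exact mul_mem hq hp
      inv_mem' := fun {p} hp => by
        show (p : G)⁻¹ * a * (p : G)⁻¹⁻¹ * a⁻¹ ∈ D.Z
        rw [show (p : G)⁻¹ * a * (p : G)⁻¹⁻¹ * a⁻¹ =
          (p : G)⁻¹ * ((p : G) * a * (p : G)⁻¹ * a⁻¹)⁻¹ * (p : G)⁻¹⁻¹ by group,
          cZ (inv_mem (D.L_le p.2)) (inv_mem hp)]
        exact inv_mem hp }
  set P := T.map D.ψ with hP
  have hzJ := C.toNorm.z'_J C.base.hz
  have hzL : C.toNorm.z' C.z ∈ D.L := D.S_le_L (D.hJS hzJ)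
  have hzT : (⟨_, hzL⟩ : D.L) ∈ T := by
    show C.toNorm.z' C.z * a * (C.toNorm.z' C.z)⁻¹ * a⁻¹ ∈ D.Z
    rw [D.Jc _ hzJ a ha.1]; simp
  have hneg : (-1 : SL5) ∉ P := by
    rintro ⟨p, hp, e⟩
    obtain ⟨htL, hψt⟩ := C.t_mem_L
    have hq : ((p * ⟨C.t, htL⟩ : D.L) : G) ∈ D.Q := (D.ψ_ker _).1 (by rw [map_mul, e, hψt, neg_mul_neg, one_mul])
    have hkt : (⟨C.t, htL⟩ : D.L) ∈ T := by
      have hpt : p * ⟨C.t, htL⟩ ∈ T := by
        show ((p * ⟨C.t, htL⟩ : D.L) : G) * a * ((p * ⟨C.t, htL⟩ : D.L) : G)⁻¹ * a⁻¹ ∈ D.Z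
        have := D.comm_Q hq ha.2
        rwa [commutatorElement_def] at this
      have := mul_mem (inv_mem hp) hpt
      rwa [inv_mul_cancel_left] at this
    refine haZ ?_
    have h1 : (C.t : G) * a * (C.t : G)⁻¹ * a⁻¹ ∈ D.Z := hkt
    have h2 := C.t_inv_Z a ha.2
    have h3 := mul_mem (inv_mem h1) h2
    rw [show ((C.t : G) * a * (C.t : G)⁻¹ * a⁻¹)⁻¹ * ((C.t : G) * a * (C.t : G)⁻¹ * a) = a * a by group] at h3
    have h4 := mul_mem h3 h3
    rwa [show a * a * (a * a) = a ^ 3 * a by simp [pow_succ, mul_assoc], D.Je a ha.1, one_mul] at h4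
  have h5 : ∀ s ∈ P, s ^ 5 = 1 → s = 1 := by
    rintro s ⟨p, hp, rfl⟩ hs
    have hq : ((p ^ 5 : D.L) : G) ∈ D.Q := (D.ψ_ker _).1 (by rw [map_pow, hs])
    set e := p ^ 6 with he
    have he5 : (e : G) ^ 5 = 1 := by
      rw [he, ← Subgroup.coe_pow, ← pow_mul, show 6 * 5 = 5 * (3 * 2) from rfl, pow_mul, pow_mul, Subgroup.coe_pow,
        Subgroup.coe_pow, D.Qe _ hq, one_pow]
    have hψe : D.ψ e = D.ψ p := by rw [he, map_pow, show 6 = 5 + 1 from rfl, pow_succ, hs, one_mul]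
    by_contra hne
    have he1 : (e : G) ≠ 1 := fun h' => hne (by rw [← hψe, show e = 1 from Subtype.ext h', map_one])
    set c := (e : G) * a * (e : G)⁻¹ * a⁻¹ with hc
    have hcZ : c ∈ D.Z := T.pow_mem hp 6
    have hk : ∀ k : ℕ, (e : G) ^ k * a * ((e : G) ^ k)⁻¹ = c ^ k * a := by
      intro k
      induction k with
      | zero => simp
      | succ k ih =>
        rw [pow_succ', show (e : G) * (e : G) ^ k * a * ((e : G) * (e : G) ^ k)⁻¹ =
          (e : G) * ((e : G) ^ k * a * ((e : G) ^ k)⁻¹) * (e : G)⁻¹ by group, ih,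
          show (e : G) * (c ^ k * a) * (e : G)⁻¹ = (e : G) * c ^ k * (e : G)⁻¹ * ((e : G) * a * (e : G)⁻¹) by group,
          cZ (D.L_le e.2) (pow_mem hcZ k), show (e : G) * a * (e : G)⁻¹ = c * a by rw [hc]; group, pow_succ, ← mul_assoc]
    have h' := hk 5
    rw [he5] at h'
    have hc5 : c ^ 5 = 1 := by simpa using h'.symm
    have hc1 := pow_gcd_eq_one.2 ⟨hc5, D.Je c (D.Z_le_J hcZ)⟩
    simp only [show Nat.gcd 5 3 = 1 from rfl, pow_one] at hc1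
    refine haZ (C.five_fixed e.2 he5 he1 ha.2 ?_)
    rw [hc, mul_inv_eq_one] at hc1
    exact hc1
  haveI : Fact (Nat.Prime 2) := ⟨Nat.prime_two⟩
  haveI : Fact (Nat.Prime 5) := ⟨Nat.prime_five⟩
  have hd : Nat.card P ∣ 3 := by
    have h120 : Nat.card P ∣ 2 ^ 3 * (5 * 3) := by
      have := P.card_subgroup_dvd_card
      rwa [sl_card] at this
    have hn2 : ¬ 2 ∣ Nat.card P := fun h2 => by
      obtain ⟨x, hx⟩ := exists_prime_orderOf_dvd_card' (G := P) 2 h2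
      have hxx : (x : SL5) * x = 1 := by
        rw [← Subgroup.coe_mul, ← pow_two]
        have hp := pow_orderOf_eq_one x
        rw [hx] at hp
        exact congrArg Subtype.val hp
      rcases sl_invol hxx with e | e
      · rw [show x = 1 from Subtype.ext e, orderOf_one] at hx; omega
      · exact hneg (e ▸ x.2)
    have hn5 : ¬ 5 ∣ Nat.card P := fun h' => by
      obtain ⟨x, hx⟩ := exists_prime_orderOf_dvd_card' (G := P) 5 h'
      have := h5 _ x.2 (by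
        rw [← Subgroup.coe_pow]
        have hp := pow_orderOf_eq_one x
        rw [hx] at hp
        exact congrArg Subtype.val hp)
      rw [show x = 1 from Subtype.ext this, orderOf_one] at hx
      omega
    have h15 := ((Nat.prime_two.coprime_iff_not_dvd.2 hn2).pow_left 3).symm.dvd_of_dvd_mul_left h120
    exact (Nat.prime_five.coprime_iff_not_dvd.2 hn5).symm.dvd_of_dvd_mul_left h15
  have hzle : Subgroup.zpowers (D.ψ ⟨_, hzL⟩) ≤ P := Subgroup.zpowers_le.2 ⟨_, hzT, rfl⟩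
  have hz3 : orderOf (D.ψ ⟨_, hzL⟩) = 3 := by
    haveI : Fact (Nat.Prime 3) := ⟨Nat.prime_three⟩
    refine orderOf_eq_prime ?_ fun e => C.toNorm.zp_not_A C.base.hz C.base.z1 ⟨hzJ, (D.ψ_ker _).1 e⟩
    rw [← map_pow, show (⟨_, hzL⟩ : D.L) ^ 3 = 1 from Subtype.ext (D.Je _ hzJ), map_one]
  have hPeq := Subgroup.eq_of_le_of_card_ge hzle (by rw [Nat.card_zpowers, hz3]; exact Nat.le_of_dvd (by norm_num) hd)
  have hlP : D.ψ ⟨l, hl⟩ ∈ P := ⟨_, h, rfl⟩
  rw [← hPeq, Subgroup.mem_zpowers_iff] at hlP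
  obtain ⟨i, hi⟩ := hlP
  have hq : (((⟨_, hzL⟩ : D.L) ^ i)⁻¹ * ⟨l, hl⟩ : D.L).1 ∈ D.Q := (D.ψ_ker _).1 (by
    rw [map_mul, map_inv, map_zpow, hi, inv_mul_cancel])
  have := mul_mem (zpow_mem (D.hJS hzJ) i) (D.QS hq)
  simpa using this

end Ctx

end Cfsg.Agent.MclThree
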