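import Cfsg.Agent.Lib.Recognition.MclThreeLocal.Adjust

/-!
The normaliser of an anisotropic element of the middle part, up to the point stabiliser.
-/

set_option autoImplicit false
set_option linter.unusedSectionVars false
set_option synthInstance.maxSize 2000
set_option maxRecDepth 100000

namespace Cfsg.Agent.MclThree

universe u

theorem qf_ne : ∀ x y : ZMod 3, x ≠ 0 ∨ y ≠ 0 → qf (x, y) ≠ 0 := by decide +kernel

theorem pK_middle : ∀ u v a x y : ZMod 3, (pK (-1) u v (a, x, y, 0)).2 = (x, y, 0) ∧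
    (pK (-1) u v (a, x, y, 0)).1 = a - (u * x + v * y) := by
  decide +kernel

theorem app_fix_cases : ∀ H : Mt, ∀ x y : ZMod 3, (x ≠ 0 ∨ y ≠ 0) →
    (H = (1, 0, 0, 1) ∨ H = (-1, 0, 0, -1) ∨ H = (0, -1, 1, 0) ∨ H = (0, 1, -1, 0)) →
    (app H (x, y) = (x, y) ∨ app H (x, y) = -(x, y)) → H = (1, 0, 0, 1) ∨ H = (-1, 0, 0, -1) := by
  decide +kernel

theorem pow_three_cases {M : Type*} [Group M] {a b : M} (h : a ^ 3 = 1) (hb : b ∈ Subgroup.zpowers a) :
    b = 1 ∨ b = a ∨ b = a⁻¹ := by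
  obtain ⟨i, rfl⟩ := Subgroup.mem_zpowers_iff.1 hb
  have h' : a ^ i = a ^ (i % 3) := by
    conv_lhs => rw [← Int.emod_add_mul_ediv i 3, zpow_add, zpow_mul]
    simp [show a ^ (3 : ℤ) = 1 by exact_mod_cast h]
  rw [h']
  rcases (by omega : i % 3 = 0 ∨ i % 3 = 1 ∨ i % 3 = 2) with e | e | e <;> rw [e]
  · simp
  · simp
  · refine Or.inr (Or.inr ?_)
    rw [eq_inv_iff_mul_eq_one, ← h]
    simp [pow_succ, zpow_two]

variable {G : Type u} [Group G] [Finite G] {D : Data G}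

namespace Ctx

variable (C : Ctx D) (x y : ZMod 3)

/-- the anisotropic element -/
abbrev av : G := C.vec (0, x, y, 0)

/-- the normaliser of its subgroup -/
abbrev Na : Subgroup G := Subgroup.normalizer (Subgroup.zpowers (C.av x y) : Set G)

/-- the point stabiliser -/
abbrev Ya : Subgroup G := C.Na x y ⊓ Subgroup.centralizer (D.Z : Set G)

/-- its Sylow subgroup -/
abbrev Sa : Subgroup G := (D.S : Subgroup G) ⊓ Subgroup.centralizer ({C.av x y} : Set G)

variable {C x y}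

theorem av_three : C.av x y ^ 3 = 1 := D.Je _ (C.vec_mem _)

theorem av_A : C.av x y ∈ D.A := C.vec_A 0 x y

theorem av_not_Z (h : x ≠ 0 ∨ y ≠ 0) : C.av x y ∉ D.Z := fun hm => by
  obtain ⟨h1, h2, -⟩ := C.mem_Z_iff.1 hm
  rcases h with h | h
  · exact h h1
  · exact h h2

theorem av_ne (h : x ≠ 0 ∨ y ≠ 0) : C.av x y ≠ 1 := fun e => av_not_Z h (e ▸ one_mem _)

theorem order_av (h : x ≠ 0 ∨ y ≠ 0) : Nat.card (Subgroup.zpowers (C.av x y)) = 3 := by
  haveI : Fact (Nat.Prime 3) := ⟨Nat.prime_three⟩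
  rw [Nat.card_zpowers]
  exact orderOf_eq_prime av_three (av_ne h)

theorem zpow_av {b : G} (hb : b ∈ Subgroup.zpowers (C.av x y)) :
    ∃ k : ZMod 3, b = C.vec (0, k * x, k * y, 0) := by
  rcases pow_three_cases av_three hb with e | e | e
  · exact ⟨0, by simp only [zero_mul]; exact e.trans C.vec_zero.symm⟩
  · exact ⟨1, by simp only [one_mul]; exact e⟩
  · refine ⟨-1, e.trans ?_⟩
    rw [← C.vec_neg]; simp

theorem mem_Na (h : x ≠ 0 ∨ y ≠ 0) {n : G} :
    n ∈ C.Na x y ↔ n * C.av x y * n⁻¹ = C.av x y ∨ n * C.av x y * n⁻¹ = (C.av x y)⁻¹ := by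
  constructor
  · intro hn
    rcases pow_three_cases av_three (mem_norm hn (Subgroup.mem_zpowers (C.av x y))) with e | e | e
    · exact absurd (conj_eq_one_iff.1 e) (av_ne h)
    · exact Or.inl e
    · exact Or.inr e
  · intro hn
    show n ∈ Subgroup.normalizer (Subgroup.zpowers (C.av x y) : Set G)
    rw [Subgroup.mem_normalizer_iff_map_conj_eq, MonoidHom.map_zpowers]
    rcases hn with e | e
    · exact congrArg Subgroup.zpowers e
    · exact (congrArg Subgroup.zpowers e).trans Subgroup.zpowers_inv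

theorem J_le_Na : D.J ≤ C.Na x y := fun j hj => cent_le_norm _ (Subgroup.mem_centralizer_iff.2 fun b hb => by
  obtain ⟨k, rfl⟩ := zpow_av hb
  exact D.Jc _ (C.vec_mem _) j hj)

theorem J_le_Ya : D.J ≤ C.Ya x y := le_inf J_le_Na fun j hj =>
  Subgroup.mem_centralizer_iff.2 fun z hz => D.Jc z (D.Z_le_J hz) j hj

theorem t_av : (C.t : G) * C.av x y * (C.t : G)⁻¹ = (C.av x y)⁻¹ := by
  rw [C.t_act, ← C.vec_neg]; simp

theorem t_Ya (h : x ≠ 0 ∨ y ≠ 0) : (C.t : G) ∈ C.Ya x y := ⟨(mem_Na h).2 (Or.inr t_av), C.t_CZ⟩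

/-- the stabiliser of the first point and the subgroup normalises the Sylow subgroup -/
theorem Ya_NS (h : x ≠ 0 ∨ y ≠ 0) {n : G} (hn : n ∈ C.Ya x y) :
    n ∈ Subgroup.normalizer ((D.S : Subgroup G) : Set G) ∧ n ∈ Subgroup.normalizer (D.J : Set G) := by
  obtain ⟨ha, hZ⟩ := hn
  have hNZ := cent_le_norm _ hZ
  have hzJ := C.toNorm.z'_J C.base.hz
  refine C.NJ_of hNZ (C.point_stab (av_A (C := C) (x := x) (y := y)) (av_not_Z h) (mem_norm (D.L_conj hNZ) (D.S_le_L (D.hJS hzJ))) ?_)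
  have hc : C.toNorm.z' C.z * (n⁻¹ * C.av x y * n) = (n⁻¹ * C.av x y * n) * C.toNorm.z' C.z := by
    obtain ⟨k, hk⟩ := zpow_av (mem_norm (inv_mem ha) (Subgroup.mem_zpowers (C.av x y)))
    rw [inv_inv] at hk
    rw [hk]
    exact D.Jc _ hzJ _ (C.vec_mem _)
  rw [show n * C.toNorm.z' C.z * n⁻¹ * C.av x y * (n * C.toNorm.z' C.z * n⁻¹)⁻¹ * (C.av x y)⁻¹ =
    n * (C.toNorm.z' C.z * (n⁻¹ * C.av x y * n) * (C.toNorm.z' C.z)⁻¹) * n⁻¹ * (C.av x y)⁻¹ by group, hc]
  rw [mul_inv_cancel_right, show n * (n⁻¹ * C.av x y * n) * n⁻¹ * (C.av x y)⁻¹ = 1 by group]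
  exact one_mem _

/-- elements of the Sylow subgroup in the normaliser centralise the element -/
theorem S_Na (h : x ≠ 0 ∨ y ≠ 0) {s : G} (hs : s ∈ (D.S : Subgroup G)) (hn : s ∈ C.Na x y) :
    s ∈ C.Sa x y := by
  refine ⟨hs, Subgroup.mem_centralizer_singleton_iff.2 ?_⟩
  rcases (mem_Na h).1 hn with e | e
  · exact mul_inv_eq_iff_eq_mul.1 e
  · exfalso
    obtain ⟨u, v, hA⟩ := C.S_act hs
    rw [hA, ← C.vec_neg] at e
    have e' := congrArg (fun w : V4 => w.2) (C.vec_inj e)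
    simp only [(pK_middle u v 0 x y).1, Prod.snd_neg, Prod.neg_mk, Prod.mk.injEq] at e'
    have h0 : ∀ a : ZMod 3, a = -a → a = 0 := by decide
    rcases h with h | h
    · exact h (h0 _ e'.1)
    · exact h (h0 _ e'.2.1)

theorem iso_list' {w : V4} (h0 : w ≠ 0) (hw : nf w = 0) (hb : w.2.2.2 ≠ 0) :
    ∃ u v ε : ZMod 3, (ε = 1 ∨ ε = -1) ∧ w = pK (-1) u v (0, 0, 0, ε) := by
  rcases iso_list w h0 hw with rfl | rfl | ⟨u, v, e | e⟩
  · exact absurd rfl hb
  · exact absurd rfl hb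
  · exact ⟨u, v, 1, Or.inl rfl, e⟩
  · exact ⟨u, v, -1, Or.inr rfl, e⟩

/-- the point stabiliser is a Sylow subgroup extended by the involution -/
theorem Ya_shape (h : x ≠ 0 ∨ y ≠ 0) {n : G} (hn : n ∈ C.Ya x y) :
    n ∈ C.Sa x y ∨ n * C.t ∈ C.Sa x y := by
  have hnJ := (Ya_NS h hn).2
  have hzJ := C.toNorm.z'_J C.base.hz
  obtain ⟨w, hw⟩ := C.vec_surj (mem_norm hnJ hzJ)
  have hw0 : w ≠ 0 := fun e => C.toNorm.zp_not_A C.base.hz C.base.z1 (by
    rw [e, C.vec_zero] at hw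
    rw [show (C.g : G) * C.z * (C.g : G)⁻¹ = 1 from conj_eq_one_iff.1 hw.symm]
    exact one_mem _)
  have hwn : nf w = 0 := C.iso_perm hnJ (v := (0, 0, 0, 1)) (by simp [nf]) (by rw [C.vec_z', hw])
  have hwb : w.2.2.2 ≠ 0 := fun e => by
    refine C.toNorm.zp_not_A C.base.hz C.base.z1 (show C.toNorm.z' C.z ∈ D.A from ⟨hzJ, ?_⟩)
    obtain ⟨a, b, c, d⟩ := w
    simp only at e
    subst e
    have := mem_norm (inv_mem (D.Q_conj (cent_le_norm _ hn.2))) (C.vec_A a b c).2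
    rw [hw, inv_inv, show n⁻¹ * (n * C.toNorm.z' C.z * n⁻¹) * n = C.toNorm.z' C.z by group] at this
    exact this
  obtain ⟨u, v, ε, hε, rfl⟩ := iso_list' hw0 hwn hwb
  obtain ⟨p, hp, hP⟩ := C.ap u v
  set m := (p : G)⁻¹ * n with hm
  have hpZ : (p : G) ∈ Subgroup.centralizer (D.Z : Set G) :=
    Subgroup.mem_centralizer_iff.2 fun z hz => ((D.mem_Z.1 hz).2 p hp).symm
  have hmZ : m ∈ Subgroup.centralizer (D.Z : Set G) := mul_mem (inv_mem hpZ) hn.2
  have hmJ : m ∈ Subgroup.normalizer (D.J : Set G) := mul_mem (inv_mem (D.S_le_NJ hp)) hnJ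
  have hconj : ∀ r : V4, (p : G) * C.vec r * (p : G)⁻¹ = C.vec (pK (-1) u v r) := hP
  have hmz' : m * C.toNorm.z' C.z * m⁻¹ = C.vec (0, 0, 0, ε) := by
    rw [hm, show (p : G)⁻¹ * n * C.toNorm.z' C.z * ((p : G)⁻¹ * n)⁻¹ =
      (p : G)⁻¹ * (n * C.toNorm.z' C.z * n⁻¹) * p by group, ← hw, ← hconj]
    group
  have hε0 : ε ≠ 0 := by rcases hε with rfl | rfl <;> decide
  obtain ⟨H, hH, hq⟩ := C.lin' hmJ (α := 1) hε0 (by rw [cZ hmZ C.base.hz, C.vec_z]) hmz'
  have hna : app H (x, y) = (x, y) ∨ app H (x, y) = -(x, y) := by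
    have e : n * C.av x y * n⁻¹ = C.vec (pK (-1) u v (lm 1 ε H (0, x, y, 0))) := by
      rw [← hconj, ← hH, hm]; group
    rcases (mem_Na h).1 hn.1 with e' | e'
    · left
      have := congrArg (fun r : V4 => r.2) (C.vec_inj (e.symm.trans e'))
      simp only [lm, mul_zero, (pK_middle _ _ _ _ _).1, Prod.mk.injEq] at this
      exact Prod.ext this.1 this.2.1
    · right
      rw [← C.vec_neg] at e'
      have := congrArg (fun r : V4 => r.2) (C.vec_inj (e.symm.trans e'))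
      simp only [lm, mul_zero, (pK_middle _ _ _ _ _).1, Prod.snd_neg, Prod.neg_mk, Prod.mk.injEq] at this
      exact Prod.ext this.1 this.2.1
  have hε1 : ε = 1 := by
    have hq' := hq (x, y)
    have hne := qf_ne x y h
    rcases hε with rfl | rfl
    · rfl
    · exfalso
      rcases hna with e | e <;> rw [e] at hq' <;> refine hne ?_ <;>
        refine (show ∀ a : ZMod 3, a = -1 * a → a = 0 by decide) _ ?_ <;>
        simp only [qf, Prod.fst_neg, Prod.snd_neg, neg_mul_neg] at hq' ⊢ <;> linear_combination hq'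
  subst hε1
  obtain ⟨H', hc, hH'⟩ := C.rot_of hmZ (by rw [hmz', C.vec_z'])
  have hHH : app H' (x, y) = app H (x, y) := by
    have e := C.vec_inj ((hH' (0, x, y, 0)).symm.trans (hH _))
    simp only [lm, Prod.mk.injEq] at e
    exact Prod.ext e.2.1 e.2.2.1
  have fin : ∀ k : G, (∀ r, k * C.vec r * k⁻¹ = C.vec r) → k ∈ D.J := fun k hk => D.cent_J fun a ha => by
    obtain ⟨r, rfl⟩ := C.vec_surj ha
    exact (mul_inv_eq_iff_eq_mul.1 (hk r)).symm
  rcases app_fix_cases H' x y h hc (hHH ▸ hna) with rfl | rfl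
  · left
    refine S_Na h ?_ hn.1
    have hj := fin m fun r => by rw [hH', lm_one]
    rw [show n = p * m by rw [hm]; group]
    exact mul_mem hp (D.hJS hj)
  · right
    refine S_Na h ?_ (mul_mem hn.1 (t_Ya h).1)
    have hj := fin (m * C.t) fun r => by
      rw [show m * (C.t : G) * C.vec r * (m * C.t)⁻¹ = m * ((C.t : G) * C.vec r * (C.t : G)⁻¹) * m⁻¹ by group,
        C.t_act, hH']
      simp [lm, app]
    rw [show n * (C.t : G) = p * (m * C.t) by rw [hm]; group]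
    exact mul_mem hp (D.hJS hj)

theorem Sa_Ya : C.Sa x y ≤ C.Ya x y := fun s hs => ⟨cent_le_norm _ (Subgroup.mem_centralizer_iff.2 fun b hb => by
    obtain ⟨i, rfl⟩ := Subgroup.mem_zpowers_iff.1 hb
    exact ((Commute.zpow_right (show Commute s (C.av x y) from Subgroup.mem_centralizer_singleton_iff.1 hs.2) i).eq).symm),
  Subgroup.mem_centralizer_iff.2 fun z hz => ((D.mem_Z.1 hz).2 s hs.1).symm⟩

theorem card_Sa (h : x ≠ 0 ∨ y ≠ 0) : Nat.card (C.Sa x y) = 243 := by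
  set a := C.av x y with ha
  have hd : ∀ s ∈ (D.S : Subgroup G), s * a * s⁻¹ * a⁻¹ ∈ D.Z := fun s hs => Norm.S_split hs av_A
  let δ : (D.S : Subgroup G) →* G :=
    { toFun := fun s => (s : G) * a * (s : G)⁻¹ * a⁻¹
      map_one' := by simp
      map_mul' := fun s t => by
        rw [Subgroup.coe_mul, show (s : G) * t * a * ((s : G) * t)⁻¹ * a⁻¹ =
          (s : G) * ((t : G) * a * (t : G)⁻¹ * a⁻¹) * (s : G)⁻¹ * ((s : G) * a * (s : G)⁻¹ * a⁻¹) by group,
          (D.mem_Z.1 (hd t t.2)).2 s s.2, mul_inv_cancel_right]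
        exact ((D.mem_Z.1 (hd s s.2)).2 _ (D.QS (D.Z_le_Q (hd t t.2)))) }
  have hker : Nat.card δ.ker = Nat.card (C.Sa x y) := by
    refine Nat.card_congr
      { toFun := fun s => ⟨(s.1 : G), s.1.2, Subgroup.mem_centralizer_singleton_iff.2
          (mul_inv_eq_iff_eq_mul.1 (mul_inv_eq_one.1 s.2))⟩
        invFun := fun s => ⟨⟨s.1, s.2.1⟩, by
          show (s : G) * a * (s : G)⁻¹ * a⁻¹ = 1
          rw [show (s : G) * a = a * s from Subgroup.mem_centralizer_singleton_iff.1 s.2.2]; group⟩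
        left_inv := fun s => rfl
        right_inv := fun s => rfl }
  have hr : δ.range = D.Z := by
    haveI : Fact (Nat.Prime 3) := ⟨Nat.prime_three⟩
    have hle : δ.range ≤ D.Z := by rintro _ ⟨s, rfl⟩; exact hd s s.2
    rcases (Nat.dvd_prime Nat.prime_three).1 (D.Z_eq.2 ▸ Subgroup.card_dvd_of_le hle) with e | e
    · exfalso
      obtain ⟨p, hp, hP⟩ := C.ap x y
      have h1 : δ ⟨p, hp⟩ = 1 := by
        have hm : δ ⟨p, hp⟩ ∈ δ.range := ⟨_, rfl⟩
        rwa [Subgroup.card_eq_one.1 e, Subgroup.mem_bot] at hm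
      have h2 : (p : G) * a * (p : G)⁻¹ = a := mul_inv_eq_one.1 h1
      rw [ha, show (p : G) * C.vec (0, x, y, 0) * (p : G)⁻¹ = C.vec (pK (-1) x y (0, x, y, 0)) from hP _] at h2
      have := congrArg Prod.fst (C.vec_inj h2)
      rw [(pK_middle x y 0 x y).2] at this
      exact qf_ne x y h (by simp only [qf]; linear_combination -this)
    · exact Subgroup.eq_of_le_of_card_ge hle (by rw [D.Z_eq.2, e])
  have := δ.ker.card_mul_index
  rw [Subgroup.index_ker, hr, D.Z_eq.2, D.card_S.1, hker] at this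
  omega

theorem card_Ya (h : x ≠ 0 ∨ y ≠ 0) : Nat.card (C.Ya x y) = 486 := by
  haveI : Fact (Nat.Prime 2) := ⟨Nat.prime_two⟩
  have hN : Subgroup.zpowers (C.t : G) ≤ Subgroup.normalizer ((C.Sa x y : Subgroup G) : Set G) := by
    refine Subgroup.zpowers_le.2 ?_
    rw [Subgroup.mem_normalizer_iff_map_conj_eq]
    refine Subgroup.eq_of_le_of_card_ge ?_ (le_of_eq (Subgroup.card_map_of_injective (MulEquiv.injective _)).symm)
    rintro _ ⟨s, hs, rfl⟩
    refine S_Na h (mem_norm (Ya_NS h (t_Ya h)).1 hs.1) (mul_mem (mul_mem (t_Ya h).1 (Sa_Ya hs).1) (inv_mem (t_Ya h).1))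
  have hsup : C.Ya x y = C.Sa x y ⊔ Subgroup.zpowers (C.t : G) := by
    refine le_antisymm (fun n hn => ?_) (sup_le Sa_Ya (Subgroup.zpowers_le.2 (t_Ya h)))
    rcases Ya_shape h hn with e | e
    · exact Subgroup.mem_sup_left e
    · have := mul_mem (Subgroup.mem_sup_left (T := Subgroup.zpowers (C.t : G)) e)
        (Subgroup.mem_sup_right (S := C.Sa x y) (inv_mem (Subgroup.mem_zpowers (C.t : G))))
      rwa [mul_inv_cancel_right] at this
  have hinf : C.Sa x y ⊓ Subgroup.zpowers (C.t : G) = ⊥ := by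
    refine Subgroup.inf_eq_bot_of_coprime ?_
    rw [card_Sa h, Nat.card_zpowers, C.order_t]
    norm_num
  have := Cfsg.Agent.Solv.card_sup_mul_card_inf' (C.Sa x y) (Subgroup.zpowers (C.t : G)) hN
  rw [← hsup, hinf, Subgroup.card_bot, card_Sa h, Nat.card_zpowers, C.order_t] at this
  omega

/-- centralising the first point modulo the element is centralising it -/
theorem CZ_of (h : x ≠ 0 ∨ y ≠ 0) {n : G} (hn : n * C.z * n⁻¹ * C.z⁻¹ ∈ Subgroup.zpowers (C.av x y)) :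
    n ∈ Subgroup.centralizer (D.Z : Set G) := by
  obtain ⟨k, hk⟩ := zpow_av hn
  have e : n * C.z * n⁻¹ = C.vec (1, k * x, k * y, 0) := by
    rw [mul_inv_eq_iff_eq_mul.1 hk, ← C.vec_z, ← C.vec_add]; simp
  have h0 := C.z_fused e
  have hk0 : k = 0 := by
    by_contra hk0
    refine qf_ne (k * x) (k * y) ?_ ?_
    · rcases h with h | h
      · exact Or.inl (mul_ne_zero hk0 h)
      · exact Or.inr (mul_ne_zero hk0 h)
    · simpa [nf, qf] using h0
  subst hk0
  simp only [zero_mul] at e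
  rw [C.vec_z] at e
  refine Subgroup.mem_centralizer_iff.2 fun z hz => ?_
  rcases Norm.Z_gen C.base.hz C.base.z1 hz with rfl | rfl | rfl
  · simp
  · exact (mul_inv_eq_iff_eq_mul.1 e).symm
  · exact (Commute.inv_right (show Commute n C.z from mul_inv_eq_iff_eq_mul.1 e)).eq.symm

end Ctx

end Cfsg.Agent.MclThree
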