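import Cfsg.Agent.Lib.Recognition.MclThreeLocal.Aniso
import Cfsg.Agent.S3376

/-!
The quotient of the normaliser of an anisotropic element and the centraliser of the first point in it.
-/

set_option autoImplicit false
set_option linter.unusedSectionVars false
set_option synthInstance.maxSize 2000
set_option maxRecDepth 100000

namespace Cfsg.Agent.MclThree

universe u

theorem center_mod_cases : ∀ x y k : ZMod 3, (x ≠ 0 ∨ y ≠ 0) → ∀ w : V4,
    pK (-1) (-y) x w - w = (0, k * x, k * y, 0) →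
    w.2.2.2 = 0 ∧ ∃ i : ZMod 3, w.2.1 = i * x ∧ w.2.2.1 = i * y := by
  decide +kernel

theorem shift_zero : ∀ u v x y k : ZMod 3, (x ≠ 0 ∨ y ≠ 0) →
    pK (-1) u v (0, 0, 0, 1) - (0, 0, 0, 1) = (0, k * x, k * y, 0) → u = 0 ∧ v = 0 := by
  decide +kernel

theorem pK_perp : ∀ x y : ZMod 3, pK (-1) (-y) x (0, x, y, 0) = (0, x, y, 0) := by
  decide +kernel

theorem perp_moves : ∀ x y : ZMod 3, (x ≠ 0 ∨ y ≠ 0) →
    pK (-1) (-y) x (0, 0, 0, 1) ≠ pK (-1) y (-x) (0, 0, 0, 1) := by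
  decide +kernel

variable {G : Type u} [Group G] [Finite G] {D : Data G}

namespace Ctx

variable (C : Ctx D) (x y : ZMod 3)

/-- the quotient -/
abbrev Qa : Type u := C.Na x y ⧸ (Subgroup.zpowers (C.av x y)).subgroupOf (C.Na x y)

/-- the projection -/
abbrev πa : C.Na x y →* C.Qa x y := QuotientGroup.mk' _

/-- image of a subgroup -/
abbrev img (H : Subgroup G) : Subgroup (C.Qa x y) := (H.subgroupOf (C.Na x y)).map (C.πa x y)

/-- the image of the first point -/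
abbrev zb : C.Qa x y := C.πa x y ⟨C.z, J_le_Na (D.Z_le_J C.base.hz)⟩

variable {C x y}

theorem πa_one {n : C.Na x y} : C.πa x y n = 1 ↔ (n : G) ∈ Subgroup.zpowers (C.av x y) := by
  rw [QuotientGroup.mk'_apply, QuotientGroup.eq_one_iff, Subgroup.mem_subgroupOf]

theorem mem_img {H : Subgroup G} {q : C.Qa x y} :
    q ∈ C.img x y H ↔ ∃ n : C.Na x y, (n : G) ∈ H ∧ C.πa x y n = q := Iff.rfl

theorem card_img (h : x ≠ 0 ∨ y ≠ 0) {H : Subgroup G} (hH : H ≤ C.Na x y) (ha : C.av x y ∈ H) :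
    Nat.card (C.img x y H) * 3 = Nat.card H := by
  set ρ : H →* C.Qa x y := (C.πa x y).comp (Subgroup.inclusion hH) with hρ
  have hr : ρ.range = C.img x y H := by
    ext q
    constructor
    · rintro ⟨n, rfl⟩; exact ⟨_, n.2, rfl⟩
    · rintro ⟨n, hn, rfl⟩; exact ⟨⟨n, hn⟩, rfl⟩
  have hk : Nat.card ρ.ker = 3 := by
    rw [← order_av (C := C) h, ← Nat.card_congr (Subgroup.subgroupOfEquivOfLe (Subgroup.zpowers_le.2 ha)).toEquiv]
    refine Nat.card_congr (Equiv.setCongr ?_)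
    ext n
    exact πa_one (n := Subgroup.inclusion hH n)
  have := ρ.ker.card_mul_index
  rw [Subgroup.index_ker, hr, hk] at this
  omega

theorem cent_zb (h : x ≠ 0 ∨ y ≠ 0) : Subgroup.centralizer ({C.zb x y} : Set (C.Qa x y)) = C.img x y (C.Ya x y) := by
  ext q
  obtain ⟨n, rfl⟩ := QuotientGroup.mk'_surjective _ q
  rw [Subgroup.mem_centralizer_singleton_iff]
  constructor
  · intro e
    refine ⟨n, ⟨n.2, CZ_of (C := C) (x := x) (y := y) h ?_⟩, rfl⟩
    have e' : C.πa x y (n * ⟨C.z, J_le_Na (D.Z_le_J C.base.hz)⟩ * n⁻¹ * ⟨C.z, J_le_Na (D.Z_le_J C.base.hz)⟩⁻¹) = 1 := by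
      rw [map_mul, map_mul, map_mul, map_inv, map_inv]
      calc _ = C.zb x y * C.πa x y n * (C.πa x y n)⁻¹ * (C.zb x y)⁻¹ := by
            rw [show C.πa x y n * C.πa x y ⟨C.z, J_le_Na (D.Z_le_J C.base.hz)⟩ = C.zb x y * C.πa x y n from e]
        _ = 1 := by group
    exact πa_one.1 e'
  · rintro ⟨m, hm, e⟩
    rw [← e, show C.zb x y = C.πa x y ⟨C.z, J_le_Na (D.Z_le_J C.base.hz)⟩ from rfl, ← map_mul, ← map_mul]
    congr 1
    exact Subtype.ext (Subgroup.mem_centralizer_iff.1 hm.2 _ C.base.hz).symm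

/-- the centraliser of the first point is that of a product of three disjoint cycles -/
theorem exists_eC (h : x ≠ 0 ∨ y ≠ 0) :
    Nonempty (Subgroup.centralizer ({C.zb x y} : Set (C.Qa x y)) ≃* Subgroup.centralizer
      ({Equiv.swap (0 : Fin 9) 1 * Equiv.swap 1 2 * Equiv.swap 3 4 * Equiv.swap 4 5 * Equiv.swap 6 7 * Equiv.swap 7 8} :
        Set (Equiv.Perm (Fin 9)))) := by
  haveI : Fact (Nat.Prime 3) := ⟨Nat.prime_three⟩
  haveI : Fact (Nat.Prime 2) := ⟨Nat.prime_two⟩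
  have haJ : C.av x y ∈ D.J := C.vec_mem _
  have haS : C.av x y ∈ C.Sa x y :=
    ⟨D.hJS haJ, Subgroup.mem_centralizer_singleton_iff.2 rfl⟩
  set ρ : C.Ya x y →* C.Qa x y := (C.πa x y).comp (Subgroup.inclusion inf_le_left) with hρ
  have hrange : ρ.range = C.img x y (C.Ya x y) := by
    ext q
    constructor
    · rintro ⟨n, rfl⟩; exact ⟨_, n.2, rfl⟩
    · rintro ⟨n, hn, rfl⟩; exact ⟨⟨n, hn⟩, rfl⟩
  set ρ' := ρ.rangeRestrict with hρ'
  have hs : Function.Surjective ρ' := ρ.rangeRestrict_surjective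
  have hker : ∀ n : C.Ya x y, ρ' n = 1 ↔ (n : G) ∈ Subgroup.zpowers (C.av x y) := fun n => by
    rw [← OneMemClass.coe_eq_one, show ((ρ' n : ρ.range) : C.Qa x y) = C.πa x y (Subgroup.inclusion inf_le_left n) from rfl,
      πa_one]
    rfl
  have hcard : ∀ H : Subgroup G, H ≤ C.Ya x y → C.av x y ∈ H →
      Nat.card ((H.subgroupOf (C.Ya x y)).map ρ') * 3 = Nat.card H := by
    intro H hH ha
    have e : ((H.subgroupOf (C.Ya x y)).map ρ').map ρ.range.subtype = C.img x y H := by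
      ext q
      constructor
      · rintro ⟨_, ⟨n, hn, rfl⟩, rfl⟩; exact ⟨_, hn, rfl⟩
      · rintro ⟨n, hn, rfl⟩; exact ⟨_, ⟨⟨n, hH hn⟩, hn, rfl⟩, rfl⟩
    rw [← Subgroup.card_map_of_injective (Subgroup.subtype_injective ρ.range), e]
    exact card_img h (hH.trans inf_le_left) ha
  have hG : Nat.card ρ.range = 162 := by
    have := card_img (C := C) h (H := C.Ya x y) inf_le_left (J_le_Ya haJ)
    rw [← hrange, card_Ya h] at this
    omega
  set S0 := ((C.Sa x y).subgroupOf (C.Ya x y)).map ρ' with hS0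
  have hS0c : Nat.card S0 = 81 := by
    have : Nat.card S0 * 3 = Nat.card (C.Sa x y) := hcard _ Sa_Ya haS
    rw [card_Sa h] at this
    omega
  let S' : Sylow 3 ρ.range := Sylow.ofCard S0 (by
    rw [hS0c, hG, show (162 : ℕ) = 3 ^ 4 * 2 from rfl,
      Nat.factorization_mul (by norm_num) (by norm_num), Nat.Prime.factorization_pow Nat.prime_three]
    simp [Nat.factorization_eq_zero_of_not_dvd (show ¬ 3 ∣ 2 by norm_num)])
  set tb := ρ' ⟨C.t, t_Ya h⟩ with htb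
  have ht1 : tb ≠ 1 := fun e => by
    obtain ⟨k, hk⟩ := zpow_av ((hker _).1 e)
    have h3 : (C.t : G) ^ 3 = 1 := D.Je _ (by
      rw [show (C.t : G) = C.vec (0, k * x, k * y, 0) from hk]; exact C.vec_mem _)
    rw [pow_succ, pow_two, C.t_sq, one_mul] at h3
    exact C.t_ne h3
  have htt : tb * tb = 1 := by
    rw [htb, ← map_mul, show (⟨(C.t : G), t_Ya h⟩ : C.Ya x y) * ⟨C.t, t_Ya h⟩ = 1 from Subtype.ext C.t_sq, map_one]
  have htc : Nat.card (Subgroup.zpowers tb) = 2 := by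
    rw [Nat.card_zpowers]; exact orderOf_eq_prime (by rw [pow_two]; exact htt) ht1
  let T' : Sylow 2 ρ.range := Sylow.ofCard (Subgroup.zpowers tb) (by
    rw [htc, hG, show (162 : ℕ) = 2 ^ 1 * 81 from rfl,
      Nat.factorization_mul (by norm_num) (by norm_num), Nat.Prime.factorization_pow Nat.prime_two]
    simp [Nat.factorization_eq_zero_of_not_dvd (show ¬ 2 ∣ 81 by norm_num)])
  set J' := (D.J.subgroupOf (C.Ya x y)).map ρ' with hJ'
  haveI : J'.Normal := by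
    refine Subgroup.Normal.map ⟨fun j hj n => ?_⟩ _ hs
    show (n : G) * (j : G) * (n : G)⁻¹ ∈ D.J
    exact mem_norm (Ya_NS h n.2).2 hj
  have hJcard : Nat.card J' = 27 := by
    have : Nat.card J' * 3 = Nat.card D.J := hcard _ J_le_Ya haJ
    rw [D.hJ] at this
    omega
  set zr := ρ' ⟨C.z, J_le_Ya (D.Z_le_J C.base.hz)⟩ with hzr
  have hz1 : zr ≠ 1 := fun e => by
    obtain ⟨k, hk⟩ := zpow_av ((hker _).1 e)
    have := congrArg Prod.fst (C.vec_inj ((C.vec_z).trans hk))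
    exact one_ne_zero this
  have hzc : Nat.card (Subgroup.zpowers zr) = 3 := by
    rw [Nat.card_zpowers]
    refine orderOf_eq_prime ?_ hz1
    rw [hzr, ← map_pow]
    convert map_one ρ'
    exact Subtype.ext (D.Je _ (D.Z_le_J C.base.hz))
  have hzall : ∀ n : C.Ya x y, ρ' n * zr = zr * ρ' n := fun n => by
    rw [hzr, ← map_mul, ← map_mul]
    congr 1
    exact Subtype.ext (Subgroup.mem_centralizer_iff.1 n.2.2 _ C.base.hz).symm
  -- the centre of the Sylow subgroup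
  have hZ : (S' : Subgroup ρ.range) ⊓ Subgroup.centralizer ((S' : Subgroup ρ.range) : Set ρ.range) =
      Subgroup.zpowers zr := by
    refine le_antisymm ?_ (Subgroup.zpowers_le.2 ⟨⟨⟨C.z, _⟩, ⟨D.hJS (D.Z_le_J C.base.hz),
      Subgroup.mem_centralizer_singleton_iff.2 (D.Jc _ (D.Z_le_J C.base.hz) _ haJ)⟩, rfl⟩,
      Subgroup.mem_centralizer_iff.2 fun q hq => ?_⟩)
    swap
    · obtain ⟨n, rfl⟩ := hs q
      exact hzall n
    rintro q ⟨⟨s, hs', rfl⟩, hc⟩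
    replace hc := Subgroup.mem_centralizer_iff.1 hc
    have hcomm : ∀ (r : G) (hr : r ∈ C.Sa x y), ∃ k : ZMod 3,
        (s : G) * r * (s : G)⁻¹ * r⁻¹ = C.vec (0, k * x, k * y, 0) := fun r hr => by
      refine zpow_av ((hker (s * ⟨r, Sa_Ya hr⟩ * s⁻¹ * ⟨r, Sa_Ya hr⟩⁻¹)).1 ?_)
      rw [map_mul, map_mul, map_mul, map_inv, map_inv,
        ← hc (ρ' ⟨r, Sa_Ya hr⟩) ⟨⟨r, Sa_Ya hr⟩, hr, rfl⟩]
      group
    have hsS : (s : G) ∈ (D.S : Subgroup G) := hs'.1
    obtain ⟨u, v, hA⟩ := C.S_act hsS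
    obtain ⟨k, hk⟩ := hcomm (C.toNorm.z' C.z) ⟨D.hJS (C.toNorm.z'_J C.base.hz),
      Subgroup.mem_centralizer_singleton_iff.2 (D.Jc _ (C.toNorm.z'_J C.base.hz) _ haJ)⟩
    rw [← C.vec_z', hA, ← C.vec_neg, ← C.vec_add, ← sub_eq_add_neg] at hk
    obtain ⟨rfl, rfl⟩ := shift_zero u v x y k h (C.vec_inj hk)
    obtain ⟨w, hw⟩ := C.vec_surj (D.cent_J (g := (s : G)) fun a ha => by
      obtain ⟨r, rfl⟩ := C.vec_surj ha
      exact (mul_inv_eq_iff_eq_mul.1 ((hA r).trans (by rw [pK_facts.1]))).symm)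
    obtain ⟨p, hp, hP⟩ := C.ap (-y) x
    have hP' : ∀ r, (p : G) * C.vec r * (p : G)⁻¹ = C.vec (pK (-1) (-y) x r) := hP
    obtain ⟨k', hk'⟩ := hcomm p ⟨hp, Subgroup.mem_centralizer_singleton_iff.2 (mul_inv_eq_iff_eq_mul.1 (by
      rw [hP', pK_perp]))⟩
    have e : C.vec (pK (-1) (-y) x w - w) = C.vec (0, -k' * x, -k' * y, 0) := by
      rw [sub_eq_add_neg, C.vec_add, ← hP', C.vec_neg, hw, show C.vec (0, -k' * x, -k' * y, 0) =
        (C.vec (0, k' * x, k' * y, 0))⁻¹ by rw [← C.vec_neg]; simp, ← hk']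
      group
    obtain ⟨hb, i, hi1, hi2⟩ := center_mod_cases x y (-k') h w (C.vec_inj e)
    have hsplit : (s : G) = C.vec (w.1, 0, 0, 0) * pw (C.av x y) i := by
      rw [← hw, C.vec_smul, ← C.vec_add]
      congr 1
      ext <;> simp [hi1, hi2, hb]
    have e2 : ρ' s = zr ^ w.1.val := by
      rw [hzr, ← map_pow]
      have hd : ((s : G)) * (C.z ^ w.1.val)⁻¹ ∈ Subgroup.zpowers (C.av x y) := by
        rw [hsplit, show C.z ^ w.1.val = C.vec (w.1, 0, 0, 0) by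
          rw [show C.vec (w.1, 0, 0, 0) = pw (C.vec (1, 0, 0, 0)) w.1 by rw [C.vec_smul]; simp, C.vec_z]; rfl,
          D.Jc _ (C.vec_mem _) _ (pw_mem haJ i), mul_inv_cancel_right]
        exact pw_mem (Subgroup.mem_zpowers _) _
      have := (hker (s * (⟨C.z, J_le_Ya (D.Z_le_J C.base.hz)⟩ ^ w.1.val)⁻¹)).2 hd
      rwa [map_mul, map_inv, mul_inv_eq_one] at this
    show ρ' s ∈ Subgroup.zpowers zr
    rw [e2]
    exact pow_mem (Subgroup.mem_zpowers _) _
  have hST : (S' : Subgroup ρ.range) ⊓ Subgroup.centralizer ((T' : Subgroup ρ.range) : Set ρ.range) ≠ S' := by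
    intro e
    obtain ⟨p, hp, hP⟩ := C.ap (-y) x
    have hP' : ∀ r, (p : G) * C.vec r * (p : G)⁻¹ = C.vec (pK (-1) (-y) x r) := hP
    have hpS : (p : G) ∈ C.Sa x y := ⟨hp, Subgroup.mem_centralizer_singleton_iff.2 (mul_inv_eq_iff_eq_mul.1 (by
      rw [hP', pK_perp]))⟩
    have hm : ρ' ⟨p, Sa_Ya hpS⟩ ∈ (S' : Subgroup ρ.range) := ⟨⟨p, Sa_Ya hpS⟩, hpS, rfl⟩
    rw [← e] at hm
    have hc := Subgroup.mem_centralizer_iff.1 hm.2 tb (Subgroup.mem_zpowers tb)
    obtain ⟨k, hk⟩ := zpow_av ((hker (⟨C.t, t_Ya h⟩ * ⟨p, Sa_Ya hpS⟩ * ⟨C.t, t_Ya h⟩⁻¹ * ⟨p, Sa_Ya hpS⟩⁻¹)).1 (by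
      rw [map_mul, map_mul, map_mul, map_inv, map_inv, ← htb, hc]; group))
    have key : (C.t : G) * ((p : G) * ((C.t : G)⁻¹ * C.vec (0, 0, 0, 1) * C.t) * (p : G)⁻¹) * (C.t : G)⁻¹ =
        (p : G) * C.vec (0, 0, 0, 1) * (p : G)⁻¹ := by
      calc _ = C.vec (0, k * x, k * y, 0) * ((p : G) * C.vec (0, 0, 0, 1) * (p : G)⁻¹) * (C.vec (0, k * x, k * y, 0))⁻¹ := by
            rw [← hk]; simp only [Subgroup.coe_mul, Subgroup.coe_inv]; group
        _ = _ := by rw [hP', D.Jc _ (C.vec_mem _) _ (C.vec_mem _), mul_inv_cancel_right]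
    have hinv : (C.t : G)⁻¹ * C.vec (0, 0, 0, 1) * C.t = C.vec (0, 0, 0, 1) := by
      have := C.t_act (0, 0, 0, 1)
      simp only [neg_zero] at this
      nth_rw 1 [← this]; group
    rw [hinv, hP', C.t_act] at key
    refine perp_moves x y h ?_
    rw [← C.vec_inj key]
    simp [pK]
  have hZT : (S' : Subgroup ρ.range) ⊓ Subgroup.centralizer ((S' : Subgroup ρ.range) : Set ρ.range) ≤
      Subgroup.centralizer ((T' : Subgroup ρ.range) : Set ρ.range) := by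
    rw [hZ]
    refine Subgroup.zpowers_le.2 (Subgroup.mem_centralizer_iff.2 fun q _ => ?_)
    obtain ⟨n, rfl⟩ := hs q
    exact hzall n
  obtain ⟨e⟩ := Cfsg.Agent.S3376.result hG S' T' J'
    ⟨⟨by rintro ⟨_, a, ha, rfl⟩ ⟨_, b, hb, rfl⟩; exact Subtype.ext (by
      show ρ' a * ρ' b = ρ' b * ρ' a
      rw [← map_mul, ← map_mul]; congr 1; exact Subtype.ext (D.Jc _ ha _ hb))⟩⟩
    (by rintro _ ⟨a, ha, rfl⟩; rw [← map_pow]; convert map_one ρ'; exact Subtype.ext (D.Je _ ha))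
    hJcard _ rfl (by rw [hZ, hzc]) hZT hST
  exact ⟨(MulEquiv.subgroupCongr ((cent_zb h).trans hrange.symm)).trans e⟩

end Ctx

end Cfsg.Agent.MclThree
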