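import Cfsg.Agent.Lib.Recognition.MclThreeLocal.Aniso2
import Cfsg.Agent.Lib.Solv.Generation
import Cfsg.Agent.S3343

/-!
The elementary abelian subgroup normalises no subgroup of order prime to three in the quotient.
-/

set_option autoImplicit false
set_option linter.unusedSectionVars false
set_option synthInstance.maxSize 2000
set_option maxRecDepth 100000
set_option maxHeartbeats 1000000

namespace Cfsg.Agent.MclThree

open scoped commutatorElement

universe u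

theorem iso_in_span : ∀ x y g w1 w2 a b : ZMod 3, (x ≠ 0 ∨ y ≠ 0) →
    (∀ i : ZMod 3, (g, w1, w2) ≠ (0, i * x, i * y)) → (a ≠ 0 ∨ b ≠ 0) →
    ∃ i j k : ZMod 3, ((j * g + k * a, i * x + j * w1, i * y + j * w2, k * b) : V4) ≠ 0 ∧
      nf ((j * g + k * a, i * x + j * w1, i * y + j * w2, k * b) : V4) = 0 := by
  decide +kernel

theorem perp_neg : ∀ x y i : ZMod 3, (x ≠ 0 ∨ y ≠ 0) →
    app (-1, 0, 0, -1) (-y, x) ≠ ((-y, x) : V2) + (i * x, i * y) := by
  decide +kernel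

theorem coprime_fix {M : Type*} [Group M] {k c b : M} (hc : k * c * k⁻¹ = c) (hb : k * b * k⁻¹ = c * b)
    (h3 : c ^ 3 = 1) {n : ℕ} (hn : k ^ n = 1) (hco : n.Coprime 3) : c = 1 := by
  have key : ∀ i : ℕ, k ^ i * b * (k ^ i)⁻¹ = c ^ i * b := by
    intro i
    induction i with
    | zero => simp
    | succ i ih =>
      calc k ^ (i + 1) * b * (k ^ (i + 1))⁻¹ = k * (k ^ i * b * (k ^ i)⁻¹) * k⁻¹ := by rw [pow_succ']; group
        _ = (k * c * k⁻¹) ^ i * (k * b * k⁻¹) := by rw [ih, conj_pow]; group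
        _ = c ^ (i + 1) * b := by rw [hc, hb, pow_succ, mul_assoc]
  have h := key n
  rw [hn, one_mul, inv_one, mul_one] at h
  have hcn : c ^ n = 1 := mul_eq_right.1 h.symm
  have := pow_gcd_eq_one.2 ⟨hcn, h3⟩
  rwa [hco.gcd_eq_one, pow_one] at this

variable {G : Type u} [Group G] [Finite G] {D : Data G}

theorem cent_A_le {q : G} (hq : q ∈ D.Q) (h : ∀ a ∈ D.A, q * a = a * q) : q ∈ D.A := by
  by_contra hn
  have hle : D.A ⊔ Subgroup.zpowers q ≤ D.Q := sup_le inf_le_right (Subgroup.zpowers_le.2 hq)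
  haveI : IsMulCommutative D.A := ⟨⟨fun a b => Subtype.ext (D.Jc _ a.2.1 _ b.2.1)⟩⟩
  have hc : ∀ a ∈ D.A ⊔ Subgroup.zpowers q, ∀ b ∈ D.A ⊔ Subgroup.zpowers q, a * b = b * a := by
    have h1 : D.A ⊔ Subgroup.zpowers q ≤ Subgroup.centralizer ((D.A : Set G) ∪ {q}) := by
      refine sup_le (fun a ha => Subgroup.mem_centralizer_iff.2 ?_) (Subgroup.zpowers_le.2
        (Subgroup.mem_centralizer_iff.2 ?_))
      · rintro b (hb | rfl)
        · exact D.Jc b hb.1 a ha.1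
        · exact h a ha
      · rintro b (hb | rfl)
        · exact (h b hb).symm
        · rfl
    intro a ha b hb
    have h2 : D.A ⊔ Subgroup.zpowers q ≤ Subgroup.centralizer ((D.A ⊔ Subgroup.zpowers q : Subgroup G) : Set G) := by
      refine sup_le (fun c hc => Subgroup.mem_centralizer_iff.2 fun d hd => ?_)
        (Subgroup.zpowers_le.2 (Subgroup.mem_centralizer_iff.2 fun d hd => ?_))
      · exact (Subgroup.mem_centralizer_iff.1 (h1 hd) c (Or.inl hc)).symm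
      · exact (Subgroup.mem_centralizer_iff.1 (h1 hd) q (Or.inr rfl)).symm
    exact Subgroup.mem_centralizer_iff.1 (h2 hb) a ha
  have h27 := D.abelian_Q_le hle hc
  exact hn ((Subgroup.eq_of_le_of_card_ge (le_sup_left : D.A ≤ D.A ⊔ Subgroup.zpowers q)
    (by rw [D.card_S.2.2]; exact h27)).symm ▸ Subgroup.mem_sup_right (Subgroup.mem_zpowers q))

/-- elements of order prime to three in the centraliser of the centre centralising `A` are trivial -/
theorem cent_A_trivial {k : G} (hk : k ∈ Subgroup.centralizer (D.Z : Set G)) {n : ℕ} (hn : k ^ n = 1)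
    (hco : n.Coprime 3) (h : ∀ a ∈ D.A, k * a * k⁻¹ = a) : k = 1 := by
  have hQ := D.Q_conj (cent_le_norm _ hk)
  have hfix : ∀ q ∈ D.Q, q * k = k * q := by
    intro q hq
    set d := k * q * k⁻¹ * q⁻¹ with hd
    have hdA : d ∈ D.A := by
      refine cent_A_le (mul_mem (mem_norm hQ hq) (inv_mem hq)) fun a ha => ?_
      have h1 : k * (q * a * q⁻¹ * a⁻¹) * k⁻¹ = q * a * q⁻¹ * a⁻¹ := by
        have := D.comm_Q hq ha.2
        rw [commutatorElement_def] at this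
        exact cZ hk this
      have e : k * q * k⁻¹ * a * (k * q * k⁻¹)⁻¹ = q * a * q⁻¹ := by
        calc k * q * k⁻¹ * a * (k * q * k⁻¹)⁻¹ = k * q * k⁻¹ * (k * a * k⁻¹) * (k * q * k⁻¹)⁻¹ := by rw [h a ha]
          _ = k * (q * a * q⁻¹ * a⁻¹) * k⁻¹ * (k * a * k⁻¹) := by group
          _ = _ := by rw [h1, h a ha]; group
      have hz : (q⁻¹ * (k * q * k⁻¹)) * a = a * (q⁻¹ * (k * q * k⁻¹)) := by
        calc q⁻¹ * (k * q * k⁻¹) * a = q⁻¹ * (k * q * k⁻¹ * a * (k * q * k⁻¹)⁻¹) * (k * q * k⁻¹) := by group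
          _ = _ := by rw [e]; group
      have hzd : q⁻¹ * d * q⁻¹⁻¹ = q⁻¹ * (k * q * k⁻¹) := by rw [hd]; group
      have hcq : d = (k * q * k⁻¹) * q⁻¹ := hd
      have hc2 : q⁻¹ * (k * q * k⁻¹) * d⁻¹ ∈ D.Z := by
        have := D.comm_Q (inv_mem hq) (mem_norm hQ hq)
        rw [commutatorElement_def] at this
        convert this using 1
        rw [hd]; group
      have hc3 := cZ (x := a) (Subgroup.mem_centralizer_iff.2 fun z hz => (D.Jc a ha.1 z (D.Z_le_J hz)).symm) hc2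
      calc d * a = (q⁻¹ * (k * q * k⁻¹) * d⁻¹)⁻¹ * (q⁻¹ * (k * q * k⁻¹) * a) := by group
        _ = (q⁻¹ * (k * q * k⁻¹) * d⁻¹)⁻¹ * (a * (q⁻¹ * (k * q * k⁻¹))) := by rw [hz]
        _ = (q⁻¹ * (k * q * k⁻¹) * d⁻¹)⁻¹ * (a * (q⁻¹ * (k * q * k⁻¹) * d⁻¹) * a⁻¹) * a * d := by group
        _ = a * d := by rw [hc3, inv_mul_cancel, one_mul]
    have h1 : d = 1 := coprime_fix (k := k) (b := q) (h d hdA) (by rw [hd]; group) (D.Je d hdA.1) hn hco
    rw [hd, mul_inv_eq_one] at h1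
    exact (mul_inv_eq_iff_eq_mul.1 h1).symm
  have h3 := D.Qe k (D.QC (Subgroup.mem_centralizer_iff.2 hfix))
  have := pow_gcd_eq_one.2 ⟨hn, h3⟩
  rwa [hco.gcd_eq_one, pow_one] at this

namespace Ctx

variable {C : Ctx D} {x y : ZMod 3}

theorem cent_Z_of {n : G} (e : n * C.z * n⁻¹ = C.z) : n ∈ Subgroup.centralizer (D.Z : Set G) :=
  Subgroup.mem_centralizer_iff.2 fun z hz => by
    rcases Norm.Z_gen C.base.hz C.base.z1 hz with rfl | rfl | rfl
    · simp
    · exact (mul_inv_eq_iff_eq_mul.1 e).symm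
    · exact (Commute.inv_right (show Commute n C.z from mul_inv_eq_iff_eq_mul.1 e)).eq.symm

theorem coprime_lift (h : x ≠ 0 ∨ y ≠ 0) (l : C.Na x y) {n : ℕ} (hn : C.πa x y l ^ n = 1) (hco : n.Coprime 3) :
    ∃ e : ℕ, C.πa x y (l ^ e) = C.πa x y l ∧ (l ^ e) ^ n = 1 := by
  have h3 : n % 3 = 1 ∨ n % 3 = 2 := by
    have : ¬ 3 ∣ n := Nat.prime_three.coprime_iff_not_dvd.1 hco.symm
    omega
  obtain ⟨e, he, m, hm⟩ : ∃ e, 3 ∣ e ∧ ∃ m, e = n * m + 1 := by
    rcases h3 with h3 | h3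
    · exact ⟨2 * n + 1, by omega, 2, by omega⟩
    · exact ⟨n + 1, by omega, 1, by omega⟩
  refine ⟨e, ?_, ?_⟩
  · rw [map_pow, hm, pow_succ, pow_mul, hn, one_pow, one_mul]
  · rw [← pow_mul, mul_comm, pow_mul]
    obtain ⟨r, rfl⟩ := he
    rw [pow_mul]
    have hmem : ((l ^ n : C.Na x y) : G) ∈ Subgroup.zpowers (C.av x y) := πa_one.1 (by rw [map_pow, hn])
    obtain ⟨k, hk⟩ := zpow_av hmem
    rw [show (l ^ n) ^ 3 = 1 from Subtype.ext (by rw [Subgroup.coe_pow, hk, Subgroup.coe_one]; exact D.Je _ (C.vec_mem _)),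
      one_pow]

/-- the key vanishing -/
theorem fix_iso_trivial (h : x ≠ 0 ∨ y ≠ 0) {K : Subgroup (C.Qa x y)} (hK : (Nat.card K).Coprime 3)
    (hJK : ∀ j ∈ C.img x y D.J, ∀ k ∈ K, j * k * j⁻¹ ∈ K) (k : C.Na x y) {n : ℕ} (hn : k ^ n = 1)
    (hco : n.Coprime 3) (hkK : C.πa x y k ∈ K) (hka : (k : G) * C.av x y * (k : G)⁻¹ = C.av x y)
    {v : V4} (hv0 : v ≠ 0) (hv : nf v = 0) (hkv : (k : G) * C.vec v * (k : G)⁻¹ = C.vec v) : k = 1 := by
  obtain ⟨m, hm⟩ := C.exists_move hv0 hv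
  set k' := (m : G)⁻¹ * k * m with hk'
  have hkn : k' ^ n = 1 := by
    rw [hk', show (m : G)⁻¹ * k * m = (m : G)⁻¹ * k * (m : G)⁻¹⁻¹ by rw [inv_inv], conj_pow, ← Subgroup.coe_pow, hn]
    simp
  have hk'Z : k' ∈ Subgroup.centralizer (D.Z : Set G) := by
    refine cent_Z_of (C := C) ?_
    calc k' * C.z * k'⁻¹ = (m : G)⁻¹ * ((k : G) * ((m : G) * C.z * (m : G)⁻¹) * (k : G)⁻¹) * m := by rw [hk']; group
      _ = (m : G)⁻¹ * ((m : G) * C.z * (m : G)⁻¹) * m := by rw [hm, hkv]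
      _ = C.z := by group
  have hfix : ∀ a'' ∈ D.A, k' * a'' * k'⁻¹ = a'' := by
    intro a'' ha''
    obtain ⟨b, hb⟩ : ∃ b : G, b = (m : G) * a'' * (m : G)⁻¹ := ⟨_, rfl⟩
    have hbJ : b ∈ D.J := hb ▸ mem_norm (D.M_norm m.2) ha''.1
    set d : C.Na x y := ⟨b, J_le_Na hbJ⟩ * k * ⟨b, J_le_Na hbJ⟩⁻¹ * k⁻¹ with hd
    have hdK : C.πa x y d ∈ K := by
      rw [hd, map_mul, map_mul, map_mul, map_inv, map_inv]
      exact mul_mem (hJK _ ⟨⟨b, J_le_Na hbJ⟩, hbJ, rfl⟩ _ hkK) (inv_mem hkK)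
    have hd3 : d ^ 3 = 1 := by
      have he : (d : G) = (m : G) * (a'' * (k' * a''⁻¹ * k'⁻¹)) * (m : G)⁻¹ := by
        simp only [hd, Subgroup.coe_mul, Subgroup.coe_inv, hb, hk']; group
      refine Subtype.ext ?_
      rw [Subgroup.coe_pow, he, conj_pow,
        D.Qe _ (mul_mem ha''.2 (mem_norm (D.Q_conj (cent_le_norm _ hk'Z)) (inv_mem ha''.2)))]
      simp
    have hd1 : C.πa x y d = 1 := by
      have e1 : C.πa x y d ^ Nat.card K = 1 := congrArg Subtype.val (pow_card_eq_one' (G := K) (x := ⟨_, hdK⟩))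
      have e2 : C.πa x y d ^ 3 = 1 := by rw [← map_pow, hd3, map_one]
      have := pow_gcd_eq_one.2 ⟨e1, e2⟩
      rwa [hK.gcd_eq_one, pow_one] at this
    obtain ⟨i, hi⟩ := zpow_av (πa_one.1 hd1)
    have hkd : (k : G) * (d : G)⁻¹ * (k : G)⁻¹ = (d : G)⁻¹ := by
      rw [hi, ← C.vec_neg, show -((0 : ZMod 3), i * x, i * y, (0 : ZMod 3)) = (((-i) * 0, (-i) * x, (-i) * y, (-i) * 0) : V4) by simp,
        ← C.vec_smul (-i) (0, x, y, 0), pw_conj, hka]
    have hkb : (k : G) * b * (k : G)⁻¹ = (d : G)⁻¹ * b := by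
      simp only [hd, Subgroup.coe_mul, Subgroup.coe_inv]; group
    have h1 : (d : G)⁻¹ = 1 := coprime_fix hkd hkb (by rw [hi, ← C.vec_neg]; exact D.Je _ (C.vec_mem _))
      (by rw [← Subgroup.coe_pow, hn, Subgroup.coe_one]) hco
    rw [h1, one_mul] at hkb
    calc k' * a'' * k'⁻¹ = (m : G)⁻¹ * ((k : G) * b * (k : G)⁻¹) * m := by rw [hk', hb]; group
      _ = a'' := by rw [hkb, hb]; group
  have h1 := cent_A_trivial hk'Z hkn hco hfix
  refine Subtype.ext ?_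
  calc (k : G) = (m : G) * k' * (m : G)⁻¹ := by rw [hk']; group
    _ = 1 := by rw [h1]; group

/-- a large subgroup of the elementary abelian subgroup containing the element contains an isotropic vector -/
theorem exists_iso_in (h : x ≠ 0 ∨ y ≠ 0) {P : Subgroup G} (hP : P ≤ D.J) (ha : C.av x y ∈ P)
    (hcard : 27 ≤ Nat.card P) : ∃ v : V4, v ≠ 0 ∧ nf v = 0 ∧ C.vec v ∈ P := by
  let E : Subgroup G :=
    { carrier := {g | ∃ a b : ZMod 3, g = C.vec (a, 0, 0, b)}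
      one_mem' := ⟨0, 0, C.vec_zero.symm⟩
      mul_mem' := by
        rintro _ _ ⟨a, b, rfl⟩ ⟨a', b', rfl⟩
        exact ⟨a + a', b + b', by rw [← C.vec_add]; simp⟩
      inv_mem' := by
        rintro _ ⟨a, b, rfl⟩
        exact ⟨-a, -b, by rw [← C.vec_neg]; simp⟩ }
  have hE : E ≤ D.J := by rintro _ ⟨a, b, rfl⟩; exact C.vec_mem _
  have hEc : Nat.card E = 9 := by
    have hb : Function.Bijective (fun p : ZMod 3 × ZMod 3 => (⟨C.vec (p.1, 0, 0, p.2), p.1, p.2, rfl⟩ : E)) := by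
      refine ⟨fun p q e => ?_, ?_⟩
      · have := C.vec_inj (congrArg Subtype.val e)
        simp only [Prod.mk.injEq] at this
        exact Prod.ext this.1 this.2.2.2
      · rintro ⟨_, a, b, rfl⟩; exact ⟨(a, b), rfl⟩
    rw [← Nat.card_eq_of_bijective _ hb, Nat.card_eq_fintype_card]; rfl
  have key : ∀ H : Subgroup G, H ≤ D.J → Nat.card P * Nat.card H ≤ 81 * Nat.card (P ⊓ H : Subgroup G) := by
    intro H hH
    have hc := Cfsg.Agent.Solv.card_sup_mul_card_inf' P H (fun g hg => cent_le_norm _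
      (Subgroup.mem_centralizer_iff.2 fun p hp => D.Jc p (hP hp) g (hH hg)))
    rw [← hc]
    exact Nat.mul_le_mul_right _ (D.hJ ▸ Subgroup.card_le_of_le (sup_le hP hH))
  have hA := key D.A inf_le_left
  rw [D.card_S.2.2] at hA
  obtain ⟨e, he, hea⟩ : ∃ e ∈ P ⊓ D.A, e ∉ Subgroup.zpowers (C.av x y) := by
    by_contra hh
    simp only [not_exists, not_and, not_not] at hh
    have h9 := Subgroup.card_le_of_le (fun e he => hh e he : P ⊓ D.A ≤ Subgroup.zpowers (C.av x y))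
    rw [order_av h] at h9
    nlinarith
  have hB := key E hE
  rw [hEc] at hB
  obtain ⟨d, hd, hd1⟩ : ∃ d ∈ P ⊓ E, d ≠ 1 := by
    by_contra hh
    simp only [not_exists, not_and, not_not] at hh
    have h1 := Subgroup.card_le_of_le (fun e he => Subgroup.mem_bot.2 (hh e he) : P ⊓ E ≤ ⊥)
    rw [Subgroup.card_bot] at h1
    nlinarith
  obtain ⟨⟨g, w1, w2, w3⟩, rfl⟩ := C.vec_surj he.2.1
  have hw3 : w3 = 0 := C.A_b he.2.2
  subst hw3
  obtain ⟨a, b, rfl⟩ := hd.2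
  obtain ⟨i, j, k, hne, hnf⟩ := iso_in_span x y g w1 w2 a b h
    (fun i e => hea (by
      simp only [Prod.mk.injEq] at e
      rw [e.1, e.2.1, e.2.2, show ((0 : ZMod 3), i * x, i * y, (0 : ZMod 3)) = (i * 0, i * x, i * y, i * 0) by simp,
        ← C.vec_smul i (0, x, y, 0)]
      exact pw_mem (Subgroup.mem_zpowers _) _))
    (by
      by_contra hh
      simp only [ne_eq, not_or, not_not] at hh
      exact hd1 (by rw [hh.1, hh.2]; exact C.vec_zero))
  refine ⟨_, hne, hnf, ?_⟩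
  have := mul_mem (mul_mem (pw_mem ha i) (pw_mem he.1 j)) (pw_mem hd.1 k)
  rw [C.vec_smul, C.vec_smul, C.vec_smul, ← C.vec_add, ← C.vec_add] at this
  simpa using this

/-- the image of the elementary abelian subgroup normalises no non-trivial subgroup of order prime to three -/
theorem signalizer (h : x ≠ 0 ∨ y ≠ 0) (K : Subgroup (C.Qa x y)) (hK : (Nat.card K).Coprime 3)
    (hJK' : ∀ j ∈ C.img x y D.J, K.map (MulAut.conj j).toMonoidHom = K) : K = ⊥ := by
  have hJK : ∀ j ∈ C.img x y D.J, ∀ k ∈ K, j * k * j⁻¹ ∈ K := fun j hj k hk => by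
    rw [← hJK' j hj]; exact ⟨k, hk, rfl⟩
  set Jb := C.img x y D.J with hJb
  haveI hJc : IsMulCommutative Jb := ⟨⟨by
    rintro ⟨_, a, ha, rfl⟩ ⟨_, b, hb, rfl⟩
    refine Subtype.ext ?_
    show C.πa x y a * C.πa x y b = C.πa x y b * C.πa x y a
    rw [← map_mul, ← map_mul]; congr 1; exact Subtype.ext (D.Jc _ ha _ hb)⟩⟩
  set K0 := K ⊓ C.img x y (Subgroup.centralizer ({C.av x y} : Set G)) with hK0
  have hJimg : ∀ j ∈ Jb, ∀ k ∈ K0, j * k * j⁻¹ ∈ K0 := by
    rintro _ ⟨j, hj, rfl⟩ k ⟨hk, l, hl, rfl⟩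
    refine ⟨hJK _ ⟨j, hj, rfl⟩ _ hk, ⟨j * l * j⁻¹, ?_, by rw [map_mul, map_mul, map_inv]⟩⟩
    have hja : (j : G) ∈ Subgroup.centralizer ({C.av x y} : Set G) :=
      Subgroup.mem_centralizer_singleton_iff.2 (D.Jc _ hj _ (C.vec_mem _))
    exact mul_mem (mul_mem hja hl) (inv_mem hja)
  have hnorm : Jb ≤ Subgroup.normalizer (K0 : Set (C.Qa x y)) := fun j hj => by
    rw [Subgroup.mem_normalizer_iff_map_conj_eq]
    refine Subgroup.eq_of_le_of_card_ge ?_ (le_of_eq (Subgroup.card_map_of_injective (MulEquiv.injective _)).symm)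
    rintro _ ⟨k, hk, rfl⟩
    exact hJimg j hj k hk
  have hJ27 : Nat.card Jb = 27 := by
    have := card_img (C := C) h (H := D.J) J_le_Na (C.vec_mem _)
    rw [D.hJ, ← hJb] at this
    omega
  have hK03 : (Nat.card K0).Coprime 3 := hK.coprime_dvd_left (Subgroup.card_dvd_of_le inf_le_left)
  have hgen := Cfsg.Agent.Solv.gen_eq Jb K0 hJc hnorm (by
    rw [hJ27, show 27 = 3 ^ 3 from rfl]; exact (hK03.pow_right 3).symm)
  have hJb3 : ∀ j ∈ Jb, j ^ 3 = 1 := by
    rintro _ ⟨j, hj, rfl⟩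
    rw [← map_pow, show j ^ 3 = 1 from Subtype.ext (D.Je _ hj), map_one]
  have hK0bot : K0 = ⊥ := by
    rw [← hgen, iSup₂_eq_bot]
    intro B ⟨hB, a, haJ, hBa⟩
    rw [eq_bot_iff]
    rintro k ⟨⟨hk, l, hl, rfl⟩, hkB⟩
    replace hkB := Subgroup.mem_centralizer_iff.1 hkB
    have hB9 : 9 ≤ Nat.card B := by
      have hc := Cfsg.Agent.Solv.card_sup_mul_card_inf' B (Subgroup.zpowers a) (fun g hg => cent_le_norm _
        (Subgroup.mem_centralizer_iff.2 fun b hb =>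
          congrArg Subtype.val (hJc.is_comm.comm ⟨b, hB hb⟩ ⟨g, Subgroup.zpowers_le.2 haJ hg⟩)))
      rw [hBa, hJ27, Nat.card_zpowers] at hc
      have ha3 : orderOf a ≤ 3 := orderOf_le_of_pow_eq_one (by norm_num) (hJb3 a haJ)
      have hpos : 0 < Nat.card (B ⊓ Subgroup.zpowers a : Subgroup _) := Nat.card_pos
      nlinarith
    let P : Subgroup G := (B.comap (C.πa x y)).map (C.Na x y).subtype ⊓ D.J
    have haP : C.av x y ∈ P := by
      refine ⟨⟨⟨_, J_le_Na (C.vec_mem _)⟩, ?_, rfl⟩, C.vec_mem _⟩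
      rw [SetLike.mem_coe, Subgroup.mem_comap, (πa_one (n := ⟨C.av x y, _⟩)).2 (Subgroup.mem_zpowers _)]
      exact one_mem _
    have hPimg : C.img x y P = B := by
      ext q
      constructor
      · rintro ⟨n, ⟨⟨n', hn', e⟩, -⟩, rfl⟩
        rwa [← show n' = n from Subtype.ext e]
      · intro hq
        obtain ⟨n, hn, rfl⟩ := hB hq
        exact ⟨n, ⟨⟨n, hq, rfl⟩, hn⟩, rfl⟩
    have hP27 : 27 ≤ Nat.card P := by
      have := card_img (C := C) h (H := P) (inf_le_right.trans J_le_Na) haP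
      rw [hPimg] at this
      omega
    obtain ⟨v, hv0, hv, ⟨nv, hnv, hnve⟩, -⟩ := exists_iso_in h inf_le_right haP hP27
    obtain ⟨e, he, hen⟩ := coprime_lift h l (n := Nat.card K)
      (congrArg Subtype.val (pow_card_eq_one' (G := K) (x := ⟨_, hk⟩))) hK
    rw [Subgroup.mem_bot, ← he]
    set k := l ^ e with hke
    have hka : (k : G) * C.av x y * (k : G)⁻¹ = C.av x y := by
      have : (k : G) ∈ Subgroup.centralizer ({C.av x y} : Set G) := by
        rw [hke, Subgroup.coe_pow]; exact pow_mem hl e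
      rw [Subgroup.mem_centralizer_singleton_iff.1 this, mul_inv_cancel_right]
    have hc1 : C.πa x y (k * nv * k⁻¹ * nv⁻¹) = 1 := by
      rw [map_mul, map_mul, map_mul, map_inv, map_inv, he, ← hkB _ hnv]; group
    obtain ⟨i, hi⟩ := zpow_av (πa_one.1 hc1)
    have hc : ((k * nv * k⁻¹ * nv⁻¹ : C.Na x y) : G) = 1 := by
      refine coprime_fix (k := (k : G)) (b := (nv : G)) ?_ ?_ ?_
        (by rw [← Subgroup.coe_pow, hen, Subgroup.coe_one]) hK
      · rw [hi, show ((0 : ZMod 3), i * x, i * y, (0 : ZMod 3)) = (i * 0, i * x, i * y, i * 0) by simp,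
          ← C.vec_smul i (0, x, y, 0), pw_conj, hka]
      · simp only [Subgroup.coe_mul, Subgroup.coe_inv]; group
      · rw [hi]; exact D.Je _ (C.vec_mem _)
    have hnve' : (nv : G) = C.vec v := hnve
    rw [fix_iso_trivial h hK hJK k hen hK (he ▸ hk) hka hv0 hv ?_, map_one]
    simp only [Subgroup.coe_mul, Subgroup.coe_inv] at hc
    rw [← hnve']
    exact mul_inv_eq_one.1 hc
  -- hence at most one non-trivial element, inverting
  by_contra hne
  obtain ⟨k, hk, hk1⟩ : ∃ k ∈ K, k ≠ 1 := by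
    by_contra hh
    simp only [not_exists, not_and, not_not] at hh
    exact hne (eq_bot_iff.2 fun k hk => hh k hk)
  have hinv : ∀ k ∈ K, k ≠ 1 → ∀ l : C.Na x y, C.πa x y l = k →
      (l : G) * C.av x y * (l : G)⁻¹ = (C.av x y)⁻¹ := by
    intro k hk hk1 l hl
    rcases (mem_Na h).1 l.2 with e | e
    · have hm : k ∈ K0 := ⟨hk, l, Subgroup.mem_centralizer_singleton_iff.2 (mul_inv_eq_iff_eq_mul.1 e), hl⟩
      rw [hK0bot, Subgroup.mem_bot] at hm
      exact absurd hm hk1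
    · exact e
  have htwo : ∀ k ∈ K, ∀ k' ∈ K, k ≠ 1 → k' ≠ 1 → k * k' = 1 := by
    intro k hk k' hk' h1 h1'
    obtain ⟨l, rfl⟩ := QuotientGroup.mk'_surjective _ k
    obtain ⟨l', rfl⟩ := QuotientGroup.mk'_surjective _ k'
    have hm : C.πa x y l * C.πa x y l' ∈ K0 := ⟨mul_mem hk hk', l * l', ?_, map_mul _ _ _⟩
    · rw [hK0bot, Subgroup.mem_bot] at hm; exact hm
    refine Subgroup.mem_centralizer_singleton_iff.2 (mul_inv_eq_iff_eq_mul.1 ?_)
    have e1 := hinv _ hk h1 l rfl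
    have e2 := hinv _ hk' h1' l' rfl
    calc (l : G) * l' * C.av x y * ((l : G) * l')⁻¹ = (l : G) * ((l' : G) * C.av x y * (l' : G)⁻¹) * (l : G)⁻¹ := by group
      _ = ((l : G) * C.av x y * (l : G)⁻¹)⁻¹ := by rw [e2]; group
      _ = _ := by rw [e1, inv_inv]
  have hkk := htwo k hk k hk hk1 hk1
  have hcom : ∀ j ∈ Jb, j * k * j⁻¹ = k := fun j hj => by
    have hm := hJK j hj k hk
    have hm1 : j * k * j⁻¹ ≠ 1 := fun e => hk1 (conj_eq_one_iff.1 e)
    have := htwo _ hm k hk hm1 hk1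
    rw [eq_inv_of_mul_eq_one_left this, inv_eq_of_mul_eq_one_right hkk]
  obtain ⟨l0, hl0⟩ := QuotientGroup.mk'_surjective _ k
  obtain ⟨e, he, hen⟩ := coprime_lift h l0 (n := 2) (by rw [hl0, pow_two, hkk]) (by norm_num)
  set l := l0 ^ e
  have hlk : C.πa x y l = k := he.trans hl0
  have hla := hinv k hk hk1 l hlk
  have hlv : ∀ v, ∃ i, (l : G) * C.vec v * (l : G)⁻¹ = C.vec (v + (0, i * x, i * y, 0)) := by
    intro v
    set nv : C.Na x y := ⟨C.vec v, J_le_Na (C.vec_mem v)⟩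
    have h1 : C.πa x y (l * nv * l⁻¹ * nv⁻¹) = 1 := by
      rw [map_mul, map_mul, map_mul, map_inv, map_inv, hlk]
      have := hcom (C.πa x y nv) ⟨nv, C.vec_mem v, rfl⟩
      calc _ = k * ((C.πa x y nv) * k⁻¹ * (C.πa x y nv)⁻¹) := by group
        _ = k * (C.πa x y nv * k * (C.πa x y nv)⁻¹)⁻¹ := by group
        _ = 1 := by rw [this, mul_inv_cancel]
    obtain ⟨i, hi⟩ := zpow_av (πa_one.1 h1)
    refine ⟨i, ?_⟩
    simp only [Subgroup.coe_mul, Subgroup.coe_inv] at hi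
    rw [mul_inv_eq_iff_eq_mul.1 hi, ← C.vec_add, add_comm]
  have hlJ : (l : G) ∈ Subgroup.normalizer (D.J : Set G) := by
    rw [Subgroup.mem_normalizer_iff_map_conj_eq]
    refine Subgroup.eq_of_le_of_card_ge ?_ (le_of_eq (Subgroup.card_map_of_injective (MulEquiv.injective _)).symm)
    rintro _ ⟨w, hw, rfl⟩
    obtain ⟨v, rfl⟩ := C.vec_surj hw
    obtain ⟨i, hi⟩ := hlv v
    show (l : G) * C.vec v * (l : G)⁻¹ ∈ D.J
    rw [hi]; exact C.vec_mem _
  have hlZ : (l : G) ∈ Subgroup.centralizer (D.Z : Set G) := by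
    obtain ⟨i, hi⟩ := hlv (1, 0, 0, 0)
    refine CZ_of (C := C) (x := x) (y := y) h ?_
    rw [← C.vec_z, hi, ← C.vec_neg, ← C.vec_add,
      show ((1, 0, 0, 0) : V4) + (0, i * x, i * y, 0) + -(1, 0, 0, 0) = (i * 0, i * x, i * y, i * 0) by simp,
      ← C.vec_smul i (0, x, y, 0)]
    exact pw_mem (Subgroup.mem_zpowers _) _
  have hlz' : (l : G) * C.toNorm.z' C.z * (l : G)⁻¹ = C.toNorm.z' C.z := by
    obtain ⟨i, hi⟩ := hlv (0, 0, 0, 1)
    have h0 := C.iso_perm hlJ (v := (0, 0, 0, 1)) (by simp [nf]) hi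
    have hi0 : i = 0 := by
      by_contra hne'
      refine qf_ne (i * x) (i * y) ?_ ?_
      · rcases h with h | h
        · exact Or.inl (mul_ne_zero hne' h)
        · exact Or.inr (mul_ne_zero hne' h)
      · simpa [nf, qf] using h0
    subst hi0
    rw [← C.vec_z', hi]
    simp
  obtain ⟨H, hH, hH'⟩ := C.rot_of hlZ hlz'
  have ha' : app H (x, y) = -(x, y) := by
    have e := hla
    rw [show C.av x y = C.vec (0, x, y, 0) from rfl, hH', ← C.vec_neg] at e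
    have := C.vec_inj e
    simp only [lm, Prod.neg_mk, Prod.mk.injEq] at this
    exact Prod.ext this.2.1 this.2.2.1
  rcases app_fix_cases H x y h hH (Or.inr ha') with rfl | rfl
  · rw [app_one] at ha'
    have h0 : ∀ a : ZMod 3, a = -a → a = 0 := by decide
    rcases h with h | h
    · exact h (h0 _ (congrArg Prod.fst ha'))
    · exact h (h0 _ (congrArg Prod.snd ha'))
  · obtain ⟨i, hi⟩ := hlv (0, -y, x, 0)
    rw [hH'] at hi
    have := C.vec_inj hi
    simp only [lm, Prod.mk_add_mk, Prod.mk.injEq] at this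
    exact perp_neg x y i h (Prod.ext this.2.1 this.2.2.1)

/-- the normaliser normalises the elementary abelian subgroup, unless the quotient is the symmetric group -/
theorem aniso_dichotomy (h : x ≠ 0 ∨ y ≠ 0) :
    C.Na x y ≤ Subgroup.normalizer (D.J : Set G) ∨ Nonempty (C.Qa x y ≃* Equiv.Perm (Fin 9)) := by
  haveI : Fact (Nat.Prime 3) := ⟨Nat.prime_three⟩
  obtain ⟨eC⟩ := exists_eC (C := C) h
  have hz3 : orderOf (C.zb x y) = 3 := by
    refine orderOf_eq_prime ?_ fun e => ?_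
    · rw [show C.zb x y = C.πa x y ⟨C.z, J_le_Na (D.Z_le_J C.base.hz)⟩ from rfl, ← map_pow,
        show (⟨C.z, J_le_Na (D.Z_le_J C.base.hz)⟩ : C.Na x y) ^ 3 = 1 from Subtype.ext (D.Je _ (D.Z_le_J C.base.hz)),
        map_one]
    · obtain ⟨k, hk⟩ := zpow_av (πa_one.1 e)
      exact one_ne_zero (congrArg Prod.fst (C.vec_inj ((C.vec_z).trans hk)))
  rcases Cfsg.Agent.S3343.result (C.zb x y) hz3 eC (C.img x y D.J) (by
      rw [cent_zb h]
      rintro _ ⟨n, hn, rfl⟩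
      exact ⟨n, J_le_Ya hn, rfl⟩)
    ⟨⟨by
      rintro ⟨_, a, ha, rfl⟩ ⟨_, b, hb, rfl⟩
      refine Subtype.ext ?_
      show C.πa x y a * C.πa x y b = C.πa x y b * C.πa x y a
      rw [← map_mul, ← map_mul]; congr 1; exact Subtype.ext (D.Jc _ ha _ hb)⟩⟩
    (by rintro _ ⟨j, hj, rfl⟩; rw [← map_pow, show j ^ 3 = 1 from Subtype.ext (D.Je _ hj), map_one])
    (by
      have := card_img (C := C) h (H := D.J) J_le_Na (C.vec_mem _)
      rw [D.hJ] at this
      omega)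
    (fun K hK hKJ => signalizer h K hK hKJ) with hn | hS
  swap
  · exact Or.inr hS
  refine Or.inl fun n hn' => ?_
  rw [Subgroup.mem_normalizer_iff_map_conj_eq]
  refine Subgroup.eq_of_le_of_card_ge ?_ (le_of_eq (Subgroup.card_map_of_injective (MulEquiv.injective _)).symm)
  rintro _ ⟨j, hj, rfl⟩
  have hm := hn.conj_mem _ (⟨⟨j, J_le_Na hj⟩, hj, rfl⟩ : C.πa x y ⟨j, J_le_Na hj⟩ ∈ C.img x y D.J) (C.πa x y ⟨n, hn'⟩)
  rw [← map_inv, ← map_mul, ← map_mul] at hm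
  obtain ⟨i, hi, e⟩ := hm
  have h1 := πa_one.1 (show C.πa x y (i⁻¹ * (⟨n, hn'⟩ * ⟨j, J_le_Na hj⟩ * ⟨n, hn'⟩⁻¹)) = 1 by
    rw [map_mul, map_inv, e, inv_mul_cancel])
  have h2 : (i : G)⁻¹ * (n * j * n⁻¹) ∈ D.J := Subgroup.zpowers_le.2 (C.vec_mem _) h1
  have := mul_mem (show (i : G) ∈ D.J from hi) h2
  rwa [mul_inv_cancel_left] at this

end Ctx

end Cfsg.Agent.MclThree
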