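import Mathlib

/-!
Two commuting elements with centralisers of order 162 in the symmetric group of degree nine, the second in a
base group of the centraliser of the first: a quotient of them is a three-cycle, so commutes with an element of
order five.
-/

set_option autoImplicit false
set_option maxRecDepth 100000
set_option maxHeartbeats 1000000

namespace Cfsg.Agent.MclThree

namespace Nine

/-- Composition of permutations written as lists of values. -/
def comp (f g : List ℕ) : List ℕ := g.map fun i => f.getD i 0

/-- The inverse of a permutation written as a list of values. -/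
def linv (f : List ℕ) : List ℕ := (List.range 9).map fun i => f.idxOf i

/-- The rotation of the three blocks. -/
def rot (v : ℕ) : ℕ := 3 * (v / 3) + (v % 3 + 1) % 3

/-- The list of an element commuting with the rotation, from three of its values. -/
def mk (a b c : ℕ) : List ℕ := [a, rot a, rot (rot a), b, rot b, rot (rot b), c, rot c, rot (rot c)]

/-- The list of the rotation. -/
def base : List ℕ := mk 1 4 7

/-- The elements commuting with the rotation. -/
def cands : List (List ℕ) :=
  ((List.range 9).flatMap fun a => (List.range 9).flatMap fun b => (List.range 9).map fun c => mk a b c).filter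
    fun l => decide l.Nodup

/-- the check on one pair -/
def good (b p : List ℕ) : Bool :=
  !((comp (comp (comp p b) (linv p)) b == comp b (comp (comp p b) (linv p))) &&
    !([List.range 9, base, comp base base].contains (comp (comp (comp p b) (linv p)) (linv b))) &&
    (comp (comp b (comp (comp p b) (linv p))) (comp (comp (comp p p) b) (linv (comp p p))) == base)) ||
  ((List.range 9).filter fun i => (comp base (linv b)).getD i 0 != i).length == 3

/-- the check on all pairs -/
theorem table : ∀ b ∈ cands.filter (fun b => (comp b (comp b b) == List.range 9) &&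
    (List.range 9).all fun i => b.getD i 0 != i), cands.all (good b) = true := by
  decide +kernel

/-- The list of values of a permutation. -/
def toL (σ : Equiv.Perm (Fin 9)) : List ℕ := List.ofFn fun i => (σ i : ℕ)

theorem getD_toL (σ : Equiv.Perm (Fin 9)) (i : Fin 9) : (toL σ).getD i 0 = (σ i : ℕ) := by
  rw [toL, List.getD_eq_getElem?_getD, List.getElem?_eq_getElem (by simp), Option.getD_some, List.getElem_ofFn]

theorem toL_inj {σ τ : Equiv.Perm (Fin 9)} (h : toL σ = toL τ) : σ = τ :=
  Equiv.ext fun i => Fin.ext (congrFun (List.ofFn_inj.1 h) i)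

theorem toL_mul (σ τ : Equiv.Perm (Fin 9)) : toL (σ * τ) = comp (toL σ) (toL τ) := by
  simp only [comp, toL, List.map_ofFn]
  exact congrArg List.ofFn (funext fun i => (getD_toL σ (τ i)).symm)

theorem toL_one : toL 1 = List.range 9 := by decide

theorem toL_inv (σ : Equiv.Perm (Fin 9)) : toL σ⁻¹ = linv (toL σ) := by
  refine List.ext_getElem (by simp [toL, linv]) fun i h1 h2 => ?_
  have hi : i < 9 := by simpa [toL] using h1
  simp only [toL, linv, List.getElem_ofFn, List.getElem_map, List.getElem_range]
  set j := σ⁻¹ ⟨i, hi⟩ with hj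
  set L := List.ofFn fun i => (σ i : ℕ) with hL
  have hnd : L.Nodup := List.nodup_ofFn.2 fun a b h => σ.injective (Fin.ext h)
  have hjl : (j : ℕ) < L.length := by simp [hL]
  have hv : L[(j : ℕ)] = i := by
    simp only [hL, List.getElem_ofFn, Fin.eta, hj, Equiv.Perm.inv_def, Equiv.apply_symm_apply]
  conv_rhs => rw [← hv]
  exact (List.Nodup.idxOf_getElem hnd _ hjl).symm

/-- The rotation as a permutation. -/
def rotPerm : Equiv.Perm (Fin 9) where
  toFun i := ⟨rot i, by have := i.2; unfold rot; omega⟩
  invFun i := ⟨rot (rot i), by have := i.2; unfold rot; omega⟩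
  left_inv i := Fin.ext (by have := i.2; simp only [rot]; omega)
  right_inv i := Fin.ext (by have := i.2; simp only [rot]; omega)

theorem mem_cands {σ : Equiv.Perm (Fin 9)} (h : rotPerm * σ = σ * rotPerm) : toL σ ∈ cands := by
  have hc : ∀ i, σ (rotPerm i) = rotPerm (σ i) := fun i => (DFunLike.congr_fun h i).symm
  refine List.mem_filter.2 ⟨?_, decide_eq_true (List.nodup_ofFn.2 fun a b h => σ.injective (Fin.ext h))⟩
  simp only [List.mem_flatMap, List.mem_map, List.mem_range]
  refine ⟨σ 0, (σ 0).2, σ 3, (σ 3).2, σ 6, (σ 6).2, ?_⟩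
  have e : ∀ i, rot (σ i : ℕ) = (σ (rotPerm i) : ℕ) := fun i => by rw [hc i]; rfl
  simp only [mk, e]
  simp only [toL, List.ofFn_succ, List.ofFn_zero]
  rfl

/-- An element of cube one has only cycles of length three. -/
theorem type_eq {x : Equiv.Perm (Fin 9)} (hx : x ^ 3 = 1) :
    ∃ j ≤ 3, x.cycleType = Multiset.replicate j 3 ∧ x.support.card = 3 * j := by
  have hall : ∀ n ∈ x.cycleType, n = 3 := fun n hn => by
    have h2 := Equiv.Perm.two_le_of_mem_cycleType hn
    have h3 := (Equiv.Perm.dvd_of_mem_cycleType hn).trans (orderOf_dvd_of_pow_eq_one hx)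
    rcases (Nat.dvd_prime (by norm_num)).1 h3 with h | h <;> omega
  have hj := Multiset.eq_replicate_card.2 hall
  have hs : x.support.card = 3 * x.cycleType.card := by
    rw [← Equiv.Perm.sum_cycleType]
    conv_lhs => rw [hj]
    rw [Multiset.sum_replicate, smul_eq_mul, mul_comm]
  refine ⟨_, ?_, hj, hs⟩
  have h9 : x.support.card ≤ 9 := x.support.card_le_univ.trans (Fintype.card_fin 9).le
  omega

/-- An element of cube one whose centraliser has order 162 is the product of three three-cycles. -/
theorem three_cycles {x : Equiv.Perm (Fin 9)} (hx : x ^ 3 = 1)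
    (hc : Nat.card (Subgroup.centralizer ({x} : Set (Equiv.Perm (Fin 9)))) = 162) :
    x.cycleType = Multiset.replicate 3 3 := by
  obtain ⟨j, hle, hj, -⟩ := type_eq hx
  rw [Equiv.Perm.nat_card_centralizer, hj] at hc
  rw [hj]
  interval_cases j
  · simp [Nat.factorial] at hc
  · simp [Nat.factorial] at hc
  · exact absurd hc (by decide)
  · rfl

theorem rot_type : rotPerm.cycleType = Multiset.replicate 3 3 := by
  obtain ⟨j, -, hj, hs⟩ := type_eq (x := rotPerm) (by decide)
  rw [show rotPerm.support.card = 9 by decide] at hs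
  rw [hj, show j = 3 by omega]

end Nine

open Nine in
theorem exists_five_nine {H : Type*} [Group H] [Finite H] (e : H ≃* Equiv.Perm (Fin 9)) {A B p : H}
    (hA : A ^ 3 = 1) (hA' : Nat.card (Subgroup.centralizer ({A} : Set H)) = 162)
    (hB : B ^ 3 = 1) (hB' : Nat.card (Subgroup.centralizer ({B} : Set H)) = 162)
    (hAB : A * B = B * A) (hpA : p * A = A * p) (hB1 : p * B * p⁻¹ * B = B * (p * B * p⁻¹))
    (hind : p * B * p⁻¹ * B⁻¹ ∉ Subgroup.zpowers A)
    (hprod : B * (p * B * p⁻¹) * (p * p * B * (p * p)⁻¹) = A) :
    ∃ g : H, orderOf g = 5 ∧ g * (A * B⁻¹) = A * B⁻¹ * g := by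
  have hcard : ∀ x : H, Nat.card (Subgroup.centralizer ({e x} : Set (Equiv.Perm (Fin 9)))) =
      Nat.card (Subgroup.centralizer ({x} : Set H)) := fun x => by
    refine (Nat.card_congr (Equiv.subtypeEquiv e.toEquiv fun y => ?_)).symm
    simp only [Subgroup.mem_centralizer_singleton_iff, MulEquiv.toEquiv_eq_coe, EquivLike.coe_coe, ← map_mul,
      e.injective.eq_iff]
  have tA := three_cycles (x := e A) (by rw [← map_pow, hA, map_one]) ((hcard A).trans hA')
  obtain ⟨c, hc⟩ := isConj_iff.1 (Equiv.Perm.isConj_iff_cycleType_eq.2 (tA.trans rot_type.symm))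
  let f : H ≃* Equiv.Perm (Fin 9) := e.trans (MulAut.conj c)
  have hfA : f A = rotPerm := hc
  have hmem : ∀ x : H, A * x = x * A → toL (f x) ∈ cands := fun x hx => mem_cands (by
    rw [← hfA, ← map_mul, hx, map_mul])
  have hfB := three_cycles (x := f B) (by rw [← map_pow, hB, map_one]) (by
    rw [show Nat.card (Subgroup.centralizer ({f B} : Set (Equiv.Perm (Fin 9)))) =
      Nat.card (Subgroup.centralizer ({B} : Set H)) by
        refine (Nat.card_congr (Equiv.subtypeEquiv f.toEquiv fun y => ?_)).symm
        simp only [Subgroup.mem_centralizer_singleton_iff, MulEquiv.toEquiv_eq_coe, EquivLike.coe_coe, ← map_mul,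
          f.injective.eq_iff], hB'])
  have hfix : ∀ i, f B i ≠ i := fun i hi => by
    have h1 : (f B).support.card = 9 := by rw [← Equiv.Perm.sum_cycleType, hfB]; rfl
    have h2 := Finset.eq_univ_of_card _ (by rw [h1, Fintype.card_fin])
    exact Equiv.Perm.mem_support.1 (h2 ▸ Finset.mem_univ i) hi
  have hbf : toL (f B) ∈ cands.filter (fun b => (comp b (comp b b) == List.range 9) &&
      (List.range 9).all fun i => b.getD i 0 != i) := by
    refine List.mem_filter.2 ⟨hmem B hAB, ?_⟩
    rw [Bool.and_eq_true, beq_iff_eq, List.all_eq_true]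
    refine ⟨?_, fun i hi => ?_⟩
    · rw [← toL_mul, ← toL_mul, ← toL_one, ← map_one f, ← hB, ← map_mul, ← map_mul, pow_succ', pow_two]
    · rw [List.mem_range] at hi
      rw [show i = ((⟨i, hi⟩ : Fin 9) : ℕ) from rfl, getD_toL]
      simpa [Fin.ext_iff] using hfix ⟨i, hi⟩
  have hg := List.all_eq_true.1 (table _ hbf) _ (hmem p hpA.symm)
  simp only [good, base, Bool.or_eq_true, Bool.not_eq_true', Bool.and_eq_false_iff] at hg
  have ebase : toL (f A) = mk 1 4 7 := by rw [hfA]; decide
  simp only [← ebase, ← toL_one, ← map_one f, ← toL_inv, ← map_inv, ← toL_mul, ← map_mul] at hg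
  have hinj : Function.Injective fun x : H => toL (f x) := fun x y h => f.injective (toL_inj h)
  have hm : ((List.range 9).filter fun i => (toL (f (A * B⁻¹))).getD i 0 != i).length = 3 := by
    rcases hg with ((h | h) | h) | h
    · simp [hB1] at h
    · simp only [Bool.not_eq_false', List.contains_iff_mem, List.mem_cons, List.not_mem_nil, or_false] at h
      rcases h with h | h | h
      · exact absurd ⟨0, (zpow_zero A).trans (hinj h).symm⟩ hind
      · exact absurd ⟨1, (zpow_one A).trans (hinj h).symm⟩ hind
      · exact absurd ⟨2, (zpow_two A).trans (hinj h).symm⟩ hind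
    · rw [hprod, beq_self_eq_true] at h; exact absurd h (by simp)
    · rw [map_one, toL_one] at h; exact beq_iff_eq.1 h
  have hsupp : (f (A * B⁻¹)).support.card = 3 := by
    rw [← hm, ← List.toFinset_card_of_nodup (List.nodup_range.filter _)]
    refine Finset.card_bij (fun i _ => (i : ℕ)) (fun i hi => ?_) (fun i _ j _ h => Fin.ext h) fun i hi => ?_
    · rw [List.mem_toFinset, List.mem_filter, List.mem_range, getD_toL]
      exact ⟨i.2, by simpa [Fin.ext_iff] using Equiv.Perm.mem_support.1 hi⟩
    · rw [List.mem_toFinset, List.mem_filter, List.mem_range] at hi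
      refine ⟨⟨i, hi.1⟩, Equiv.Perm.mem_support.2 fun h => ?_, rfl⟩
      have h2 := hi.2
      have h3 := getD_toL (f (A * B⁻¹)) ⟨i, hi.1⟩
      rw [h] at h3
      simp only [h3] at h2
      simp at h2
  have h5 : 5 ∣ Nat.card (Subgroup.centralizer ({f (A * B⁻¹)} : Set (Equiv.Perm (Fin 9)))) := by
    rw [Equiv.Perm.nat_card_centralizer, Equiv.Perm.IsThreeCycle.cycleType
      (card_support_eq_three_iff.1 hsupp)]
    decide
  haveI : Fact (Nat.Prime 5) := ⟨by norm_num⟩
  obtain ⟨g, hg5⟩ := exists_prime_orderOf_dvd_card' (G := Subgroup.centralizer ({f (A * B⁻¹)} : Set _)) 5 h5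
  refine ⟨f.symm (g : Equiv.Perm (Fin 9)), by rw [MulEquiv.orderOf_eq, Subgroup.orderOf_coe, hg5], f.injective ?_⟩
  rw [map_mul, MulEquiv.apply_symm_apply, map_mul f (A * B⁻¹), MulEquiv.apply_symm_apply]
  exact Subgroup.mem_centralizer_singleton_iff.1 g.2

end Cfsg.Agent.MclThree
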