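import Cfsg.Agent.Lib.Recognition.MclThreeLocal.Aniso3
import Cfsg.Agent.Lib.Recognition.MclThreeLocal.Nine

/-!
The normaliser of an anisotropic element normalises the elementary abelian subgroup.
-/

set_option autoImplicit false
set_option linter.unusedSectionVars false
set_option synthInstance.maxSize 2000
set_option maxRecDepth 100000
set_option maxHeartbeats 1000000

namespace Cfsg.Agent.MclThree

universe u

theorem orbit_sum : ∀ x y : ZMod 3, (x ≠ 0 ∨ y ≠ 0) →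
    ((0, 0, 0, -qf (x, y)) : V4) + pK (-1) (-y) x (0, 0, 0, -qf (x, y)) +
      pK (-1) (-y) x (pK (-1) (-y) x (0, 0, 0, -qf (x, y))) = (1, 0, 0, 0) := by
  decide +kernel

theorem orbit_indep : ∀ x y j k : ZMod 3, (x ≠ 0 ∨ y ≠ 0) →
    pK (-1) (-y) x (0, 0, 0, -qf (x, y)) - (0, 0, 0, -qf (x, y)) ≠ (j, k * x, k * y, 0) := by
  decide +kernel

theorem plus_minus_iso : ∀ x y : ZMod 3, (x ≠ 0 ∨ y ≠ 0) →
    nf (1, x, y, qf (x, y)) = 0 ∧ nf (1, -x, -y, qf (x, y)) = 0 ∧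
      ∀ c : ZMod 3, ((c * 1, c * x, c * y, c * qf (x, y)) : V4) ≠ (1, -x, -y, qf (x, y)) := by
  decide +kernel

theorem iso_flat : ∀ w : V4, nf w = 0 → w.2.2.2 = 0 → w.2.1 = 0 ∧ w.2.2.1 = 0 := by
  decide +kernel

theorem swap_cases : ∀ x y : ZMod 3, (x = 0 ∨ y = 0) →
    g4 (0, x, y, 0) = (0, x, y, 0) ∨ g4 (0, x, y, 0) = -(0, x, y, 0) := by
  decide +kernel

theorem swap_cases' : ∀ x y : ZMod 3, x ≠ 0 → y ≠ 0 →
    g4 (fM (-1) (0, x, y, 0)) = (0, x, y, 0) ∨ g4 (fM (-1) (0, x, y, 0)) = -(0, x, y, 0) := by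
  decide +kernel

theorem order_five_fix {M : Type*} [Group M] {e a : M} (he : e ^ 5 = 1) (ha : a ^ 3 = 1)
    (h : e * a * e⁻¹ = a ∨ e * a * e⁻¹ = a⁻¹) : e * a * e⁻¹ = a := by
  rcases h with h | h
  · exact h
  · have h2 : e ^ 5 * a * (e ^ 5)⁻¹ = a⁻¹ := by
      have e2 : e * a⁻¹ * e⁻¹ = a := by rw [← inv_inj, mul_inv_rev, mul_inv_rev, inv_inv, inv_inv, ← mul_assoc, h]
      calc e ^ 5 * a * (e ^ 5)⁻¹ = e * (e * (e * (e * (e * a * e⁻¹) * e⁻¹) * e⁻¹) * e⁻¹) * e⁻¹ := by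
            simp [pow_succ, mul_assoc]
        _ = a⁻¹ := by rw [h, e2, h, e2, h]
    rw [he, one_mul, inv_one, mul_one] at h2
    have h4 : a * a = 1 := by nth_rw 1 [h2]; rw [inv_mul_cancel]
    rw [pow_succ, pow_two, h4, one_mul] at ha
    rw [ha]; group

variable {G : Type u} [Group G] [Finite G] {D : Data G}

namespace Ctx

variable {C : Ctx D} {x y : ZMod 3}

theorem card_cent_zb (h : x ≠ 0 ∨ y ≠ 0) :
    Nat.card (Subgroup.centralizer ({C.zb x y} : Set (C.Qa x y))) = 162 := by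
  rw [cent_zb h]
  have := card_img (C := C) h (H := C.Ya x y) inf_le_left (J_le_Ya (C.vec_mem _))
  rw [card_Ya h] at this
  omega

/-- elements of order five fixing two isotropic points do not exist -/
theorem no_five_two {e : G} (he : e ^ 5 = 1) {v w : V4} (hv : nf v = 0) (hv0 : v ≠ 0) (hw : nf w = 0)
    (hind : ∀ c : ZMod 3, ((c * v.1, c * v.2.1, c * v.2.2.1, c * v.2.2.2) : V4) ≠ w)
    (hev : e * C.vec v * e⁻¹ = C.vec v) (hew : e * C.vec w * e⁻¹ = C.vec w) : e = 1 := by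
  obtain ⟨m, hm⟩ := C.exists_move hv0 hv
  have hmJ : (m : G)⁻¹ ∈ Subgroup.normalizer (D.J : Set G) := inv_mem (D.M_norm m.2)
  obtain ⟨w', hw'⟩ := C.vec_surj (mem_norm hmJ (C.vec_mem w))
  have hw'n : nf w' = 0 := C.iso_perm hmJ hw hw'.symm
  have hw'b : w'.2.2.2 ≠ 0 := fun hb => by
    obtain ⟨h1, h2⟩ := iso_flat w' hw'n hb
    obtain ⟨a, b, c, d⟩ := w'
    simp only at h1 h2 hb
    subst h1 h2 hb
    refine hind a (C.vec_inj ?_)
    rw [← C.vec_smul, ← hm, ← pw_conj, ← C.vec_z, C.vec_smul]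
    simp only [mul_one, mul_zero]
    rw [hw']
    group
  have hw'0 : w' ≠ 0 := fun e' => hw'b (by rw [e']; rfl)
  obtain ⟨u, s, ε, hε, rfl⟩ := iso_list' hw'0 hw'n hw'b
  obtain ⟨p, hp, hP⟩ := C.ap u s
  have hP' : ∀ r, (p : G) * C.vec r * (p : G)⁻¹ = C.vec (pK (-1) u s r) := hP
  set e' := (p : G)⁻¹ * ((m : G)⁻¹ * e * m) * p with he'
  have hz : e' * C.z * e'⁻¹ = C.z := by
    have hpz : (p : G) * C.z * (p : G)⁻¹ = C.z := by rw [(D.mem_Z.1 C.base.hz).2 p hp, mul_inv_cancel_right]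
    calc e' * C.z * e'⁻¹ = (p : G)⁻¹ * (m : G)⁻¹ * (e * ((m : G) * ((p : G) * C.z * (p : G)⁻¹) * (m : G)⁻¹) * e⁻¹) *
          ((m : G) * p) := by rw [he']; group
      _ = (p : G)⁻¹ * (m : G)⁻¹ * ((m : G) * ((p : G) * C.z * (p : G)⁻¹) * (m : G)⁻¹) * ((m : G) * p) := by
          rw [hpz, hm, hev]
      _ = C.z := by group
  have hzε : e' * C.vec (0, 0, 0, ε) * e'⁻¹ = C.vec (0, 0, 0, ε) := by
    have e1 : (m : G) * ((p : G) * C.vec (0, 0, 0, ε) * (p : G)⁻¹) * (m : G)⁻¹ = C.vec w := by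
      rw [hP', hw']; group
    calc e' * C.vec (0, 0, 0, ε) * e'⁻¹ = (p : G)⁻¹ * (m : G)⁻¹ *
          (e * ((m : G) * ((p : G) * C.vec (0, 0, 0, ε) * (p : G)⁻¹) * (m : G)⁻¹) * e⁻¹) * ((m : G) * p) := by
          rw [he']; group
      _ = (p : G)⁻¹ * (m : G)⁻¹ * ((m : G) * ((p : G) * C.vec (0, 0, 0, ε) * (p : G)⁻¹) * (m : G)⁻¹) *
          ((m : G) * p) := by rw [e1, hew]
      _ = _ := by group
  have hz' : e' * C.toNorm.z' C.z * e'⁻¹ = C.toNorm.z' C.z := by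
    have e1 : C.toNorm.z' C.z = pw (C.vec (0, 0, 0, ε)) ε := by
      rw [C.vec_smul, ← C.vec_z']
      rcases hε with rfl | rfl <;> simp
    rw [e1, pw_conj, hzε]
  obtain ⟨H, hH, hH'⟩ := C.rot_of (cent_Z_of hz) hz'
  have h4 : ∀ r, e' ^ 4 * C.vec r * (e' ^ 4)⁻¹ = C.vec r := fun r => by
    calc e' ^ 4 * C.vec r * (e' ^ 4)⁻¹ = e' * (e' * (e' * (e' * C.vec r * e'⁻¹) * e'⁻¹) * e'⁻¹) * e'⁻¹ := by
          simp [pow_succ, mul_assoc]
      _ = C.vec r := by
        rw [hH', hH', hH', hH']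
        congr 1
        simp only [lm, one_mul, Prod.mk.eta]
        rw [rot_four H hH]
  have hJ : e' ^ 4 ∈ D.J := D.cent_J fun a ha => by
    obtain ⟨r, rfl⟩ := C.vec_surj ha
    exact (mul_inv_eq_iff_eq_mul.1 (h4 r)).symm
  have he5 : e' ^ 5 = 1 := by
    rw [he', show (p : G)⁻¹ * ((m : G)⁻¹ * e * m) * p = ((p : G)⁻¹ * (m : G)⁻¹) * e * ((p : G)⁻¹ * (m : G)⁻¹)⁻¹ by group,
      conj_pow, he]
    simp
  have h12 : e' ^ 12 = 1 := by rw [show 12 = 4 * 3 from rfl, pow_mul, D.Je _ hJ]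
  have h1 : e' = 1 := by
    have := pow_gcd_eq_one.2 ⟨he5, h12⟩
    simpa using this
  calc e = ((m : G) * p) * e' * ((m : G) * p)⁻¹ := by rw [he']; group
    _ = 1 := by rw [h1]; simp

theorem not_nine (h : x ≠ 0 ∨ y ≠ 0) (f : C.Qa x y ≃* Equiv.Perm (Fin 9)) : False := by
  haveI : Fact (Nat.Prime 5) := ⟨Nat.prime_five⟩
  obtain ⟨p, hp, hP⟩ := C.ap (-y) x
  have hP' : ∀ r, (p : G) * C.vec r * (p : G)⁻¹ = C.vec (pK (-1) (-y) x r) := hP
  have hpN : (p : G) ∈ C.Na x y := (mem_Na h).2 (Or.inl (by rw [hP', pK_perp]))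
  have hzN : C.z ∈ C.Na x y := J_le_Na (D.Z_le_J C.base.hz)
  set σ := -qf (x, y) with hσ
  set A := C.zb x y with hA
  set B := C.πa x y ⟨C.vec (0, 0, 0, σ), J_le_Na (C.vec_mem _)⟩ with hB
  set P := C.πa x y ⟨p, hpN⟩ with hPd
  have hπ : ∀ (r : V4) (hr : C.vec r ∈ C.Na x y), P * C.πa x y ⟨C.vec r, hr⟩ * P⁻¹ =
      C.πa x y ⟨C.vec (pK (-1) (-y) x r), J_le_Na (C.vec_mem _)⟩ := fun r hr => by
    rw [hPd, ← map_inv, ← map_mul, ← map_mul]
    congr 1
    exact Subtype.ext (hP' r)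
  have hAd : A = C.πa x y ⟨C.vec (1, 0, 0, 0), J_le_Na (C.vec_mem _)⟩ := by
    rw [hA]; exact congrArg (C.πa x y) (Subtype.ext C.vec_z.symm)
  have hmul : ∀ r s : V4, C.πa x y ⟨C.vec r, J_le_Na (C.vec_mem _)⟩ * C.πa x y ⟨C.vec s, J_le_Na (C.vec_mem _)⟩ =
      C.πa x y ⟨C.vec (r + s), J_le_Na (C.vec_mem _)⟩ := fun r s => by
    rw [← map_mul]; congr 1; exact Subtype.ext (C.vec_add r s).symm
  have hinv : ∀ r : V4, (C.πa x y ⟨C.vec r, J_le_Na (C.vec_mem _)⟩)⁻¹ =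
      C.πa x y ⟨C.vec (-r), J_le_Na (C.vec_mem _)⟩ := fun r => by
    rw [← map_inv]; congr 1; exact Subtype.ext (C.vec_neg r).symm
  have hcube : ∀ r : V4, C.πa x y ⟨C.vec r, J_le_Na (C.vec_mem _)⟩ ^ 3 = 1 := fun r => by
    rw [← map_pow, show (⟨C.vec r, J_le_Na (C.vec_mem _)⟩ : C.Na x y) ^ 3 = 1 from Subtype.ext (D.Je _ (C.vec_mem _)),
      map_one]
  have hσ1 : σ = 1 ∨ σ = -1 :=
    (show ∀ a : ZMod 3, a ≠ 0 → -a = 1 ∨ -a = -1 by decide) _ (qf_ne x y h)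
  -- the second point has the same centraliser order
  obtain ⟨n, hn, hnz⟩ : ∃ n ∈ C.Na x y, ∃ c : ZMod 3, (c = 1 ∨ c = -1) ∧
      n * C.vec (1, 0, 0, 0) * n⁻¹ = C.vec (0, 0, 0, c) := by
    by_cases hxy : x = 0 ∨ y = 0
    · refine ⟨C.g, (mem_Na h).2 ?_, 1, Or.inl rfl, by rw [C.g_act]; simp [g4]⟩
      rcases swap_cases x y hxy with e | e
      · left; rw [C.g_act, e]
      · right; rw [C.g_act, e, C.vec_neg]
    · simp only [not_or] at hxy
      have hgf : ∀ r, (C.g : G) * C.f * C.vec r * ((C.g : G) * C.f)⁻¹ = C.vec (g4 (fM (-1) r)) := fun r => by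
        rw [← C.g_act, ← C.f_act]; group
      refine ⟨(C.g : G) * C.f, (mem_Na h).2 ?_, -1, Or.inr rfl, by rw [hgf]; simp [g4, fM]⟩
      rcases swap_cases' x y hxy.1 hxy.2 with e | e
      · left; rw [hgf, e]
      · right; rw [hgf, e, C.vec_neg]
  obtain ⟨c, hc, hnz⟩ := hnz
  have hBc : Nat.card (Subgroup.centralizer ({B} : Set (C.Qa x y))) = 162 := by
    have hsame : Subgroup.centralizer ({B} : Set (C.Qa x y)) =
        Subgroup.centralizer ({C.πa x y ⟨n, hn⟩ * A * (C.πa x y ⟨n, hn⟩)⁻¹} : Set (C.Qa x y)) := by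
      have e : C.πa x y ⟨n, hn⟩ * A * (C.πa x y ⟨n, hn⟩)⁻¹ = C.πa x y ⟨C.vec (0, 0, 0, c), J_le_Na (C.vec_mem _)⟩ := by
        rw [hAd, ← map_inv, ← map_mul, ← map_mul]
        congr 1
        exact Subtype.ext hnz
      have hBinv : B = C.πa x y ⟨C.vec (0, 0, 0, c), J_le_Na (C.vec_mem _)⟩ ∨
          B = (C.πa x y ⟨C.vec (0, 0, 0, c), J_le_Na (C.vec_mem _)⟩)⁻¹ := by
        rw [hinv]
        have hcσ : σ = c ∨ σ = -c := by
          rcases hσ1 with e1 | e1 <;> rcases hc with e2 | e2 <;> rw [e1, e2]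
          · exact Or.inl rfl
          · exact Or.inr (neg_neg 1).symm
          · exact Or.inr rfl
          · exact Or.inl rfl
        rcases hcσ with e1 | e1
        · exact Or.inl (congrArg (C.πa x y) (Subtype.ext (congrArg C.vec (by rw [e1]))))
        · exact Or.inr (congrArg (C.πa x y) (Subtype.ext (congrArg C.vec (by rw [e1]; simp))))
      rw [e]
      rcases hBinv with e' | e' <;> rw [e']
      ext q
      simp only [Subgroup.mem_centralizer_singleton_iff]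
      exact ⟨fun hq => by simpa using (Commute.inv_right hq).eq, fun hq => (Commute.inv_right hq).eq⟩
    rw [hsame, ← card_cent_zb (C := C) h, ← hA]
    set q := C.πa x y ⟨n, hn⟩
    have : (Subgroup.centralizer ({A} : Set (C.Qa x y))).map (MulAut.conj q).toMonoidHom =
        Subgroup.centralizer ({q * A * q⁻¹} : Set (C.Qa x y)) := by
      ext r
      rw [Subgroup.mem_map_equiv, Subgroup.mem_centralizer_singleton_iff, Subgroup.mem_centralizer_singleton_iff,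
        MulAut.conj_symm_apply]
      constructor <;> intro e
      · calc r * (q * A * q⁻¹) = q * (q⁻¹ * r * q * A) * q⁻¹ := by group
          _ = _ := by rw [e]; group
      · calc q⁻¹ * r * q * A = q⁻¹ * (r * (q * A * q⁻¹)) * q := by group
          _ = _ := by rw [e]; group
    rw [← this, Subgroup.card_map_of_injective (MulAut.conj q).injective]
  have hindep : P * B * P⁻¹ * B⁻¹ ∉ Subgroup.zpowers A := by
    rw [hB, hπ, hinv, hmul, hAd]
    intro hm
    have key : ∀ j : ZMod 3, C.πa x y ⟨C.vec (pK (-1) (-y) x (0, 0, 0, σ) + -(0, 0, 0, σ)), J_le_Na (C.vec_mem _)⟩ =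
        C.πa x y ⟨C.vec (j, 0, 0, 0), J_le_Na (C.vec_mem _)⟩ → False := by
      intro j e
      rw [← mul_inv_eq_one, hinv, hmul, πa_one] at e
      obtain ⟨k, hk⟩ := zpow_av e
      refine orbit_indep x y j k h ?_
      have e' := C.vec_inj hk
      rw [← sub_eq_add_neg, ← sub_eq_add_neg, sub_eq_iff_eq_add] at e'
      rw [← hσ, e']
      simp
    rcases pow_three_cases (hcube _) hm with e | e | e
    · exact key 0 (e.trans ((map_one (C.πa x y)).symm.trans (congrArg (C.πa x y) (Subtype.ext C.vec_zero.symm))))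
    · exact key 1 e
    · exact key (-1) (by rw [e, hinv]; exact congrArg (C.πa x y) (Subtype.ext (congrArg C.vec (by simp))))
  obtain ⟨g, hg5, hgc⟩ := exists_five_nine f (A := A) (B := B) (p := P)
    (by rw [hAd]; exact hcube _) (card_cent_zb h) (hcube _) hBc
    (by rw [hAd, hB, hmul, hmul, add_comm])
    (mul_inv_eq_iff_eq_mul.1 (by rw [hAd, hπ]; exact congrArg (C.πa x y) (Subtype.ext (by simp [pK]))))
    (by rw [hB, hπ, hmul, hmul, add_comm])
    hindep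
    (by
      rw [show P * P * B * (P * P)⁻¹ = P * (P * B * P⁻¹) * P⁻¹ by group, hB, hπ, hπ, hmul, hmul, hAd, hσ,
        orbit_sum x y h])
  obtain ⟨l0, rfl⟩ := QuotientGroup.mk'_surjective _ g
  obtain ⟨j, hj, hj5⟩ := coprime_lift h l0 (n := 5) (by rw [← hg5]; exact pow_orderOf_eq_one _) (by norm_num)
  set e : G := ((l0 ^ j : C.Na x y) : G) with hed
  have he5 : e ^ 5 = 1 := by rw [hed, ← Subgroup.coe_pow, hj5, Subgroup.coe_one]
  have he1 : e ≠ 1 := fun e' => by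
    rw [← hj, show l0 ^ j = 1 from Subtype.ext e', map_one, orderOf_one] at hg5
    omega
  have hea : e * C.av x y * e⁻¹ = C.av x y := order_five_fix he5 av_three ((mem_Na h).1 (l0 ^ j).2)
  set s : V4 := (1, 0, 0, qf (x, y)) with hs
  have hes : e * C.vec s * e⁻¹ = C.vec s := by
    have hs' : A * B⁻¹ = C.πa x y ⟨C.vec s, J_le_Na (C.vec_mem _)⟩ := by
      rw [hAd, hB, hinv, hmul]
      congr 1
      exact Subtype.ext (by rw [hs, hσ]; simp)
    rw [hs', ← hj] at hgc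
    have h1 : C.πa x y (l0 ^ j * ⟨C.vec s, J_le_Na (C.vec_mem _)⟩ * (l0 ^ j)⁻¹ * ⟨C.vec s, J_le_Na (C.vec_mem _)⟩⁻¹) = 1 := by
      rw [map_mul, map_mul, map_mul, map_inv, map_inv, hgc]; group
    obtain ⟨i, hi⟩ := zpow_av (πa_one.1 h1)
    simp only [Subgroup.coe_mul, Subgroup.coe_inv, ← hed] at hi
    have hd : e * C.vec s * e⁻¹ * (C.vec s)⁻¹ = 1 := by
      refine coprime_fix (k := e) (b := C.vec s) ?_ (by group) (by rw [hi]; exact D.Je _ (C.vec_mem _)) he5 (by norm_num)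
      rw [hi, show ((0 : ZMod 3), i * x, i * y, (0 : ZMod 3)) = (i * 0, i * x, i * y, i * 0) by simp,
        ← C.vec_smul i (0, x, y, 0), pw_conj, hea]
    exact mul_inv_eq_one.1 hd
  obtain ⟨hplus, hminus, hind⟩ := plus_minus_iso x y h
  have hfix : ∀ c : ZMod 3, e * C.vec (1, c * x, c * y, qf (x, y)) * e⁻¹ = C.vec (1, c * x, c * y, qf (x, y)) := by
    intro c
    have hd : C.vec (1, c * x, c * y, qf (x, y)) = pw (C.av x y) c * C.vec s := by
      rw [C.vec_smul, ← C.vec_add, hs]; simp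
    rw [hd, show e * (pw (C.av x y) c * C.vec s) * e⁻¹ = e * pw (C.av x y) c * e⁻¹ * (e * C.vec s * e⁻¹) by group,
      pw_conj, hea, hes]
  refine he1 (no_five_two (C := C) he5 (v := (1, x, y, qf (x, y))) (w := (1, -x, -y, qf (x, y))) hplus ?_ hminus hind ?_ ?_)
  · intro e'; exact one_ne_zero (congrArg Prod.fst e')
  · have := hfix 1; simpa using this
  · have := hfix (-1); simpa using this

/-- the normaliser of an anisotropic element lies in the normaliser of the elementary abelian subgroup -/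
theorem cent_aniso {w : V4} (hw : nf w ≠ 0) {n : G}
    (hn : n * C.vec w * n⁻¹ = C.vec w ∨ n * C.vec w * n⁻¹ = (C.vec w)⁻¹) :
    n ∈ Subgroup.normalizer (D.J : Set G) := by
  obtain ⟨m, x, y, h, hm⟩ := C.exists_aniso hw
  have hmem : (m : G) * n * (m : G)⁻¹ ∈ C.Na x y := by
    refine (mem_Na h).2 ?_
    rw [show C.av x y = C.vec (0, x, y, 0) from rfl, ← hm]
    rcases hn with e | e
    · left
      calc _ = (m : G) * (n * C.vec w * n⁻¹) * (m : G)⁻¹ := by group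
        _ = _ := by rw [e]
    · right
      calc _ = (m : G) * (n * C.vec w * n⁻¹) * (m : G)⁻¹ := by group
        _ = _ := by rw [e]; group
  rcases aniso_dichotomy (C := C) h with hle | ⟨⟨f⟩⟩
  · have hmJ := D.M_norm m.2
    have := mul_mem (mul_mem (inv_mem hmJ) (hle hmem)) hmJ
    rwa [show (m : G)⁻¹ * ((m : G) * n * (m : G)⁻¹) * m = n by group] at this
  · exact (not_nine h f).elim

end Ctx

end Cfsg.Agent.MclThree
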