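import Cfsg.Agent.S2073

/-!
# A group with a subgroup of index two isomorphic to the McLaughlin group

If that subgroup has trivial centralizer, the group is the automorphism group of the McLaughlin group,
because the outer automorphism group of the latter has order two.
-/

set_option autoImplicit false

namespace Cfsg.Agent.MclThree

theorem aut_mcl {G : Type*} [Group G] [Finite G] (N : Subgroup G) (hN : N.index = 2)
    (e : N ≃* Cfsg.Spor.McL) (hC : Subgroup.centralizer (N : Set G) = ⊥) :
    Nonempty (G ≃* MulAut Cfsg.Spor.McL) := by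
  haveI : N.Normal := Subgroup.normal_of_index_eq_two hN
  haveI : Finite ↥Cfsg.Spor.McL := Finite.of_equiv _ e.toEquiv
  haveI : Finite (MulAut ↥Cfsg.Spor.McL) := Finite.of_injective (fun f => (f : ↥Cfsg.Spor.McL → ↥Cfsg.Spor.McL)) DFunLike.coe_injective
  set f : G →* MulAut ↥Cfsg.Spor.McL := (MulAut.congr e).toMonoidHom.comp (MulAut.conjNormal (H := N)) with hf
  have hinj : Function.Injective f := by
    rw [hf, MonoidHom.coe_comp]
    refine (MulAut.congr e).injective.comp ?_
    rw [injective_iff_map_eq_one]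
    intro g hg
    have hmem : g ∈ Subgroup.centralizer (N : Set G) := by
      rw [Subgroup.mem_centralizer_iff]
      intro n hn
      have h1 : g * n * g⁻¹ = n := by
        have h2 := congrArg Subtype.val (DFunLike.congr_fun hg (⟨n, hn⟩ : N))
        simpa [MulAut.conjNormal_apply] using h2
      exact (mul_inv_eq_iff_eq_mul.1 h1).symm
    rwa [hC, Subgroup.mem_bot] at hmem
  have hmap : N.map f = Cfsg.Inn ↥Cfsg.Spor.McL := by
    have key : ∀ n : N, f (n : G) = MulAut.conj (e n) := by
      intro n
      refine MulEquiv.ext fun x => ?_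
      simp only [hf, MonoidHom.comp_apply, MulEquiv.coe_toMonoidHom, MulAut.conj_apply]
      show e (MulAut.conjNormal (n : G) (e.symm x)) = e n * x * (e n)⁻¹
      have h3 : MulAut.conjNormal (n : G) (e.symm x) = n * e.symm x * n⁻¹ := Subtype.ext (by simp)
      rw [h3, map_mul, map_mul, map_inv, MulEquiv.apply_symm_apply]
    ext φ
    constructor
    · rintro ⟨g, hg, rfl⟩
      exact ⟨e ⟨g, hg⟩, (key ⟨g, hg⟩).symm⟩
    · rintro ⟨x, rfl⟩
      exact ⟨(e.symm x : N), (e.symm x).2, by rw [key, MulEquiv.apply_symm_apply]⟩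
  have hI : Nat.card (Cfsg.Inn ↥Cfsg.Spor.McL) = Nat.card N := by
    rw [← hmap]
    exact Nat.card_congr (Subgroup.equivMapOfInjective N f hinj).toEquiv.symm
  have hcard : Nat.card G = Nat.card (MulAut ↥Cfsg.Spor.McL) := by
    rw [← Subgroup.card_mul_index N, hN, ← Subgroup.card_mul_index (Cfsg.Inn ↥Cfsg.Spor.McL), hI]
    congr 1
    rw [Subgroup.index_eq_card]
    exact Cfsg.Agent.S2073.result.symm
  exact ⟨MulEquiv.ofBijective f ((Nat.bijective_iff_injective_and_card _).2 ⟨hinj, hcard⟩)⟩

end Cfsg.Agent.MclThree
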