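import Cfsg.Agent.Lib.Recognition.MclThreeLocal.Six
import Cfsg.Agent.Lib.Recognition.MclThreeLocal.Sl25
import Cfsg.Prelude.Def_Transfer
import Cfsg.Agent.Lib.Solv.Coprime

/-!
A 3-local configuration of McLaughlin type: the Sylow 3-subgroup and its elementary abelian subgroup of index nine.
-/

set_option autoImplicit false
set_option linter.unusedSectionVars false

namespace Cfsg.Agent.MclThree

open scoped commutatorElement

universe u

/-- The configuration. -/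
structure Data (G : Type u) [Group G] [Finite G] where
  S : Sylow 3 G
  Z : Subgroup G
  J : Subgroup G
  M : Subgroup G
  L : Subgroup G
  Q : Subgroup G
  hZ : Z = (S : Subgroup G) ⊓ Subgroup.centralizer ((S : Subgroup G) : Set G)
  hJS : J ≤ S
  Jc : ∀ a ∈ J, ∀ b ∈ J, a * b = b * a
  Je : ∀ a ∈ J, a ^ 3 = 1
  hJ : Nat.card J = 81
  M_norm : M ≤ Subgroup.normalizer (J : Set G)
  M_conj : Subgroup.normalizer (J : Set G) ≤ Subgroup.normalizer (M : Set G)
  M_three : ∀ g ∈ Subgroup.normalizer (J : Set G), (∃ k : ℕ, g ^ 3 ^ k = 1) → g ∈ M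
  φ : M →* Equiv.Perm (Fin 6)
  φ_range : φ.range = alternatingGroup (Fin 6)
  φ_ker : ∀ m : M, φ m = 1 ↔ (m : G) ∈ J
  L_conj : Subgroup.normalizer (Z : Set G) ≤ Subgroup.normalizer (L : Set G)
  L_le : L ≤ Subgroup.centralizer (Z : Set G)
  L_three : ∀ g ∈ Subgroup.normalizer (Z : Set G), (∃ k : ℕ, g ^ 3 ^ k = 1) → g ∈ L
  ψ : L →* SL5
  ψ_surj : Function.Surjective ψ
  ψ_ker : ∀ l : L, ψ l = 1 ↔ (l : G) ∈ Q
  Q_conj : Subgroup.normalizer (Z : Set G) ≤ Subgroup.normalizer (Q : Set G)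
  QS : Q ≤ S
  QC : Subgroup.centralizer (Q : Set G) ≤ Q
  hQ : Cfsg.IsExtraspecial 3 Q
  Qcard : Nat.card Q = 243
  Qe : ∀ a ∈ Q, a ^ 3 = 1

variable {G : Type u} [Group G] [Finite G] (D : Data G)

/-- The intersection with the extraspecial subgroup. -/
def Data.A : Subgroup G := D.J ⊓ D.Q

theorem mem_norm {H : Subgroup G} {g h : G} (hg : g ∈ Subgroup.normalizer (H : Set G)) (hh : h ∈ H) :
    g * h * g⁻¹ ∈ H := (Subgroup.mem_normalizer_iff.1 hg h).1 hh

theorem mem_cent {H : Subgroup G} {g h : G} (hg : g ∈ Subgroup.centralizer (H : Set G)) (hh : h ∈ H) :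
    h * g = g * h := Subgroup.mem_centralizer_iff.1 hg h hh

theorem cent_le_norm (H : Subgroup G) :
    Subgroup.centralizer (H : Set G) ≤ Subgroup.normalizer (H : Set G) := Subgroup.centralizer_le_normalizer _

theorem three_pow {P : Subgroup G} (hP : IsPGroup 3 P) {g : G} (hg : g ∈ P) : ∃ k : ℕ, g ^ 3 ^ k = 1 := by
  obtain ⟨k, hk⟩ := hP ⟨g, hg⟩
  exact ⟨k, congrArg Subtype.val hk⟩

theorem pow_three_of {g : G} (h : g ^ 3 = 1) : ∃ k : ℕ, g ^ 3 ^ k = 1 := ⟨1, by rw [pow_one]; exact h⟩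

theorem Data.mem_Z {g : G} : g ∈ D.Z ↔ g ∈ (D.S : Subgroup G) ∧ ∀ s ∈ (D.S : Subgroup G), s * g = g * s := by
  rw [D.hZ, Subgroup.mem_inf, Subgroup.mem_centralizer_iff]
  rfl

theorem Data.S_le_NZ : (D.S : Subgroup G) ≤ Subgroup.normalizer (D.Z : Set G) := fun s hs =>
  cent_le_norm _ (Subgroup.mem_centralizer_iff.2 fun _ hz => ((D.mem_Z.1 hz).2 s hs).symm)

theorem Data.S_le_L : (D.S : Subgroup G) ≤ D.L := fun _ hs =>
  D.L_three _ (D.S_le_NZ hs) (three_pow D.S.2 hs)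

theorem Data.Z_le_Q : D.Z ≤ D.Q := fun z hz => D.QC (Subgroup.mem_centralizer_iff.2 fun q hq =>
  (D.mem_Z.1 hz).2 q (D.QS hq))

theorem Data.Z_eq : D.Z = (Subgroup.center D.Q).map D.Q.subtype ∧ Nat.card D.Z = 3 := by
  haveI : Fact (Nat.Prime 3) := ⟨Nat.prime_three⟩
  have hle : D.Z ≤ (Subgroup.center D.Q).map D.Q.subtype := fun z hz =>
    ⟨⟨z, D.Z_le_Q hz⟩, Subgroup.mem_center_iff.2 fun q => Subtype.ext ((D.mem_Z.1 hz).2 q (D.QS q.2)), rfl⟩
  have hc : Nat.card ((Subgroup.center D.Q).map D.Q.subtype) = 3 := by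
    rw [Subgroup.card_map_of_injective D.Q.subtype_injective]; exact D.hQ.2
  have hne : D.Z ≠ ⊥ := by
    haveI : Nontrivial (D.S : Subgroup G) := by
      refine (Subgroup.nontrivial_iff_ne_bot (D.S : Subgroup G)).2 ?_
      intro e
      have := Subgroup.card_le_of_le (D.QS.trans e.le)
      rw [D.Qcard, Subgroup.card_bot] at this
      omega
    obtain ⟨⟨x, hx⟩, hx1⟩ := @exists_ne _ (D.S.2.center_nontrivial) 1
    intro e
    refine hx1 (Subtype.ext (Subtype.ext ?_))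
    have hm : (x : G) ∈ D.Z := D.mem_Z.2 ⟨x.2, fun s hs =>
      congrArg Subtype.val (Subgroup.mem_center_iff.1 hx ⟨s, hs⟩)⟩
    rw [e, Subgroup.mem_bot] at hm
    exact hm
  rcases (Nat.dvd_prime Nat.prime_three).1 (hc ▸ Subgroup.card_dvd_of_le hle) with h | h
  · exact absurd (Subgroup.card_eq_one.1 h) hne
  · exact ⟨Subgroup.eq_of_le_of_card_ge hle (by rw [hc, h]), h⟩

theorem Data.center_Q {q : G} (hq : q ∈ D.Q) (h : ∀ x ∈ D.Q, x * q = q * x) : q ∈ D.Z := by
  rw [D.Z_eq.1]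
  exact ⟨⟨q, hq⟩, Subgroup.mem_center_iff.2 fun x => Subtype.ext (h x x.2), rfl⟩

theorem Data.comm_Q {a b : G} (ha : a ∈ D.Q) (hb : b ∈ D.Q) : ⁅a, b⁆ ∈ D.Z := by
  have h : ⁅(⟨a, ha⟩ : D.Q), ⟨b, hb⟩⁆ ∈ Subgroup.center D.Q := by
    rw [← D.hQ.1.2.2]
    exact Subgroup.commutator_mem_commutator (Subgroup.mem_top _) (Subgroup.mem_top _)
  rw [D.Z_eq.1]
  exact ⟨_, h, rfl⟩

/-- the commutator with a fixed element, on a subgroup of the extraspecial group, lands in the centre -/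
theorem Data.comm_mul {a b c : G} (ha : a ∈ D.Q) (hb : b ∈ D.Q) (hc : c ∈ D.Q) :
    ⁅a, b * c⁆ = ⁅a, b⁆ * ⁅a, c⁆ := by
  have h := (D.mem_Z.1 (D.comm_Q ha hc)).2 b (D.QS hb)
  rw [commutatorElement_def, commutatorElement_def]
  rw [commutatorElement_def] at h
  calc a * (b * c) * a⁻¹ * (b * c)⁻¹ = a * b * a⁻¹ * ((a * c * a⁻¹ * c⁻¹) * b⁻¹) := by group
    _ = a * b * a⁻¹ * (b⁻¹ * (b * (a * c * a⁻¹ * c⁻¹)) * b⁻¹) := by group
    _ = a * b * a⁻¹ * (b⁻¹ * ((a * c * a⁻¹ * c⁻¹) * b) * b⁻¹) := by rw [h]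
    _ = _ := by group

theorem Data.abelian_Q_le {B : Subgroup G} (hB : B ≤ D.Q) (hc : ∀ a ∈ B, ∀ b ∈ B, a * b = b * a) :
    Nat.card B ≤ 27 := by
  by_contra hlt
  haveI : Fact (Nat.Prime 3) := ⟨Nat.prime_three⟩
  obtain ⟨k, hk, e⟩ := (Nat.dvd_prime_pow Nat.prime_three (m := 5)).1
    (show Nat.card B ∣ 3 ^ 5 from (show 3 ^ 5 = Nat.card D.Q by rw [D.Qcard]; norm_num) ▸ Subgroup.card_dvd_of_le hB)
  have hk4 : 4 ≤ k := by
    by_contra hk'
    have := Nat.pow_le_pow_right (show 1 ≤ 3 by norm_num) (show k ≤ 3 by omega)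
    rw [e] at hlt
    omega
  -- an element with the subgroup generates the whole group
  obtain ⟨c, hcQ, hgen⟩ : ∃ c ∈ D.Q, B ⊔ Subgroup.zpowers c = D.Q := by
    rcases eq_or_lt_of_le hB with e' | e'
    · exact ⟨1, one_mem _, by rw [Subgroup.zpowers_one_eq_bot, sup_bot_eq, e']⟩
    · obtain ⟨c, hcQ, hcB⟩ := SetLike.exists_of_lt e'
      refine ⟨c, hcQ, Subgroup.eq_of_le_of_card_ge (sup_le hB (Subgroup.zpowers_le.2 hcQ)) ?_⟩
      have hlt' : B < B ⊔ Subgroup.zpowers c := lt_of_le_of_ne le_sup_left fun e'' =>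
        hcB (e''.symm ▸ Subgroup.mem_sup_right (Subgroup.mem_zpowers c))
      have hd := Subgroup.card_dvd_of_le (sup_le hB (Subgroup.zpowers_le.2 hcQ))
      obtain ⟨j, hj, ej⟩ := (Nat.dvd_prime_pow Nat.prime_three (m := 5)).1
        (show Nat.card (B ⊔ Subgroup.zpowers c : Subgroup G) ∣ 3 ^ 5 from
          (show 3 ^ 5 = Nat.card D.Q by rw [D.Qcard]; norm_num) ▸ hd)
      have hjk : k < j := by
        by_contra hjk
        exact absurd (Subgroup.eq_of_le_of_card_ge le_sup_left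
          (by rw [e, ej]; exact Nat.pow_le_pow_right (by norm_num) (by omega))) hlt'.ne
      rw [ej, show j = 5 by omega, D.Qcard]; norm_num
  -- the elements of `B` commuting with `c` are central
  let θ : B →* G :=
    { toFun := fun b => ⁅c, (b : G)⁆
      map_one' := by simp
      map_mul' := fun a b => D.comm_mul hcQ (hB a.2) (hB b.2) }
  have hθ : Nat.card θ.range ≤ 3 := D.Z_eq.2 ▸
    Subgroup.card_le_of_le (by rintro _ ⟨b, rfl⟩; exact D.comm_Q hcQ (hB b.2))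
  have hker : Nat.card θ.ker ≤ 3 := by
    have hsub : θ.ker.map B.subtype ≤ D.Z := by
      rintro _ ⟨b, hb, rfl⟩
      refine D.center_Q (hB b.2) fun x hx => ?_
      rw [← hgen] at hx
      have hle : B ⊔ Subgroup.zpowers c ≤ Subgroup.centralizer ({(b : G)} : Set G) := by
        refine sup_le (fun a ha => Subgroup.mem_centralizer_singleton_iff.2 (hc a ha b b.2))
          (Subgroup.zpowers_le.2 (Subgroup.mem_centralizer_singleton_iff.2 ?_))
        exact commutatorElement_eq_one_iff_mul_comm.1 hb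
      exact Subgroup.mem_centralizer_singleton_iff.1 (hle hx)
    have := Subgroup.card_le_of_le hsub
    rwa [Subgroup.card_map_of_injective B.subtype_injective, D.Z_eq.2] at this
  have h9 : Nat.card B ≤ 9 := by
    rw [← Subgroup.card_mul_index θ.ker, Subgroup.index_ker]
    exact (Nat.mul_le_mul hker hθ).trans (le_refl 9)
  omega

theorem Data.card_S : Nat.card (D.S : Subgroup G) = 729 ∧ (D.S : Subgroup G) = D.J ⊔ D.Q ∧
    Nat.card D.A = 27 := by
  haveI : Fact (Nat.Prime 3) := ⟨Nat.prime_three⟩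
  set χ : (D.S : Subgroup G) →* SL5 := D.ψ.comp (Subgroup.inclusion D.S_le_L) with hχ
  have hker : Nat.card χ.ker = 243 := by
    rw [← D.Qcard, ← Nat.card_congr (Subgroup.subgroupOfEquivOfLe D.QS).toEquiv]
    refine Nat.card_congr (Equiv.setCongr ?_)
    ext x
    exact D.ψ_ker (Subgroup.inclusion D.S_le_L x)
  have hr : Nat.card χ.range ∣ 3 := by
    obtain ⟨k, -, e⟩ := (Nat.dvd_prime_pow Nat.prime_three).1
      (show Nat.card χ.range ∣ 3 ^ ((IsPGroup.iff_card.1 D.S.2).choose) from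
        (IsPGroup.iff_card.1 D.S.2).choose_spec ▸ Subgroup.card_range_dvd χ)
    have h120 := sl_card ▸ Subgroup.card_subgroup_dvd_card χ.range
    rw [e] at h120 ⊢
    rcases k with _ | _ | k
    · simp
    · simp
    · exfalso
      have := (Dvd.intro_left _ (pow_add 3 k 2).symm).trans h120
      norm_num at this
  have hle : Nat.card (D.S : Subgroup G) ≤ 729 := by
    rw [← Subgroup.card_mul_index χ.ker, hker, Subgroup.index_ker]
    exact (Nat.mul_le_mul_left 243 (Nat.le_of_dvd (by norm_num) hr)).trans (le_refl _)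
  have hJQ : D.J ⊔ D.Q ≤ D.S := sup_le D.hJS D.QS
  have hnorm : D.J ≤ Subgroup.normalizer (D.Q : Set G) := fun j hj => D.Q_conj (D.S_le_NZ (D.hJS hj))
  have hA : Nat.card D.A ≤ 27 := D.abelian_Q_le inf_le_right fun a ha b hb => D.Jc a ha.1 b hb.1
  have hprod : Nat.card (D.J ⊔ D.Q : Subgroup G) * Nat.card D.A = 81 * 243 := by
    rw [← D.hJ, ← D.Qcard, Data.A]
    have := Cfsg.Agent.Solv.card_sup_mul_card_inf' D.Q D.J hnorm
    rw [sup_comm, inf_comm] at this
    linarith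
  have h1 := Subgroup.card_le_of_le hJQ
  have h729 : 729 ≤ Nat.card (D.J ⊔ D.Q : Subgroup G) := by nlinarith
  refine ⟨by omega, (Subgroup.eq_of_le_of_card_ge hJQ (by omega)).symm, ?_⟩
  have : Nat.card (D.J ⊔ D.Q : Subgroup G) = 729 := by omega
  rw [this] at hprod
  omega

end Cfsg.Agent.MclThree
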