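import Cfsg.Agent.Lib.Recognition.MclThreeLocal.Fusion

/-!
The centraliser of the involution in the centraliser of the centre: a copy of the special linear group of degree
two over five elements containing the second point.
-/

set_option autoImplicit false
set_option linter.unusedSectionVars false
set_option synthInstance.maxSize 2000
set_option maxRecDepth 100000

namespace Cfsg.Agent.MclThree

open scoped commutatorElement

universe u

variable {G : Type u} [Group G] [Finite G] {D : Data G}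

/-- trivial action modulo the centre -/
def Triv (D : Data G) (x : G) : Prop := ∀ q ∈ D.Q, x * q * x⁻¹ * q⁻¹ ∈ D.Z

/-- inverting action modulo the centre -/
def Inv' (D : Data G) (x : G) : Prop := ∀ q ∈ D.Q, x * q * x⁻¹ * q ∈ D.Z

theorem Z_central_Q {z q : G} (hz : z ∈ D.Z) (hq : q ∈ D.Q) : q * z = z * q := (D.mem_Z.1 hz).2 q (D.QS hq)

theorem cZ {x z : G} (hx : x ∈ Subgroup.centralizer (D.Z : Set G)) (hz : z ∈ D.Z) : x * z * x⁻¹ = z := by
  rw [← Subgroup.mem_centralizer_iff.1 hx z hz, mul_inv_cancel_right]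

theorem Triv.mul {x y : G} (hx : Triv D x) (hxc : x ∈ Subgroup.centralizer (D.Z : Set G))
    (hy : Triv D y) : Triv D (x * y) := fun q hq => by
  have h1 := hy q hq
  have h2 := hx q hq
  rw [show x * y * q * (x * y)⁻¹ * q⁻¹ = x * (y * q * y⁻¹ * q⁻¹) * x⁻¹ * (x * q * x⁻¹ * q⁻¹) by group, cZ hxc h1]
  exact mul_mem h1 h2

theorem Triv.of_invs {x y : G} (hx : Inv' D x) (hxc : x ∈ Subgroup.centralizer (D.Z : Set G))
    (hy : Inv' D y) (hxN : x ∈ Subgroup.normalizer (D.Q : Set G)) : Triv D (x * y) := fun q hq => by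
  have h1 := hy q hq
  have h2 := hx q hq
  have hxq := mem_norm hxN hq
  rw [show x * y * q * (x * y)⁻¹ * q⁻¹ = x * (y * q * y⁻¹ * q) * x⁻¹ * (q * (x * q * x⁻¹))⁻¹ by group, cZ hxc h1]
  refine mul_mem h1 (inv_mem ?_)
  have h3 : q * (x * q * x⁻¹) = q * (x * q * x⁻¹ * q) * q⁻¹ := by group
  rw [h3, Z_central_Q h2 hq, mul_inv_cancel_right]
  exact h2

/-- elements of order prime to three acting trivially modulo the centre are trivial -/
theorem triv_coprime {x : G} (hx : x ∈ Subgroup.centralizer (D.Z : Set G)) (h : Triv D x) {n : ℕ} (hn : x ^ n = 1)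
    (hco : Nat.Coprime n 3) : x = 1 := by
  have hQ : ∀ q ∈ D.Q, q * x = x * q := by
    intro q hq
    set c := x * q * x⁻¹ * q⁻¹ with hc
    have hcZ := h q hq
    have hpow : ∀ m : ℕ, x ^ m * q * (x ^ m)⁻¹ = c ^ m * q := by
      intro m
      induction m with
      | zero => simp
      | succ m ih =>
        calc x ^ (m + 1) * q * (x ^ (m + 1))⁻¹ = x * (x ^ m * q * (x ^ m)⁻¹) * x⁻¹ := by rw [pow_succ']; group
          _ = x * c ^ m * x⁻¹ * (x * q * x⁻¹) := by rw [ih]; group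
          _ = c ^ m * (c * q) := by rw [cZ hx (pow_mem hcZ m), hc]; group
          _ = c ^ (m + 1) * q := by rw [pow_succ]; group
    have h1 : c ^ n = 1 := by
      have := hpow n
      rw [hn] at this
      simpa using this
    have h2 : c = 1 := by
      have := pow_gcd_eq_one.2 ⟨h1, D.Je c (D.Z_le_J hcZ)⟩
      rwa [hco.gcd_eq_one, pow_one] at this
    rw [hc, mul_inv_eq_one] at h2
    calc q * x = x * q * x⁻¹ * x := by rw [h2]
      _ = x * q := by group
  have h3 := D.Qe x (D.QC (Subgroup.mem_centralizer_iff.2 hQ))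
  have := pow_gcd_eq_one.2 ⟨hn, h3⟩
  rwa [hco.gcd_eq_one, pow_one] at this

theorem exists_three_pow {x : G} (hx : x ∈ Subgroup.centralizer (D.Z : Set G)) (h : Triv D x) :
    ∃ k : ℕ, x ^ 3 ^ k = 1 := by
  obtain ⟨e, m, hm, hk⟩ := Nat.exists_eq_pow_mul_and_not_dvd (orderOf_pos x).ne' 3 (by norm_num)
  refine ⟨e, triv_coprime (D := D) (pow_mem hx _) ?_ (n := m) ?_ ((Nat.prime_three.coprime_iff_not_dvd).2 hm).symm⟩
  · suffices ∀ k : ℕ, Triv D (x ^ k) from this _
    intro k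
    induction k with
    | zero => intro q _; simp
    | succ k ih => rw [pow_succ]; exact ih.mul (pow_mem hx _) h
  · rw [← pow_mul, ← hk, pow_orderOf_eq_one]

/-- the kernel of the action modulo the centre is the extraspecial group -/
theorem triv_Q {x : G} (hx : x ∈ Subgroup.centralizer (D.Z : Set G)) (h : Triv D x) : x ∈ D.Q := by
  haveI : Fact (Nat.Prime 3) := ⟨Nat.prime_three⟩
  have hinv : ∀ y : G, y ∈ Subgroup.centralizer (D.Z : Set G) → Triv D y → Triv D y⁻¹ := fun y hy hty => by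
    obtain ⟨k, hk⟩ := exists_three_pow hy hty
    have hk1 : 1 ≤ 3 ^ k := Nat.one_le_pow _ _ (by norm_num)
    rw [show y⁻¹ = y ^ (3 ^ k - 1) from inv_eq_of_mul_eq_one_right (by rw [← pow_succ', Nat.sub_add_cancel hk1, hk])]
    suffices ∀ j : ℕ, Triv D (y ^ j) from this _
    intro j
    induction j with
    | zero => intro q _; simp
    | succ j ih => rw [pow_succ]; exact ih.mul (pow_mem hy _) hty
  let T : Subgroup D.L :=
    { carrier := {l | Triv D (l : G)}
      one_mem' := fun q _ => by simp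
      mul_mem' := fun {a b} ha hb => ha.mul (D.L_le a.2) hb
      inv_mem' := fun {a} ha => hinv _ (D.L_le a.2) ha }
  have hTn : ∀ l ∈ T, ∀ g : D.L, g * l * g⁻¹ ∈ T := fun l hl g q hq => by
    have hq' : (g : G)⁻¹ * q * g ∈ D.Q := by
      have := mem_norm (inv_mem (D.Q_conj (cent_le_norm _ (D.L_le g.2)))) hq
      rwa [inv_inv] at this
    have h' := hl _ hq'
    show (g : G) * l * (g : G)⁻¹ * q * ((g : G) * l * (g : G)⁻¹)⁻¹ * q⁻¹ ∈ D.Z
    rw [show (g : G) * l * (g : G)⁻¹ * q * ((g : G) * l * (g : G)⁻¹)⁻¹ * q⁻¹ =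
      g * ((l : G) * ((g : G)⁻¹ * q * g) * (l : G)⁻¹ * ((g : G)⁻¹ * q * g)⁻¹) * (g : G)⁻¹ by group, cZ (D.L_le g.2) h']
    exact h'
  haveI : T.Normal := ⟨hTn⟩
  have hT3 : IsPGroup 3 T := fun l => by
    obtain ⟨k, hk⟩ := exists_three_pow (D.L_le l.1.2) l.2
    exact ⟨k, Subtype.ext (Subtype.ext hk)⟩
  obtain ⟨π, hπ, hker⟩ := exists_pi
  have hxN : x ∈ Subgroup.normalizer (D.Z : Set G) := cent_le_norm _ hx
  have hxL : x ∈ D.L := D.L_three _ hxN (exists_three_pow hx h)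
  -- the image in the alternating group is a normal 3-subgroup
  set N := (T.map D.ψ).map π with hN
  have hNn : N.Normal := Subgroup.Normal.map (Subgroup.Normal.map inferInstance _ D.ψ_surj) _ hπ
  have hN3 : IsPGroup 3 N := (hT3.map D.ψ).map π
  haveI : IsSimpleGroup (alternatingGroup (Fin 5)) := alternatingGroup.isSimpleGroup_five
  have hN1 : N = ⊥ := by
    rcases hNn.eq_bot_or_eq_top with h' | h'
    · exact h'
    · exfalso
      obtain ⟨k, hk⟩ := IsPGroup.iff_card.1 hN3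
      rw [h', Subgroup.card_top, nat_card_alternatingGroup, Nat.card_fin, show Nat.factorial 5 / 2 = 60 from rfl] at hk
      rcases k with _ | _ | _ | _ | k
      · norm_num at hk
      · norm_num at hk
      · norm_num at hk
      · norm_num at hk
      · have : 81 ≤ 3 ^ (k + 4) := Nat.pow_le_pow_right (show 1 ≤ 3 by norm_num) (show 4 ≤ k + 4 by omega)
        omega
  have hmem : π (D.ψ ⟨x, hxL⟩) ∈ N := ⟨_, ⟨⟨x, hxL⟩, h, rfl⟩, rfl⟩
  rw [hN1, Subgroup.mem_bot] at hmem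
  obtain ⟨k, hk⟩ := exists_three_pow hx h
  rcases (hker _).1 hmem with e | e
  · exact (D.ψ_ker _).1 e
  · exfalso
    have e2 : D.ψ (⟨x, hxL⟩ ^ 3 ^ k) = 1 := by
      rw [show (⟨x, hxL⟩ : D.L) ^ 3 ^ k = 1 from Subtype.ext hk, map_one]
    rw [map_pow, e, (Odd.pow (by decide)).neg_one_pow] at e2
    exact sl_neg_ne e2

namespace Ctx

variable (C : Ctx D)
include C

theorem t_inv_Z : Inv' D (C.t : G) := by
  intro q hq
  set d := (C.t : G) * q * (C.t : G)⁻¹ * q with hd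
  have htN : (C.t : G) ∈ Subgroup.normalizer (D.Z : Set G) := by
    rw [Norm.t, Subgroup.coe_mul]; exact mul_mem C.f_NZ C.f_NZ
  have hq' : (C.t : G) * q * (C.t : G)⁻¹ ∈ D.Q := mem_norm (D.Q_conj htN) hq
  have hdQ : d ∈ D.Q := mul_mem hq' hq
  have hqS := D.QS hq
  have hdA : d ∈ D.A := by
    refine Subgroup.mem_inf.2 ⟨?_, hdQ⟩
    have hM : d ∈ D.M := D.S_le_M (D.QS hdQ)
    refine (C.ker ⟨d, hM⟩).1 ?_
    rw [show (⟨d, hM⟩ : D.M) = C.t * ⟨q, D.S_le_M hqS⟩ * C.t⁻¹ * ⟨q, D.S_le_M hqS⟩ from Subtype.ext rfl,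
      map_mul, map_mul, map_mul, map_inv, Norm.φ_t, six_f.2.1 _ ((C.hS ⟨q, D.S_le_M hqS⟩).1 hqS), inv_mul_cancel]
  have htt : (C.t : G) * (C.t : G) = 1 := by
    rw [← Subgroup.coe_mul]; nth_rw 1 [← C.t_inv]; rw [inv_mul_cancel, Subgroup.coe_one]
  have htd : (C.t : G) * d * (C.t : G)⁻¹ = q * d * q⁻¹ := by
    calc (C.t : G) * d * (C.t : G)⁻¹ = ((C.t : G) * C.t) * q * ((C.t : G) * C.t)⁻¹ * ((C.t : G) * q * (C.t : G)⁻¹) := by
          rw [hd]; group
      _ = q * ((C.t : G) * q * (C.t : G)⁻¹) := by rw [htt]; group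
      _ = _ := by rw [hd]; group
  obtain ⟨c, hc, w, hw, e⟩ := C.A_split hdA
  have hqd := D.comm_Q hq hdA.2
  rw [commutatorElement_def] at hqd
  have h1 : (C.t : G) * d * (C.t : G)⁻¹ * d⁻¹ ∈ D.Z := by rw [htd]; exact hqd
  rw [e, show (C.t : G) * (c * w) * (C.t : G)⁻¹ = ((C.t : G) * c * (C.t : G)⁻¹) * ((C.t : G) * w * (C.t : G)⁻¹) by group,
    C.t_Z hc, hw.2] at h1
  have hw2 : w * w ∈ D.Z := by
    have : c * w⁻¹ * (c * w)⁻¹ = c * (w * w)⁻¹ * c⁻¹ := by group
    rw [this, D.Jc c (D.Z_le_J hc) _ (inv_mem (mul_mem hw.1.1 hw.1.1)), mul_inv_cancel_right] at h1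
    simpa using inv_mem h1
  have hwZ : w ∈ D.Z := by
    have := mul_mem hw2 hw2
    rwa [show w * w * (w * w) = w ^ 3 * w by simp [pow_succ, mul_assoc], D.Je w hw.1.1, one_mul] at this
  show d ∈ D.Z
  rw [e]; exact mul_mem hc hwZ

theorem t_CZ : (C.t : G) ∈ Subgroup.centralizer (D.Z : Set G) :=
  Subgroup.mem_centralizer_iff.2 fun z hz => by
    nth_rw 1 [← C.t_Z hz]; group

theorem Q_cent_t {q : G} (hq : q ∈ D.Q) (h : (C.t : G) * q * (C.t : G)⁻¹ = q) : q ∈ D.Z := by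
  have h1 := C.t_inv_Z q hq
  rw [h] at h1
  have := mul_mem h1 h1
  rwa [show q * q * (q * q) = q ^ 3 * q by simp [pow_succ, mul_assoc], D.Qe q hq, one_mul] at this

theorem t_sq : (C.t : G) * (C.t : G) = 1 := by
  rw [← Subgroup.coe_mul]; nth_rw 1 [← C.t_inv]; rw [inv_mul_cancel, Subgroup.coe_one]

theorem t_ne : (C.t : G) ≠ 1 := fun h => by
  have e : C.φ C.t = 1 := by rw [show C.t = 1 from Subtype.ext h, map_one]
  rw [Norm.φ_t] at e
  exact six_rel.2.2.2.2.2.2.1 e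

theorem order_t : orderOf (C.t : G) = 2 := by
  haveI : Fact (Nat.Prime 2) := ⟨Nat.prime_two⟩
  exact orderOf_eq_prime (by rw [pow_two]; exact C.t_sq) C.t_ne

/-- every element of the centraliser of the centre can be corrected to commute with the involution -/
theorem exists_t_comm {l : G} (hl : l ∈ Subgroup.centralizer (D.Z : Set G)) :
    ∃ q ∈ D.Q, (C.t : G) * (l * q) * (C.t : G)⁻¹ = l * q := by
  have hQl : l ∈ Subgroup.normalizer (D.Q : Set G) := D.Q_conj (cent_le_norm _ hl)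
  have hQt : (C.t : G) ∈ Subgroup.normalizer (D.Q : Set G) := D.Q_conj (cent_le_norm _ C.t_CZ)
  set q := l⁻¹ * (C.t : G) * l * (C.t : G)⁻¹ with hq
  have hx : l⁻¹ * (C.t : G) * l ∈ Subgroup.centralizer (D.Z : Set G) := mul_mem (mul_mem (inv_mem hl) C.t_CZ) hl
  have hi1 : Inv' D (l⁻¹ * (C.t : G) * l) := fun p hp => by
    have hp' := mem_norm hQl hp
    have h' := C.t_inv_Z _ hp'
    rw [show l⁻¹ * (C.t : G) * l * p * (l⁻¹ * (C.t : G) * l)⁻¹ * p =
      l⁻¹ * ((C.t : G) * (l * p * l⁻¹) * (C.t : G)⁻¹ * (l * p * l⁻¹)) * l⁻¹⁻¹ by group, cZ (inv_mem hl) h']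
    exact h'
  have hi2 : Inv' D (C.t : G)⁻¹ := by
    rw [← Subgroup.coe_inv, C.t_inv]; exact C.t_inv_Z
  have hqQ : q ∈ D.Q := triv_Q (mul_mem hx (inv_mem C.t_CZ))
    (Triv.of_invs hi1 hx hi2 (mul_mem (mul_mem (inv_mem hQl) hQt) hQl))
  refine ⟨q * q, mul_mem hqQ hqQ, ?_⟩
  have hz : (C.t : G) * (q * q) * (C.t : G)⁻¹ * (q * q) ∈ D.Z := C.t_inv_Z _ (mul_mem hqQ hqQ)
  set c := (C.t : G) * (q * q) * (C.t : G)⁻¹ * (q * q) with hc
  have e : (C.t : G) * (l * (q * q)) * (C.t : G)⁻¹ = l * (q * q) * c := by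
    calc (C.t : G) * (l * (q * q)) * (C.t : G)⁻¹ = l * q * ((C.t : G) * (q * q) * (C.t : G)⁻¹) := by rw [hq]; group
      _ = l * q * (c * (q * q)⁻¹) := by rw [hc]; group
      _ = l * q * ((q * q)⁻¹ * c) := by rw [← Z_central_Q hz (inv_mem (mul_mem hqQ hqQ))]
      _ = l * (q ^ 3)⁻¹ * (q * q) * c := by group
      _ = _ := by rw [D.Qe q hqQ, inv_one, mul_one]
  have h2 : c * c = 1 := by
    have := congrArg (fun w => (C.t : G) * w * (C.t : G)⁻¹) e
    replace this : (C.t : G) * ((C.t : G) * (l * (q * q)) * (C.t : G)⁻¹) * (C.t : G)⁻¹ =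
      (C.t : G) * (l * (q * q) * c) * (C.t : G)⁻¹ := this
    rw [show (C.t : G) * ((C.t : G) * (l * (q * q)) * (C.t : G)⁻¹) * (C.t : G)⁻¹ =
      ((C.t : G) * C.t) * (l * (q * q)) * ((C.t : G) * C.t)⁻¹ by group, C.t_sq,
      show (C.t : G) * (l * (q * q) * c) * (C.t : G)⁻¹ =
        (C.t : G) * (l * (q * q)) * (C.t : G)⁻¹ * ((C.t : G) * c * (C.t : G)⁻¹) by group, e, C.t_Z hz] at this
    rw [mul_assoc (l * (q * q)), one_mul, inv_one, mul_one] at this
    exact mul_eq_left.1 this.symm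
  have h3 := D.Je c (D.Z_le_J hz)
  rw [pow_succ, pow_two, h2, one_mul] at h3
  rw [e, h3, mul_one]

/-- no proper invariant subgroup above the centre is fixed by an element of order five -/
theorem five_fixed {e : G} (he : e ∈ D.L) (he5 : e ^ 5 = 1) (he1 : e ≠ 1) {q : G} (hq : q ∈ D.Q)
    (h : e * q * e⁻¹ = q) : q ∈ D.Z := by
  haveI : Fact (Nat.Prime 5) := ⟨Nat.prime_five⟩
  haveI : Fact (Nat.Prime 3) := ⟨Nat.prime_three⟩
  have heN := D.Q_conj (cent_le_norm _ (D.L_le he))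
  let σ : Equiv.Perm D.Q :=
    { toFun := fun w => ⟨_, mem_norm heN w.2⟩
      invFun := fun w => ⟨_, mem_norm (inv_mem heN) w.2⟩
      left_inv := fun w => Subtype.ext (by simp [mul_assoc])
      right_inv := fun w => Subtype.ext (by simp [mul_assoc]) }
  have hσ : σ ^ 5 = 1 := by
    have key : ∀ (k : ℕ) (w : D.Q), (((σ ^ k) w : D.Q) : G) = e ^ k * w * (e ^ k)⁻¹ := by
      intro k
      induction k with
      | zero => intro w; simp
      | succ k ih =>
        intro w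
        rw [pow_succ', Equiv.Perm.mul_apply, pow_succ']
        show e * ((σ ^ k) w : D.Q) * e⁻¹ = _
        rw [ih]; group
    refine Equiv.ext fun w => Subtype.ext ?_
    rw [key, he5]; simp
  let F : Subgroup G :=
    { carrier := {w | w ∈ D.Q ∧ e * w * e⁻¹ = w}
      one_mem' := ⟨one_mem _, by simp⟩
      mul_mem' := fun {a b} ha hb => ⟨mul_mem ha.1 hb.1, by
        calc e * (a * b) * e⁻¹ = (e * a * e⁻¹) * (e * b * e⁻¹) := by group
          _ = a * b := by rw [ha.2, hb.2]⟩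
      inv_mem' := fun {a} ha => ⟨inv_mem ha.1, by
        calc e * a⁻¹ * e⁻¹ = (e * a * e⁻¹)⁻¹ := by group
          _ = a⁻¹ := by rw [ha.2]⟩ }
  have hP : IsPGroup 5 (Subgroup.zpowers σ) := by
    obtain ⟨j, -, hj⟩ := (Nat.dvd_prime_pow Nat.prime_five (m := 1)).1 (show orderOf σ ∣ 5 ^ 1 by
      rw [pow_one]; exact orderOf_dvd_of_pow_eq_one hσ)
    exact IsPGroup.of_card (n := j) (by rw [Nat.card_zpowers, hj])
  have hmod := hP.card_modEq_card_fixedPoints D.Q
  have hfix : Nat.card (MulAction.fixedPoints (Subgroup.zpowers σ) D.Q) = Nat.card F := by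
    refine Nat.card_congr ⟨fun w => ⟨(w.1 : G), w.1.2, congrArg Subtype.val (w.2 ⟨σ, Subgroup.mem_zpowers σ⟩)⟩,
      fun w => ⟨⟨w.1, w.2.1⟩, fun k => ?_⟩, fun w => rfl, fun w => rfl⟩
    have hs : σ ∈ MulAction.stabilizer (Equiv.Perm D.Q) (⟨w.1, w.2.1⟩ : D.Q) := Subtype.ext w.2.2
    exact (Subgroup.zpowers_le.2 hs) k.2
  have hZF : D.Z ≤ F := fun z hz => ⟨D.Z_le_Q hz, cZ (D.L_le he) hz⟩
  have hFQ : F ≤ D.Q := fun w hw => hw.1
  obtain ⟨b, hb, eb⟩ := (Nat.dvd_prime_pow Nat.prime_three (m := 5)).1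
    (show Nat.card F ∣ 3 ^ 5 from (show 3 ^ 5 = Nat.card D.Q by rw [D.Qcard]; norm_num) ▸ Subgroup.card_dvd_of_le hFQ)
  rw [hfix, D.Qcard, eb, Nat.ModEq] at hmod
  have hb5 : b = 1 ∨ b = 5 := by
    interval_cases b <;> simp_all
  rcases hb5 with rfl | rfl
  · have hFZ := Subgroup.eq_of_le_of_card_ge hZF (by rw [eb, D.Z_eq.2]; norm_num)
    rw [hFZ]; exact ⟨hq, h⟩
  · exfalso
    have hFQ' := Subgroup.eq_of_le_of_card_ge hFQ (by rw [eb, D.Qcard]; norm_num)
    have hc : e ∈ Subgroup.centralizer (D.Q : Set G) := Subgroup.mem_centralizer_iff.2 fun w hw => by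
      have := (hFQ'.symm ▸ hw : w ∈ F).2
      exact (mul_inv_eq_iff_eq_mul.1 this).symm
    have h3 := D.Qe e (D.QC hc)
    have := pow_gcd_eq_one.2 ⟨he5, h3⟩
    norm_num at this
    exact he1 this

theorem exists_five : ∃ e ∈ D.L, e ^ 5 = 1 ∧ e ≠ 1 := by
  haveI : Fact (Nat.Prime 5) := ⟨Nat.prime_five⟩
  have h : 5 ∣ Nat.card D.L :=
    (show 5 ∣ Nat.card SL5 by rw [sl_card]; norm_num).trans (Subgroup.card_dvd_of_surjective D.ψ D.ψ_surj)
  obtain ⟨e, he⟩ := exists_prime_orderOf_dvd_card' (G := D.L) 5 h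
  refine ⟨e, e.2, ?_, fun h1 => ?_⟩
  · rw [← Subgroup.coe_pow, ← he, pow_orderOf_eq_one, Subgroup.coe_one]
  · rw [show e = 1 from Subtype.ext h1, orderOf_one] at he; omega

theorem t_mem_L : ∃ h : (C.t : G) ∈ D.L, D.ψ ⟨C.t, h⟩ = -1 := by
  obtain ⟨l0, hl0⟩ := D.ψ_surj (-1)
  set c : D.L := l0 ^ 3 with hc
  have hψc : D.ψ c = -1 := by rw [hc, map_pow, hl0]; exact (by decide : Odd 3).neg_one_pow
  have hc2 : (c : G) * c = 1 := by
    have hq : (l0 : G) * l0 ∈ D.Q := (D.ψ_ker (l0 * l0)).1 (by rw [map_mul, hl0, neg_one_mul, neg_neg])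
    have := D.Qe _ hq
    rw [hc, Subgroup.coe_pow, ← this]
    simp [pow_succ, mul_assoc]
  have hcC := D.L_le c.2
  have hcN := D.Q_conj (cent_le_norm _ hcC)
  obtain ⟨e, he, he5, he1⟩ := C.exists_five
  -- the fixed part modulo the centre is invariant under the element of order five
  have hce : (c : G)⁻¹ * e * c * e⁻¹ ∈ D.Q := (D.ψ_ker (c⁻¹ * ⟨e, he⟩ * c * ⟨e, he⟩⁻¹)).1 (by
    rw [map_mul, map_mul, map_mul, map_inv, map_inv, hψc, mul_assoc _ (D.ψ ⟨e, he⟩), ← sl_neg_comm]; group)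
  have hinvc : Inv' D (c : G) := by
    intro q hq
    -- the product is fixed modulo the centre
    set d := (c : G) * q * (c : G)⁻¹ * q with hd
    have hdQ : d ∈ D.Q := mul_mem (mem_norm hcN hq) hq
    have hfix : (c : G) * d * (c : G)⁻¹ * d⁻¹ ∈ D.Z := by
      have h1 : (c : G) * d * (c : G)⁻¹ = q * d * q⁻¹ := by
        calc (c : G) * d * (c : G)⁻¹ = ((c : G) * c) * q * ((c : G) * c)⁻¹ * ((c : G) * q * (c : G)⁻¹) := by
              rw [hd]; group
          _ = q * ((c : G) * q * (c : G)⁻¹) := by rw [hc2]; group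
          _ = _ := by rw [hd]; group
      rw [h1]
      have := D.comm_Q hq hdQ
      rwa [commutatorElement_def] at this
    by_contra hdZ
    -- otherwise the fixed part is everything
    let U : Subgroup G :=
      { carrier := {w | w ∈ D.Q ∧ (c : G) * w * (c : G)⁻¹ * w⁻¹ ∈ D.Z}
        one_mem' := ⟨one_mem _, by simp⟩
        mul_mem' := fun {a b} ha hb => ⟨mul_mem ha.1 hb.1, by
          rw [show (c : G) * (a * b) * (c : G)⁻¹ * (a * b)⁻¹ =
            ((c : G) * a * (c : G)⁻¹ * a⁻¹) * (a * ((c : G) * b * (c : G)⁻¹ * b⁻¹) * a⁻¹) by group,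
            Z_central_Q hb.2 ha.1, mul_inv_cancel_right]
          exact mul_mem ha.2 hb.2⟩
        inv_mem' := fun {a} ha => ⟨inv_mem ha.1, by
          rw [show (c : G) * a⁻¹ * (c : G)⁻¹ * a⁻¹⁻¹ = a⁻¹ * (a * ((c : G) * a * (c : G)⁻¹)⁻¹) * a⁻¹⁻¹ by group]
          have h' : a * ((c : G) * a * (c : G)⁻¹)⁻¹ ∈ D.Z := by
            have := inv_mem ha.2
            rwa [mul_inv_rev, inv_inv] at this
          rw [Z_central_Q h' (inv_mem ha.1), mul_inv_cancel_right]; exact h'⟩ }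
    haveI : Fact (Nat.Prime 5) := ⟨Nat.prime_five⟩
    haveI : Fact (Nat.Prime 3) := ⟨Nat.prime_three⟩
    have heC := D.L_le he
    have heQ := D.Q_conj (cent_le_norm _ heC)
    have hUe : ∀ w ∈ U, e * w * e⁻¹ ∈ U := by
      intro w hw
      refine ⟨mem_norm heQ hw.1, ?_⟩
      set k := (c : G)⁻¹ * e * c * e⁻¹ with hk
      have hew := mem_norm heQ hw.1
      have h1 : k * (e * w * e⁻¹) * k⁻¹ * (e * w * e⁻¹)⁻¹ ∈ D.Z := by
        have := D.comm_Q hce hew
        rwa [commutatorElement_def] at this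
      have h2 : e * ((c : G) * w * (c : G)⁻¹ * w⁻¹) * e⁻¹ ∈ D.Z := by rw [cZ heC hw.2]; exact hw.2
      rw [show e * ((c : G) * w * (c : G)⁻¹ * w⁻¹) * e⁻¹ =
        (c : G) * (k * (e * w * e⁻¹) * k⁻¹ * (e * w * e⁻¹)⁻¹) * (c : G)⁻¹ *
          ((c : G) * (e * w * e⁻¹) * (c : G)⁻¹ * (e * w * e⁻¹)⁻¹) by rw [hk]; group, cZ hcC h1] at h2
      have := mul_mem (inv_mem h1) h2
      rwa [inv_mul_cancel_left] at this
    have hUQ : U ≤ D.Q := fun w hw => hw.1
    have hZU : D.Z ≤ U := fun z hz => ⟨D.Z_le_Q hz, by rw [cZ hcC hz, mul_inv_cancel]; exact one_mem _⟩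
    obtain ⟨b, hb, eb⟩ := (Nat.dvd_prime_pow Nat.prime_three (m := 5)).1
      (show Nat.card U ∣ 3 ^ 5 from (show 3 ^ 5 = Nat.card D.Q by rw [D.Qcard]; norm_num) ▸ Subgroup.card_dvd_of_le hUQ)
    have hUne : U ≠ D.Q := by
      intro hU
      have ht : Triv D (c : G) := fun w hw => (hU.symm ▸ hw : w ∈ U).2
      have := triv_coprime hcC ht (n := 2) (by rw [pow_two]; exact hc2) (by norm_num)
      refine sl_neg_ne ?_
      rw [← hψc, show c = 1 from Subtype.ext this, map_one]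
    -- the element of order five permutes it with only the centre fixed
    let σ : Equiv.Perm U :=
      { toFun := fun w => ⟨_, hUe w w.2⟩
        invFun := fun w => ⟨e ^ 4 * w * (e ^ 4)⁻¹, by
          have h := hUe _ (hUe _ (hUe _ (hUe _ w.2)))
          convert h using 1
          simp [pow_succ, mul_assoc]⟩
        left_inv := fun w => Subtype.ext (by
          show e ^ 4 * (e * w * e⁻¹) * (e ^ 4)⁻¹ = w
          rw [show e ^ 4 * (e * w * e⁻¹) * (e ^ 4)⁻¹ = e ^ 5 * w * (e ^ 5)⁻¹ by group, he5]; simp)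
        right_inv := fun w => Subtype.ext (by
          show e * (e ^ 4 * w * (e ^ 4)⁻¹) * e⁻¹ = w
          rw [show e * (e ^ 4 * w * (e ^ 4)⁻¹) * e⁻¹ = e ^ 5 * w * (e ^ 5)⁻¹ by group, he5]; simp) }
    have hσ : σ ^ 5 = 1 := by
      have key : ∀ (k : ℕ) (w : U), (((σ ^ k) w : U) : G) = e ^ k * w * (e ^ k)⁻¹ := by
        intro k
        induction k with
        | zero => intro w; simp
        | succ k ih =>
          intro w
          rw [pow_succ', Equiv.Perm.mul_apply, pow_succ']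
          show e * ((σ ^ k) w : U) * e⁻¹ = _
          rw [ih]; group
      refine Equiv.ext fun w => Subtype.ext ?_
      rw [key, he5]; simp
    have hP : IsPGroup 5 (Subgroup.zpowers σ) := by
      obtain ⟨j, -, hj⟩ := (Nat.dvd_prime_pow Nat.prime_five (m := 1)).1 (show orderOf σ ∣ 5 ^ 1 by
        rw [pow_one]; exact orderOf_dvd_of_pow_eq_one hσ)
      exact IsPGroup.of_card (n := j) (by rw [Nat.card_zpowers, hj])
    have hmod := hP.card_modEq_card_fixedPoints U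
    have hfixc : Nat.card (MulAction.fixedPoints (Subgroup.zpowers σ) U) = 3 := by
      rw [← D.Z_eq.2]
      refine Nat.card_congr ⟨fun w => ⟨(w.1 : G), C.five_fixed he he5 he1 w.1.2.1
        (congrArg Subtype.val (w.2 ⟨σ, Subgroup.mem_zpowers σ⟩))⟩,
        fun w => ⟨⟨w.1, hZU w.2⟩, fun k => ?_⟩, fun w => rfl, fun w => rfl⟩
      have hs : σ ∈ MulAction.stabilizer (Equiv.Perm U) (⟨w.1, hZU w.2⟩ : U) := Subtype.ext (cZ heC w.2)
      exact (Subgroup.zpowers_le.2 hs) k.2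
    rw [hfixc, eb, Nat.ModEq] at hmod
    have hlt : Nat.card U < 243 := by
      rcases lt_or_eq_of_le (Subgroup.card_le_of_le hUQ) with h | h
      · rwa [D.Qcard] at h
      · exact absurd (Subgroup.eq_of_le_of_card_ge hUQ h.ge) hUne
    have h3b : Nat.card U = 3 := by
      rw [eb] at hlt ⊢
      interval_cases b <;> simp_all
    have hUZ := Subgroup.eq_of_le_of_card_ge hZU (by rw [h3b, D.Z_eq.2])
    exact hdZ (hUZ.symm ▸ (⟨hdQ, hfix⟩ : d ∈ U))
  have hy := Triv.of_invs C.t_inv_Z C.t_CZ hinvc (D.Q_conj (cent_le_norm _ C.t_CZ))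
  have hyQ := triv_Q (mul_mem C.t_CZ hcC) hy
  have htL : (C.t : G) ∈ D.L := by
    have h' : (C.t : G) * c ∈ D.L := D.S_le_L (D.QS hyQ)
    simpa using mul_mem h' (inv_mem c.2)
  refine ⟨htL, ?_⟩
  have e := (D.ψ_ker (⟨_, htL⟩ * c)).2 hyQ
  rw [map_mul, hψc] at e
  rw [eq_inv_of_mul_eq_one_left e]
  exact inv_eq_of_mul_eq_one_right (by rw [neg_one_mul, neg_neg])

end Ctx

end Cfsg.Agent.MclThree
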