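import Cfsg.Agent.Lib.Recognition.MclThreeLocal.Cent

/-!
The special linear group inside the centraliser of the involution and the centre, and its centraliser.
-/

set_option autoImplicit false
set_option linter.unusedSectionVars false
set_option synthInstance.maxSize 2000
set_option maxRecDepth 100000

namespace Cfsg.Agent.MclThree

open scoped commutatorElement

universe u

/-- pairs -/
abbrev V2 := ZMod 3 × ZMod 3

/-- two by two matrices as quadruples -/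
abbrev Mt := ZMod 3 × ZMod 3 × ZMod 3 × ZMod 3

/-- application -/
def app (H : Mt) (w : V2) : V2 := (H.1 * w.1 + H.2.1 * w.2, H.2.2.1 * w.1 + H.2.2.2 * w.2)

/-- the middle form -/
def qf (w : V2) : ZMod 3 := w.1 * w.1 + w.2 * w.2

/-- the map with given multipliers on the two isotropic points and given middle part -/
def lm (a b : ZMod 3) (H : Mt) (v : V4) : V4 :=
  (a * v.1, (app H (v.2.1, v.2.2.1)).1, (app H (v.2.1, v.2.2.1)).2, b * v.2.2.2)

/-- anti-similitudes with square minus one -/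
def Anti (U : Mt) : Prop := ∀ w : V2, qf (app U w) = -qf w ∧ app U (app U w) = -w

instance (U : Mt) : Decidable (Anti U) := by unfold Anti; infer_instance

theorem app_commute_cases : ∀ U : Mt, Anti U → ∀ H : Mt, (∀ w : V2, qf (app H w) = qf w) →
    (∀ w : V2, app H (app U w) = app U (app H w)) → H = (1, 0, 0, 1) ∨ H = (-1, 0, 0, -1) := by
  decide +kernel

theorem app_anti_cases : ∀ U : Mt, Anti U → ∀ H : Mt, (∀ w : V2, qf (app H w) = -qf w) →
    (∀ w : V2, app H (app U w) = app U (app H w)) → ¬ ∀ w : V2, app H (app H w) = w := by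
  decide +kernel

theorem app_cube_cases : ∀ H : Mt, (∀ w : V2, qf (app H w) = qf w) →
    ((∀ w : V2, app H (app H (app H w)) = w) ∨ ∀ w : V2, app H (app H (app H w)) = -w) →
    H = (1, 0, 0, 1) ∨ H = (-1, 0, 0, -1) := by
  decide +kernel

theorem app_sign_cases : ∀ U : Mt, Anti U → ∀ H : Mt, (∀ w : V2, qf (app H w) = qf w) →
    ((∀ w : V2, app H (app U w) = app U (app H w)) ∨ ∀ w : V2, app H (app U w) = -app U (app H w)) →
    H = (1, 0, 0, 1) ∨ H = (-1, 0, 0, -1) ∨ H = (0, -1, 1, 0) ∨ H = (0, 1, -1, 0) := by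
  decide +kernel

variable {G : Type u} [Group G] [Finite G] {D : Data G}

namespace Ctx

variable (C : Ctx D)
include C

theorem vec_A (a x y : ZMod 3) : C.vec (a, x, y, 0) ∈ D.A := by
  have h : C.vec (a, x, y, 0) = pw C.z a * (pw C.e1 x * pw ((C.f : G) * C.e1 * (C.f : G)⁻¹) y) := by
    simp [vec, Norm.ι, pw_zero, mul_assoc]
  rw [h]
  exact mul_mem (pw_mem (D.Z_le_A C.base.hz) _)
    (mul_mem (pw_mem C.base.he _) (pw_mem (C.toNorm.f_W0 C.base.he) _)).1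

theorem vec_z' : C.vec (0, 0, 0, 1) = C.toNorm.z' C.z := C.base.coords.2.2.2

theorem vec_split (v : V4) : C.vec v =
    C.vec (v.1, 0, 0, 0) * C.vec (0, v.2.1, v.2.2.1, 0) * C.vec (0, 0, 0, v.2.2.2) := by
  rw [← C.vec_add, ← C.vec_add]; simp

theorem vec_smul (k : ZMod 3) (v : V4) :
    pw (C.vec v) k = C.vec (k * v.1, k * v.2.1, k * v.2.2.1, k * v.2.2.2) := by
  rcases (show ∀ k : ZMod 3, k = 0 ∨ k = 1 ∨ k = 1 + 1 by decide) k with rfl | rfl | rfl
  · rw [pw_zero]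
    simp only [zero_mul]
    exact C.vec_zero.symm
  · simp [pw_one]
  · rw [pw_add (D.Je _ (C.vec_mem v)), pw_one, ← C.vec_add]
    simp only [add_mul, one_mul]
    rfl

theorem t_act (v : V4) : (C.t : G) * C.vec v * (C.t : G)⁻¹ = C.vec (v.1, -v.2.1, -v.2.2.1, v.2.2.2) := by
  refine (C.base.t_acts C.af v).trans ?_
  simp [vec, fM]

theorem f_act (v : V4) : (C.f : G) * C.vec v * (C.f : G)⁻¹ = C.vec (fM (-1) v) := C.af v

theorem g_act (v : V4) : (C.g : G) * C.vec v * (C.g : G)⁻¹ = C.vec (g4 v) := C.ag v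

theorem f_comm_t : (C.f : G) * C.t = C.t * C.f := by rw [Norm.t, Subgroup.coe_mul, mul_assoc]

theorem f_sq : (C.f : G) * C.f = C.t := by rw [Norm.t, Subgroup.coe_mul]

theorem fixed_t {v : V4} (h : (C.t : G) * C.vec v * (C.t : G)⁻¹ = C.vec v) : v.2.1 = 0 ∧ v.2.2.1 = 0 := by
  rw [C.t_act] at h
  have e := C.vec_inj h
  have h0 : ∀ a : ZMod 3, -a = a → a = 0 := by decide
  exact ⟨h0 _ (congrArg (fun v : V4 => v.2.1) e), h0 _ (congrArg (fun v : V4 => v.2.2.1) e)⟩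

/-- the middle coordinates are preserved by the centraliser of the involution -/
theorem mid {n : G} (hn : n ∈ Subgroup.normalizer (D.J : Set G)) (hnt : n * C.t = C.t * n) (x y : ZMod 3) :
    ∃ x' y', n * C.vec (0, x, y, 0) * n⁻¹ = C.vec (0, x', y', 0) := by
  obtain ⟨⟨a, x', y', b⟩, hw⟩ := C.vec_surj (mem_norm hn (C.vec_mem (0, x, y, 0)))
  have e : (C.t : G) * C.vec (a, x', y', b) * (C.t : G)⁻¹ = C.vec (-(a, x', y', b)) := by
    rw [C.vec_neg, hw]
    calc (C.t : G) * (n * C.vec (0, x, y, 0) * n⁻¹) * (C.t : G)⁻¹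
        = (C.t * n) * C.vec (0, x, y, 0) * (C.t * n)⁻¹ := by group
      _ = n * ((C.t : G) * C.vec (0, x, y, 0) * (C.t : G)⁻¹) * n⁻¹ := by rw [← hnt]; group
      _ = n * (C.vec (0, x, y, 0))⁻¹ * n⁻¹ := by rw [C.t_act, ← C.vec_neg]; simp
      _ = _ := by group
  rw [C.t_act] at e
  have h := C.vec_inj e
  simp only [Prod.neg_mk, Prod.mk.injEq] at h
  have h0 : ∀ a : ZMod 3, a = -a → a = 0 := by decide
  refine ⟨x', y', ?_⟩
  rw [← hw, h0 a h.1, h0 b h.2.2.2]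

/-- the action of an element commuting with the involution and stabilising both isotropic points -/
theorem lin {n : G} (hn : n ∈ Subgroup.normalizer (D.J : Set G)) (hnt : n * C.t = C.t * n) {α β : ZMod 3}
    (hz : n * C.z * n⁻¹ = C.vec (α, 0, 0, 0)) (hz' : n * C.toNorm.z' C.z * n⁻¹ = C.vec (0, 0, 0, β)) :
    ∃ H : Mt, (∀ v, n * C.vec v * n⁻¹ = C.vec (lm α β H v)) ∧ ∀ w, qf (app H w) = α * β * qf w := by
  obtain ⟨p, r, h1⟩ := C.mid hn hnt 1 0
  obtain ⟨q, s, h2⟩ := C.mid hn hnt 0 1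
  have key : ∀ v, n * C.vec v * n⁻¹ = C.vec (lm α β (p, q, r, s) v) := by
    rintro ⟨a, x, y, b⟩
    have e : C.vec (a, x, y, b) = pw (C.vec (1, 0, 0, 0)) a * pw (C.vec (0, 1, 0, 0)) x *
        pw (C.vec (0, 0, 1, 0)) y * pw (C.vec (0, 0, 0, 1)) b := by
      simp only [C.vec_smul]
      rw [← C.vec_add, ← C.vec_add, ← C.vec_add]
      simp
    rw [e, show n * (pw (C.vec (1, 0, 0, 0)) a * pw (C.vec (0, 1, 0, 0)) x * pw (C.vec (0, 0, 1, 0)) y *
        pw (C.vec (0, 0, 0, 1)) b) * n⁻¹ = n * pw (C.vec (1, 0, 0, 0)) a * n⁻¹ *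
        (n * pw (C.vec (0, 1, 0, 0)) x * n⁻¹) * (n * pw (C.vec (0, 0, 1, 0)) y * n⁻¹) *
        (n * pw (C.vec (0, 0, 0, 1)) b * n⁻¹) by group, pw_conj, pw_conj, pw_conj, pw_conj, C.vec_z, hz, C.vec_z',
      hz', h1, h2, C.vec_smul, C.vec_smul, C.vec_smul, C.vec_smul, ← C.vec_add, ← C.vec_add, ← C.vec_add]
    congr 1
    simp [lm, app, mul_comm, add_comm]
  refine ⟨(p, q, r, s), key, fun w => ?_⟩
  have h := C.iso_perm hn (v := (qf w, w.1, w.2, 1)) (by simp [nf, qf]) (key _)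
  simp only [nf, lm, qf, mul_one] at h ⊢
  linear_combination h

theorem vec_sup_A (v : V4) : C.vec v ∈ D.Q ⊔ Subgroup.zpowers (C.toNorm.z' C.z) := by
  rw [C.vec_split v, mul_assoc]
  refine mul_mem (Subgroup.mem_sup_left (C.vec_A _ _ _).2) (mul_mem (Subgroup.mem_sup_left (C.vec_A _ _ _).2)
    (Subgroup.mem_sup_right ?_))
  have h : C.vec (0, 0, 0, v.2.2.2) = pw (C.vec (0, 0, 0, 1)) v.2.2.2 := by rw [C.vec_smul]; simp
  rw [h, C.vec_z']
  exact pw_mem (Subgroup.mem_zpowers _) _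

/-- elements fixing the first point and moving the second one inside the Sylow subgroup normalise both subgroups -/
theorem NJ_of {n : G} (hn : n ∈ Subgroup.normalizer (D.Z : Set G))
    (hs : n * C.toNorm.z' C.z * n⁻¹ ∈ (D.S : Subgroup G)) :
    n ∈ Subgroup.normalizer ((D.S : Subgroup G) : Set G) ∧ n ∈ Subgroup.normalizer (D.J : Set G) := by
  have hle : (D.S : Subgroup G) ≤ (D.S : Subgroup G).comap (MulAut.conj n).toMonoidHom := by
    have h1 : D.Q ⊔ Subgroup.zpowers (C.toNorm.z' C.z) ≤ (D.S : Subgroup G).comap (MulAut.conj n).toMonoidHom :=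
      sup_le (fun q hq => D.QS (mem_norm (D.Q_conj hn) hq)) (Subgroup.zpowers_le.2 hs)
    refine le_of_eq_of_le D.card_S.2.1 (sup_le (fun j hj => h1 ?_) (le_trans le_sup_left h1))
    obtain ⟨v, rfl⟩ := C.vec_surj hj
    exact C.vec_sup_A v
  have hS : n ∈ Subgroup.normalizer ((D.S : Subgroup G) : Set G) := by
    rw [Subgroup.mem_normalizer_iff_map_conj_eq]
    exact Subgroup.eq_of_le_of_card_ge (Subgroup.map_le_iff_le_comap.2 hle)
      (le_of_eq (Subgroup.card_map_of_injective (MulEquiv.injective _)).symm)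
  refine ⟨hS, ?_⟩
  rw [Subgroup.mem_normalizer_iff_map_conj_eq]
  refine C.unique ((Subgroup.map_mono D.hJS).trans (Subgroup.mem_normalizer_iff_map_conj_eq.1 hS).le) ?_ ?_
  · rintro _ ⟨a, ha, rfl⟩ _ ⟨b, hb, rfl⟩
    rw [← map_mul, ← map_mul, D.Jc a ha b hb]
  · rw [Subgroup.card_map_of_injective (MulEquiv.injective _), D.hJ]

/-- the centraliser of the involution inside the characteristic subgroup of the normaliser of the centre -/
def L1 : Subgroup G := Subgroup.centralizer ({(C.t : G)} : Set G) ⊓ D.L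

/-- the special linear group -/
def K : Subgroup G := ⁅C.L1, C.L1⁆

theorem mem_L1 {x : G} : x ∈ C.L1 ↔ x * C.t = C.t * x ∧ x ∈ D.L := by
  rw [L1, Subgroup.mem_inf, Subgroup.mem_centralizer_singleton_iff]

theorem K_le_L1 : C.K ≤ C.L1 := Subgroup.commutator_le.2 fun a ha b hb => by
  rw [commutatorElement_def]
  exact mul_mem (mul_mem (mul_mem ha hb) (inv_mem ha)) (inv_mem hb)

theorem K_le_L : C.K ≤ D.L := C.K_le_L1.trans inf_le_right

theorem K_t {k : G} (hk : k ∈ C.K) : k * C.t = C.t * k := (C.mem_L1.1 (C.K_le_L1 hk)).1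

theorem K_z {k : G} (hk : k ∈ C.K) : k * C.z * k⁻¹ = C.z := cZ (D.L_le (C.K_le_L hk)) C.base.hz

/-- the map to the special linear group -/
def χ : C.K →* SL5 := D.ψ.comp (Subgroup.inclusion C.K_le_L)

theorem L1_ker {l : G} (hl : l ∈ C.L1) (h : D.ψ ⟨l, (C.mem_L1.1 hl).2⟩ = 1) : l ∈ D.Z :=
  C.Q_cent_t ((D.ψ_ker _).1 h) (by rw [← (C.mem_L1.1 hl).1, mul_inv_cancel_right])

theorem L1_lift (s : SL5) : ∃ l : G, ∃ h : l ∈ C.L1, D.ψ ⟨l, (C.mem_L1.1 h).2⟩ = s := by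
  obtain ⟨l, rfl⟩ := D.ψ_surj s
  obtain ⟨q, hq, h⟩ := C.exists_t_comm (D.L_le l.2)
  have hqL : q ∈ D.L := D.S_le_L (D.QS hq)
  refine ⟨(l : G) * q, C.mem_L1.2 ⟨?_, mul_mem l.2 hqL⟩, ?_⟩
  · exact (mul_inv_eq_iff_eq_mul.1 h).symm
  · rw [show (⟨(l : G) * q, mul_mem l.2 hqL⟩ : D.L) = l * ⟨q, hqL⟩ from rfl, map_mul,
      (D.ψ_ker ⟨q, hqL⟩).2 hq, mul_one]

theorem χ_surj : Function.Surjective C.χ := by
  intro s
  have hmap : (C.L1.subgroupOf D.L).map D.ψ = ⊤ := eq_top_iff.2 fun s _ => by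
    obtain ⟨l, h, e⟩ := C.L1_lift s
    exact ⟨⟨l, (C.mem_L1.1 h).2⟩, h, e⟩
  have hs : s ∈ ⁅C.L1.subgroupOf D.L, C.L1.subgroupOf D.L⁆.map D.ψ := by
    rw [Subgroup.map_commutator, hmap, ← _root_.commutator_def, sl_perfect]; trivial
  obtain ⟨k, hk, rfl⟩ := hs
  have hk' : (k : G) ∈ C.K := by
    have h : (k : G) ∈ ⁅C.L1.subgroupOf D.L, C.L1.subgroupOf D.L⁆.map D.L.subtype := ⟨k, hk, rfl⟩
    rwa [Subgroup.map_commutator, Subgroup.subgroupOf, Subgroup.map_comap_eq, D.L.range_subtype,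
      show D.L ⊓ C.L1 = C.L1 from inf_eq_right.2 inf_le_right] at h
  exact ⟨⟨k, hk'⟩, rfl⟩

theorem card_L1 : Nat.card C.L1 = 360 := by
  set ρ : C.L1 →* SL5 := D.ψ.comp (Subgroup.inclusion inf_le_right) with hρ
  have hs : Function.Surjective ρ := fun s => by
    obtain ⟨l, h, e⟩ := C.L1_lift s
    exact ⟨⟨l, h⟩, e⟩
  have hk : Nat.card ρ.ker = 3 := by
    have hZ : D.Z ≤ C.L1 := fun z hz => C.mem_L1.2 ⟨by
      have := C.t_Z hz
      exact (mul_inv_eq_iff_eq_mul.1 this).symm, D.S_le_L (D.QS (D.Z_le_Q hz))⟩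
    rw [← D.Z_eq.2, ← Nat.card_congr (Subgroup.subgroupOfEquivOfLe hZ).toEquiv]
    refine Nat.card_congr (Equiv.setCongr ?_)
    ext l
    exact ⟨fun h => C.L1_ker l.2 h, fun h => (D.ψ_ker _).2 (D.Z_le_Q h)⟩
  rw [← Subgroup.card_mul_index ρ.ker, hk, Subgroup.index_ker, MonoidHom.range_eq_top.2 hs, Subgroup.card_top,
    sl_card]

theorem K_Z {c : G} (hc : c ∈ C.K) (hZ : c ∈ D.Z) : c = 1 := by
  haveI : Fact (Nat.Prime 3) := ⟨Nat.prime_three⟩
  obtain ⟨P⟩ : Nonempty (Sylow 3 C.L1) := inferInstance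
  have hP : Nat.card (P : Subgroup C.L1) = 3 ^ 2 := by
    rw [P.card_eq_multiplicity, C.card_L1, show (360 : ℕ) = 3 ^ 2 * 40 from rfl,
      Nat.factorization_mul (by norm_num) (by norm_num), Nat.Prime.factorization_pow Nat.prime_three]
    simp [Nat.factorization_eq_zero_of_not_dvd (show ¬ 3 ∣ 40 by norm_num)]
  have hidx : (P : Subgroup C.L1).index = 40 := by
    have := (P : Subgroup C.L1).card_mul_index
    rw [hP, C.card_L1] at this
    omega
  haveI : IsMulCommutative (P : Subgroup C.L1) :=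
    ⟨⟨IsPGroup.commutative_of_card_eq_prime_sq hP⟩⟩
  open scoped IsMulCommutative in
  let τ : C.L1 →* (P : Subgroup C.L1) := MonoidHom.transfer (MonoidHom.id (P : Subgroup C.L1))
  obtain ⟨c', hc', e⟩ : ∃ c' : C.L1, c' ∈ _root_.commutator C.L1 ∧ (c' : G) = c := by
    have h : c ∈ (_root_.commutator C.L1).map C.L1.subtype := by
      rw [_root_.commutator_def, Subgroup.map_commutator, ← MonoidHom.range_eq_map, Subgroup.range_subtype]
      exact hc
    obtain ⟨c', h1, h2⟩ := h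
    exact ⟨c', h1, h2⟩
  have hcen : ∀ l : C.L1, l * c' = c' * l := fun l => Subtype.ext (by
    have := Subgroup.mem_centralizer_iff.1 (D.L_le (C.mem_L1.1 l.2).2) c hZ
    show (l : G) * c' = c' * l
    rw [e]; exact this.symm)
  have h1 : τ c' = 1 := by
    open scoped IsMulCommutative in
    exact Abelianization.commutator_subset_ker τ hc'
  have key : ∀ (k : ℕ) (g₀ : C.L1), g₀⁻¹ * c' ^ k * g₀ ∈ (P : Subgroup C.L1) → g₀⁻¹ * c' ^ k * g₀ = c' ^ k :=
    fun k g₀ _ => by rw [mul_assoc, ← (Commute.pow_right (show Commute g₀ c' from hcen g₀) k).eq, inv_mul_cancel_left]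
  have h2 : c' ^ (P : Subgroup C.L1).index = 1 := by
    have h := MonoidHom.transfer_eq_pow (MonoidHom.id (P : Subgroup C.L1)) c' key
    exact congrArg Subtype.val (h.symm.trans h1)
  rw [hidx] at h2
  have h3 : c ^ 40 = 1 := by rw [← e, ← Subgroup.coe_pow, h2, Subgroup.coe_one]
  have := pow_gcd_eq_one.2 ⟨h3, D.Je c (D.Z_le_J hZ)⟩
  simpa using this

theorem χ_inj : Function.Injective C.χ := (injective_iff_map_eq_one _).2 fun k h =>
  Subtype.ext (C.K_Z k.2 (C.L1_ker (C.K_le_L1 k.2) h))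

theorem t_mem_K : (C.t : G) ∈ C.K := by
  obtain ⟨htL, hψt⟩ := C.t_mem_L
  obtain ⟨k, hk⟩ := C.χ_surj (-1)
  have hkt := C.K_t k.2
  have hkk : (k : G) * k = 1 :=
    congrArg Subtype.val (C.χ_inj (a₁ := k * k) (a₂ := 1) (by rw [map_mul, hk, neg_mul_neg, one_mul, map_one]))
  have hZ : (k : G) * C.t ∈ D.Z := by
    refine C.L1_ker (mul_mem (C.K_le_L1 k.2) (C.mem_L1.2 ⟨rfl, htL⟩)) ?_
    rw [show (⟨(k : G) * C.t, _⟩ : D.L) = ⟨(k : G), C.K_le_L k.2⟩ * ⟨C.t, htL⟩ from rfl, map_mul, hψt,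
      show D.ψ ⟨(k : G), C.K_le_L k.2⟩ = -1 from hk, neg_mul_neg, one_mul]
  have h2 : (k : G) * C.t * (k * C.t) = 1 := by
    rw [mul_assoc, ← mul_assoc (C.t : G), ← hkt, mul_assoc, C.t_sq, mul_one, hkk]
  have h3 := D.Je _ (D.Z_le_J hZ)
  rw [pow_succ, pow_two, h2, one_mul] at h3
  have : (C.t : G) = k := by
    calc (C.t : G) = (k : G) * k * C.t := by rw [hkk, one_mul]
      _ = _ := by rw [mul_assoc, h3, mul_one]
  rw [this]; exact k.2

theorem χ_t : C.χ ⟨C.t, C.t_mem_K⟩ = -1 := by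
  obtain ⟨h, e⟩ := C.t_mem_L
  exact e

theorem K_invol {k : G} (hk : k ∈ C.K) (h : k * k = 1) : k = 1 ∨ k = C.t := by
  rcases sl_invol (g := C.χ ⟨k, hk⟩) (by rw [← map_mul, show (⟨k, hk⟩ : C.K) * ⟨k, hk⟩ = 1 from Subtype.ext h,
    map_one]) with e | e
  · exact Or.inl (congrArg Subtype.val (C.χ_inj (e.trans (map_one _).symm)))
  · exact Or.inr (congrArg Subtype.val (C.χ_inj (e.trans C.χ_t.symm)))

/-- the second point lies in the special linear group and is inverted there -/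
theorem z'_mem_K : C.toNorm.z' C.z ∈ C.K ∧ ∃ u ∈ C.K, u * u = C.t ∧
    u * C.toNorm.z' C.z * u⁻¹ = (C.toNorm.z' C.z)⁻¹ := by
  set z' := C.toNorm.z' C.z with hz'
  have hzJ : z' ∈ D.J := C.toNorm.z'_J C.base.hz
  have hzt : z' * C.t = C.t * z' := (mul_inv_eq_iff_eq_mul.1 (C.toNorm.t_z' C.base.hz)).symm
  have hzL : z' ∈ C.L1 := C.mem_L1.2 ⟨hzt, D.S_le_L (D.hJS hzJ)⟩
  obtain ⟨k, hk⟩ := C.χ_surj (D.ψ ⟨z', (C.mem_L1.1 hzL).2⟩)
  set c := z' * (k : G)⁻¹ with hc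
  have hcZ : c ∈ D.Z := by
    refine C.L1_ker (mul_mem hzL (inv_mem (C.K_le_L1 k.2))) ?_
    rw [show (⟨z' * (k : G)⁻¹, _⟩ : D.L) = ⟨z', (C.mem_L1.1 hzL).2⟩ * ⟨(k : G), C.K_le_L k.2⟩⁻¹ from rfl, map_mul,
      map_inv, show D.ψ ⟨(k : G), C.K_le_L k.2⟩ = C.χ k from rfl, hk, mul_inv_cancel]
  have hne : C.χ k ≠ 1 := fun e => C.toNorm.zp_not_A C.base.hz C.base.z1
    ⟨hzJ, (D.ψ_ker _).1 (hk.symm.trans e)⟩
  have hk3 : C.χ k ^ 3 = 1 := by
    rw [hk, ← map_pow, show (⟨z', _⟩ : D.L) ^ 3 = 1 from Subtype.ext (D.Je _ hzJ), map_one]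
  obtain ⟨s, hs, hs2⟩ := sl_three_invert hk3 hne
  obtain ⟨u, rfl⟩ := C.χ_surj s
  have huk : (u : G) * k * (u : G)⁻¹ = (k : G)⁻¹ :=
    congrArg Subtype.val (C.χ_inj (a₁ := u * k * u⁻¹) (a₂ := k⁻¹) (by
      rw [map_mul, map_mul, map_inv, map_inv]; exact hs))
  have hut : (u : G) * u = C.t :=
    congrArg Subtype.val (C.χ_inj (a₁ := u * u) (a₂ := ⟨C.t, C.t_mem_K⟩) (by rw [map_mul, hs2, C.χ_t]))
  have huC := D.L_le (C.K_le_L u.2)
  have huz : (u : G) * z' * (u : G)⁻¹ = c * c * z'⁻¹ := by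
    calc (u : G) * z' * (u : G)⁻¹ = ((u : G) * c * (u : G)⁻¹) * ((u : G) * k * (u : G)⁻¹) := by rw [hc]; group
      _ = c * (z'⁻¹ * c) := by rw [cZ huC hcZ, huk]; congr 1; rw [hc]; group
      _ = _ := by rw [D.Jc _ (inv_mem hzJ) _ (D.Z_le_J hcZ), ← mul_assoc]
  have hn := (C.NJ_of (cent_le_norm _ huC)
    (by rw [huz]; exact D.hJS (mul_mem (mul_mem (D.Z_le_J hcZ) (D.Z_le_J hcZ)) (inv_mem hzJ)))).2
  obtain ⟨⟨i, x, y, b⟩, hv⟩ := C.vec_surj (D.Z_le_J hcZ)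
  obtain ⟨rfl, rfl, rfl⟩ : x = 0 ∧ y = 0 ∧ b = 0 := C.mem_Z_iff.1 (hv ▸ hcZ)
  have h := C.iso_perm hn (v := (0, 0, 0, 1)) (w := (i + i, 0, 0, -1)) (by simp [nf]) (by
    rw [C.vec_z', ← hz', huz, ← hv, hz', ← C.vec_z', ← C.vec_neg, ← C.vec_add, ← C.vec_add]
    congr 1; simp)
  have hi : i = 0 := (show ∀ i : ZMod 3, nf (i + i, 0, 0, -1) = 0 → i = 0 by decide) i h
  subst hi
  have hc1 : c = 1 := hv.symm.trans C.vec_zero
  have hzk : z' = k := mul_inv_eq_one.1 hc1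
  exact ⟨hzk ▸ k.2, u, u.2, hut, by rw [huz, hc1, one_mul, one_mul]⟩

theorem exists_u : ∃ (u : G) (U : Mt), u ∈ C.K ∧ u * u = C.t ∧ Anti U ∧
    ∀ v, u * C.vec v * u⁻¹ = C.vec (lm 1 (-1) U v) := by
  obtain ⟨-, u, hu, hut, huz⟩ := C.z'_mem_K
  have huC := D.L_le (C.K_le_L hu)
  have hn := (C.NJ_of (cent_le_norm _ huC) (by rw [huz]; exact D.hJS (inv_mem (C.toNorm.z'_J C.base.hz)))).2
  have h0 : ((0 : ZMod 3), (0 : ZMod 3), (0 : ZMod 3), (-1 : ZMod 3)) = -(0, 0, 0, 1) := by simp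
  obtain ⟨U, hU, hq⟩ := C.lin hn (C.K_t hu) (α := 1) (β := -1) (by rw [C.K_z hu, C.vec_z])
    (by rw [huz, ← C.vec_z', ← C.vec_neg, h0])
  refine ⟨u, U, hu, hut, fun w => ⟨by rw [hq]; ring, ?_⟩, hU⟩
  have h := C.t_act (0, w.1, w.2, 0)
  rw [← hut, show u * u * C.vec (0, w.1, w.2, 0) * (u * u)⁻¹ = u * (u * C.vec (0, w.1, w.2, 0) * u⁻¹) * u⁻¹ by group,
    hU, hU] at h
  have e := C.vec_inj h
  simp only [lm, mul_zero, Prod.mk.injEq] at e
  exact Prod.ext e.2.1 e.2.2.1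

/-- the centraliser of the special linear group in the centraliser of the centre and the involution -/
theorem cent_K {c : G} (hc : c ∈ Subgroup.centralizer (D.Z : Set G)) (hct : c * C.t = C.t * c)
    (hK : ∀ k ∈ C.K, c * k = k * c) : c ∈ D.Z ∨ c * C.t ∈ D.Z := by
  have hz' := C.z'_mem_K.1
  have hcz : c * C.toNorm.z' C.z * c⁻¹ = C.toNorm.z' C.z := by rw [hK _ hz', mul_inv_cancel_right]
  have hn := (C.NJ_of (cent_le_norm _ hc) (by rw [hcz]; exact D.hJS (C.toNorm.z'_J C.base.hz))).2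
  obtain ⟨H, hH, hq⟩ := C.lin hn hct (α := 1) (β := 1) (by rw [cZ hc C.base.hz, C.vec_z]) (by rw [hcz, C.vec_z'])
  obtain ⟨u, U, hu, hut, hA, hU⟩ := C.exists_u
  have hcomm : ∀ w, app H (app U w) = app U (app H w) := fun w => by
    have h : c * (u * C.vec (0, w.1, w.2, 0) * u⁻¹) * c⁻¹ = u * (c * C.vec (0, w.1, w.2, 0) * c⁻¹) * u⁻¹ := by
      rw [show c * (u * C.vec (0, w.1, w.2, 0) * u⁻¹) * c⁻¹ = (c * u) * C.vec (0, w.1, w.2, 0) * (c * u)⁻¹ by group,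
        hK u hu]
      group
    rw [hU, hH, hH, hU] at h
    have e := C.vec_inj h
    simp only [lm, Prod.mk.injEq] at e
    exact Prod.ext e.2.1 e.2.2.1
  have fin : ∀ d : G, (∀ v, d * C.vec v * d⁻¹ = C.vec v) → d * C.t = C.t * d → d * u = u * d → d ∈ D.Z := by
    intro d hd hdt hdu
    obtain ⟨v, rfl⟩ := C.vec_surj (D.cent_J (g := d) fun a ha => by
      obtain ⟨w, rfl⟩ := C.vec_surj ha
      exact (mul_inv_eq_iff_eq_mul.1 (hd w)).symm)
    obtain ⟨h1, h2⟩ := C.fixed_t (v := v) (by rw [← hdt, mul_inv_cancel_right])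
    refine C.mem_Z_iff.2 ⟨h1, h2, ?_⟩
    have h : u * C.vec v * u⁻¹ = C.vec v := by rw [← hdu, mul_inv_cancel_right]
    rw [hU] at h
    have e := congrArg (fun v : V4 => v.2.2.2) (C.vec_inj h)
    exact (show ∀ b : ZMod 3, -1 * b = b → b = 0 by decide) _ e
  rcases app_commute_cases U hA H (fun w => by rw [hq]; ring) hcomm with rfl | rfl
  · refine Or.inl (fin c (fun v => ?_) hct (hK u hu))
    rw [hH]; simp [lm, app]
  · refine Or.inr (fin _ (fun v => ?_) ?_ ?_)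
    · rw [show c * (C.t : G) * C.vec v * (c * C.t)⁻¹ = c * ((C.t : G) * C.vec v * (C.t : G)⁻¹) * c⁻¹ by group,
        C.t_act, hH]
      simp [lm, app]
    · conv_lhs => rw [hct]
      rw [mul_assoc]
    · rw [mul_assoc, ← C.K_t hu, ← mul_assoc, hK u hu, mul_assoc]

theorem mem_norm_K {x : G} (hxt : x * C.t = C.t * x) (hxZ : x ∈ Subgroup.normalizer (D.Z : Set G)) {k : G}
    (hk : k ∈ C.K) : x * k * x⁻¹ ∈ C.K := by
  have hL : ∀ l ∈ C.L1, x * l * x⁻¹ ∈ C.L1 := fun l hl => by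
    obtain ⟨h1, h2⟩ := C.mem_L1.1 hl
    refine C.mem_L1.2 ⟨?_, mem_norm (D.L_conj hxZ) h2⟩
    have hx' : (C.t : G) = x * C.t * x⁻¹ := by rw [hxt, mul_inv_cancel_right]
    calc x * l * x⁻¹ * C.t = x * l * x⁻¹ * (x * C.t * x⁻¹) := by rw [← hx']
      _ = x * (l * C.t) * x⁻¹ := by group
      _ = x * C.t * x⁻¹ * (x * l * x⁻¹) := by rw [h1]; group
      _ = C.t * (x * l * x⁻¹) := by rw [← hx']
  have hle : C.K.map (MulAut.conj x).toMonoidHom ≤ C.K := by
    rw [K, Subgroup.map_commutator]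
    exact Subgroup.commutator_mono (Subgroup.map_le_iff_le_comap.2 hL) (Subgroup.map_le_iff_le_comap.2 hL)
  exact hle ⟨k, hk, rfl⟩

/-- the four-cycle induces an outer automorphism -/
theorem f_outer {a : G} (ha : a ∈ C.K) (h : ∀ k ∈ C.K, (C.f : G) * k * (C.f : G)⁻¹ = a * k * a⁻¹) : False := by
  have hz' := C.z'_mem_K.1
  have hfz : (C.f : G) * C.toNorm.z' C.z * (C.f : G)⁻¹ = (C.toNorm.z' C.z)⁻¹ := by
    rw [← C.vec_z', C.f_act, ← C.vec_neg]; simp [fM]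
  have hfa : (C.f : G) * a = a * C.f := by
    have := h a ha
    rw [mul_inv_cancel_right] at this
    exact mul_inv_eq_iff_eq_mul.1 this
  set x := (C.f : G) * a⁻¹ with hx
  have hxK : ∀ k ∈ C.K, x * k = k * x := fun k hk => by
    have h' := h _ (mul_mem (mul_mem (inv_mem ha) hk) ha)
    rw [show a * (a⁻¹ * k * a) * a⁻¹ = k by group] at h'
    calc x * k = (C.f : G) * (a⁻¹ * k * a) * (C.f : G)⁻¹ * (C.f * a⁻¹) := by rw [hx]; group
      _ = _ := by rw [h']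
  have hxt : x * C.t = C.t * x := hxK _ C.t_mem_K
  have hxx : x * x = C.t * (a * a)⁻¹ := by
    have hfa' : a⁻¹ * (C.f : G) = C.f * a⁻¹ := (Commute.inv_right (show Commute (C.f : G) a from hfa)).eq.symm
    rw [hx, ← C.f_sq]
    calc (C.f : G) * a⁻¹ * (C.f * a⁻¹) = (C.f : G) * (a⁻¹ * C.f) * a⁻¹ := by group
      _ = _ := by rw [hfa']; group
  have hxxK : x * x ∈ C.K := by rw [hxx]; exact mul_mem C.t_mem_K (inv_mem (mul_mem ha ha))
  have hxz : x * C.z * x⁻¹ = C.vec (-1, 0, 0, 0) := by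
    rw [hx, show (C.f : G) * a⁻¹ * C.z * (C.f * a⁻¹)⁻¹ = (C.f : G) * (a⁻¹ * C.z * a⁻¹⁻¹) * (C.f : G)⁻¹ by group,
      C.K_z (inv_mem ha), ← C.vec_z, C.f_act]
    simp [fM]
  have hxC : x ∈ Subgroup.normalizer (D.Z : Set G) :=
    mul_mem C.f_NZ (cent_le_norm _ (D.L_le (C.K_le_L (inv_mem ha))))
  have hxz' : x * C.toNorm.z' C.z * x⁻¹ = C.toNorm.z' C.z := by rw [hxK _ hz', mul_inv_cancel_right]
  obtain ⟨H, hH, hq⟩ := C.lin (C.NJ_of hxC (hxz'.symm ▸ D.hJS (C.toNorm.z'_J C.base.hz))).2 hxt hxz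
    (β := 1) (hxz'.trans C.vec_z'.symm)
  -- the square centralises the centre
  have hsq : x * x ∈ Subgroup.centralizer (D.Z : Set G) := D.L_le (C.K_le_L hxxK)
  have hcases : x * x = 1 ∨ x * x = C.t := by
    rcases C.cent_K hsq (C.K_t hxxK) (fun k hk => by rw [mul_assoc, hxK k hk, ← mul_assoc, hxK k hk, mul_assoc])
      with e | e
    · exact Or.inl (C.K_Z hxxK e)
    · right
      have := C.K_Z (mul_mem hxxK C.t_mem_K) e
      rw [eq_inv_of_mul_eq_one_left this, inv_eq_of_mul_eq_one_right C.t_sq]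
  rcases hcases with hx1 | hx1
  · obtain ⟨u, U, hu, hut, hA, hU⟩ := C.exists_u
    refine app_anti_cases U hA H (fun w => by rw [hq]; ring) (fun w => ?_) fun w => ?_
    · have e : x * (u * C.vec (0, w.1, w.2, 0) * u⁻¹) * x⁻¹ = u * (x * C.vec (0, w.1, w.2, 0) * x⁻¹) * u⁻¹ := by
        rw [show x * (u * C.vec (0, w.1, w.2, 0) * u⁻¹) * x⁻¹ = (x * u) * C.vec (0, w.1, w.2, 0) * (x * u)⁻¹ by group,
          hxK u hu]
        group
      rw [hU, hH, hH, hU] at e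
      have e' := C.vec_inj e
      simp only [lm, Prod.mk.injEq] at e'
      exact Prod.ext e'.2.1 e'.2.2.1
    · have e : x * (x * C.vec (0, w.1, w.2, 0) * x⁻¹) * x⁻¹ = C.vec (0, w.1, w.2, 0) := by
        rw [show x * (x * C.vec (0, w.1, w.2, 0) * x⁻¹) * x⁻¹ = (x * x) * C.vec (0, w.1, w.2, 0) * (x * x)⁻¹ by group,
          hx1]
        simp
      rw [hH, hH] at e
      have e' := C.vec_inj e
      simp only [lm, Prod.mk.injEq] at e'
      exact Prod.ext e'.2.1 e'.2.2.1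
  · -- then the corrector is an involution of the special linear group
    have haa : a * a = 1 := by
      rw [hxx] at hx1
      exact inv_eq_one.1 (mul_eq_left.1 hx1)
    have hfix : a * C.toNorm.z' C.z * a⁻¹ = C.toNorm.z' C.z := by
      rcases C.K_invol ha haa with e | e <;> rw [e]
      · simp
      · exact C.toNorm.t_z' C.base.hz
    have e := h _ hz'
    rw [hfix, hfz] at e
    have h2 : C.toNorm.z' C.z ^ 2 = 1 := by rw [pow_two]; nth_rw 1 [← e]; rw [inv_mul_cancel]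
    have h3 := D.Je _ (C.toNorm.z'_J C.base.hz)
    rw [pow_succ, h2, one_mul] at h3
    exact C.toNorm.zp_not_A C.base.hz C.base.z1 (by rw [show (C.g : G) * C.z * (C.g : G)⁻¹ = 1 from h3]; exact one_mem _)

/-- the middle parts of elements fixing both points are rotations -/
theorem stab_rot {x : G} (hx : x ∈ Subgroup.centralizer (D.Z : Set G)) (hxt : x * C.t = C.t * x)
    (hxz : x * C.toNorm.z' C.z * x⁻¹ = C.toNorm.z' C.z) : ∃ H : Mt,
    (H = (1, 0, 0, 1) ∨ H = (-1, 0, 0, -1) ∨ H = (0, -1, 1, 0) ∨ H = (0, 1, -1, 0)) ∧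
      ∀ v, x * C.vec v * x⁻¹ = C.vec (lm 1 1 H v) := by
  have hn := (C.NJ_of (cent_le_norm _ hx) (by rw [hxz]; exact D.hJS (C.toNorm.z'_J C.base.hz))).2
  obtain ⟨H, hH, hq⟩ := C.lin hn hxt (α := 1) (β := 1) (by rw [cZ hx C.base.hz, C.vec_z]) (by rw [hxz, C.vec_z'])
  refine ⟨H, ?_, hH⟩
  obtain ⟨u, U, hu, hut, hA, hU⟩ := C.exists_u
  obtain ⟨hz', -⟩ := C.z'_mem_K
  set z' := C.toNorm.z' C.z with hzd
  set w := u⁻¹ * (x * u * x⁻¹) with hw
  have hwK : w ∈ C.K := mul_mem (inv_mem hu) (C.mem_norm_K hxt (cent_le_norm _ hx) hu)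
  have huz : u * z' * u⁻¹ = z'⁻¹ := by
    rw [hzd, ← C.vec_z', hU, ← C.vec_neg]; congr 1; simp [lm, app]
  have huz' : u⁻¹ * z' * u = z'⁻¹ := by
    calc u⁻¹ * z' * u = u⁻¹ * (u * z' * u⁻¹)⁻¹ * u := by rw [huz, inv_inv]
      _ = z'⁻¹ := by group
  have hxz' : x⁻¹ * z' * x = z' := by
    calc x⁻¹ * z' * x = x⁻¹ * (x * z' * x⁻¹) * x := by rw [hxz]
      _ = z' := by group
  have hwz : w * z' = z' * w := by
    refine mul_inv_eq_iff_eq_mul.1 ?_
    calc w * z' * w⁻¹ = u⁻¹ * (x * (u * (x⁻¹ * z' * x) * u⁻¹) * x⁻¹) * u := by rw [hw]; group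
      _ = u⁻¹ * (x * z' * x⁻¹)⁻¹ * u := by rw [hxz', huz]; group
      _ = (u⁻¹ * z' * u)⁻¹ := by rw [hxz]; group
      _ = z' := by rw [huz', inv_inv]
  have hz3 : C.χ ⟨z', hz'⟩ ^ 3 = 1 := by
    rw [← map_pow, show (⟨z', hz'⟩ : C.K) ^ 3 = 1 from Subtype.ext (D.Je _ (C.toNorm.z'_J C.base.hz)), map_one]
  have hz1 : C.χ ⟨z', hz'⟩ ≠ 1 := fun e => C.toNorm.zp_not_A C.base.hz C.base.z1 (by
    rw [show (C.g : G) * C.z * (C.g : G)⁻¹ = z' from rfl,
      show z' = 1 from congrArg Subtype.val (C.χ_inj (a₁ := ⟨z', hz'⟩) (e.trans (map_one _).symm))]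
    exact one_mem _)
  have h6 := sl_cent_three hz3 hz1 (c := C.χ ⟨w, hwK⟩) (by
    rw [← map_mul, ← map_mul, show (⟨z', hz'⟩ : C.K) * ⟨w, hwK⟩ = ⟨w, hwK⟩ * ⟨z', hz'⟩ from Subtype.ext hwz.symm])
  rw [← map_pow] at h6
  have hw6 : w ^ 6 = 1 := congrArg Subtype.val (C.χ_inj (h6.trans (map_one _).symm))
  have hw3 := C.K_invol (pow_mem hwK 3) (by rw [← pow_add]; exact hw6)
  have hwC := D.L_le (C.K_le_L hwK)
  obtain ⟨W, hW, hWq⟩ := C.lin (C.NJ_of (cent_le_norm _ hwC)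
    (by rw [hwz, mul_inv_cancel_right]; exact D.hJS (C.toNorm.z'_J C.base.hz))).2 (C.K_t hwK) (α := 1) (β := 1)
    (by rw [C.K_z hwK, C.vec_z]) (by rw [hwz, mul_inv_cancel_right, C.vec_z'])
  have hW3 : ∀ p : V2, C.vec (lm 1 1 W (lm 1 1 W (lm 1 1 W (0, p.1, p.2, 0)))) =
      w ^ 3 * C.vec (0, p.1, p.2, 0) * (w ^ 3)⁻¹ := fun p => by
    rw [← hW, ← hW, ← hW]; simp [pow_succ, mul_assoc]
  have hcube : (∀ p : V2, app W (app W (app W p)) = p) ∨ ∀ p : V2, app W (app W (app W p)) = -p := by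
    rcases hw3 with e | e
    · left
      intro p
      have h' := hW3 p
      rw [e, one_mul, inv_one, mul_one] at h'
      have e' := C.vec_inj h'
      simp only [lm, Prod.mk.injEq] at e'
      exact Prod.ext e'.2.1 e'.2.2.1
    · right
      intro p
      have h' := hW3 p
      rw [e, C.t_act] at h'
      have e' := C.vec_inj h'
      simp only [lm, Prod.mk.injEq] at e'
      exact Prod.ext e'.2.1 e'.2.2.1
  have hWc := app_cube_cases W (fun p => by rw [hWq]; ring) hcube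
  -- the middle part commutes with the anti-similitude up to sign
  refine app_sign_cases U hA H (fun p => by rw [hq]; ring) ?_
  have hrel : ∀ p : V2, app H (app U p) = app U (app W (app H p)) := fun p => by
    have e : x * (u * C.vec (0, p.1, p.2, 0) * u⁻¹) * x⁻¹ =
        u * (w * (x * C.vec (0, p.1, p.2, 0) * x⁻¹) * w⁻¹) * u⁻¹ := by rw [hw]; group
    rw [hU, hH, hH, hW, hU] at e
    have e' := C.vec_inj e
    simp only [lm, Prod.mk.injEq] at e'
    exact Prod.ext e'.2.1 e'.2.2.1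
  rcases hWc with rfl | rfl
  · left; intro p; rw [hrel]; simp [app]
  · right; intro p; rw [hrel]; simp [app]; constructor <;> ring

end Ctx

end Cfsg.Agent.MclThree
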