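import Cfsg.Agent.Lib.Recognition.MclThreeLocal.Raw

/-!
Normalised coordinates: the four-cycle, the involution and the transvections as explicit maps.
-/

set_option autoImplicit false
set_option linter.unusedSectionVars false
set_option synthInstance.maxSize 2000
set_option maxRecDepth 100000

namespace Cfsg.Agent.MclThree

universe u

/-- the quadratic form -/
def nf (v : V4) : ZMod 3 := v.2.1 * v.2.1 + v.2.2.1 * v.2.2.1 - v.1 * v.2.2.2

/-- the reflection moving the two fixed points -/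
def g4 (v : V4) : V4 := (v.2.2.2, v.2.1, -v.2.2.1, v.1)

/-- the reflection in the two middle coordinates, general -/
def gH (a b c d : ZMod 3) (v : V4) : V4 := (v.2.2.2, a * v.2.1 + b * v.2.2.1, c * v.2.1 + d * v.2.2.1, v.1)

theorem g4_add (v w : V4) : g4 (v + w) = g4 v + g4 w := by simp [g4, add_comm]

theorem gH_add (a b c d : ZMod 3) (v w : V4) : gH a b c d (v + w) = gH a b c d v + gH a b c d w := by
  simp only [gH, Prod.fst_add, Prod.snd_add, Prod.mk_add_mk, Prod.mk.injEq]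
  refine ⟨trivial, by ring, by ring, trivial⟩

theorem nf_facts : (∀ u v : ZMod 3, ∀ w : V4, nf (pK (-1) u v w) = nf w) ∧
    (∀ e : ZMod 3, nf (e, 0, 0, 0) = 0) ∧ (∀ w : V4, nf (g4 w) = nf w) ∧ ∀ w : V4, nf (fM (-1) w) = nf w := by
  decide +kernel

theorem plus_impossible : ∀ a b c d : ZMod 3, gH a b c d (pK (-1) 1 1 (0, 0, 0, 1)) ≠ (1, 0, 0, 0) ∧
    ∀ u v : ZMod 3, gH a b c d (pK (-1) 1 1 (0, 0, 0, 1)) ≠ pK (-1) u v (0, 0, 0, 1) := by
  decide +kernel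

theorem refl_cases : ∀ a b c d : ZMod 3,
    (∀ u v : ZMod 3, nf (gH a b c d (pK (-1) u v (0, 0, 0, 1))) = 0) →
    (∀ w : V4, gH a b c d (fM (-1) w) = fMi (-1) (gH a b c d w)) →
    (∃ w : V4, w ≠ 0 ∧ nf w = 0 ∧ gH a b c d w = w) →
    (a = 1 ∧ b = 0 ∧ c = 0 ∧ d = -1) ∨ (a = -1 ∧ b = 0 ∧ c = 0 ∧ d = 1) := by
  decide +kernel

theorem fix_line : ∀ w : V4, g4 w = w → fM (-1) (fM (-1) w) = w → ∃ k : ZMod 3, w = (k, 0, 0, k) := by
  decide +kernel

variable {G : Type u} [Group G] [Finite G] {D : Data G}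

/-- Normalised coordinates. -/
structure Ctx (D : Data G) extends Norm D where
  z : G
  e1 : G
  base : toNorm.Base z e1
  af : toNorm.Acts z e1 f (fM (-1))
  ag : toNorm.Acts z e1 g g4
  ap : ∀ u v : ZMod 3, ∃ p : D.M, (p : G) ∈ (D.S : Subgroup G) ∧ toNorm.Acts z e1 p (pK (-1) u v)
  ar : (r : G) * toNorm.ι z e1 (1, 0, 0, 1) * (r : G)⁻¹ = toNorm.ι z e1 (1, 0, 0, 1)

namespace Norm.Base

variable {K : Norm D} {z e1 : G} (b : K.Base z e1)
include b

theorem S_acts {k : ZMod 3} (ap : ∀ u v : ZMod 3, ∃ p : D.M, (p : G) ∈ (D.S : Subgroup G) ∧ K.Acts z e1 p (pK k u v))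
    {s : D.M} (hs : (s : G) ∈ (D.S : Subgroup G)) : ∃ u v : ZMod 3, K.Acts z e1 s (pK k u v) := by
  choose p hp hP using ap
  have hinj : Function.Injective (fun uv : ZMod 3 × ZMod 3 =>
      (⟨K.φ (p uv.1 uv.2), mem_syl6.2 ((K.hS _).1 (hp uv.1 uv.2))⟩ : syl6)) := by
    rintro ⟨u, v⟩ ⟨u', v'⟩ e
    have hE := b.eq (hP u v) (hP u' v') (congrArg Subtype.val e) (0, 0, 0, 1)
    simp only [pK, zero_add, mul_one, Prod.mk.injEq] at hE
    exact Prod.ext hE.2.1 hE.2.2.1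
  have hb := (Nat.bijective_iff_injective_and_card _).2 ⟨hinj, by rw [card_syl6, Nat.card_eq_fintype_card]; rfl⟩
  obtain ⟨⟨u, v⟩, e⟩ := hb.2 ⟨_, (K.hS s).1 hs⟩
  exact ⟨u, v, b.congr (hP u v) (congrArg Subtype.val e)⟩

theorem coords : K.ι z e1 (1, 0, 0, 0) = z ∧ K.ι z e1 (0, 1, 0, 0) = e1 ∧
    K.ι z e1 (0, 0, 1, 0) = (K.f : G) * e1 * (K.f : G)⁻¹ ∧ K.ι z e1 (0, 0, 0, 1) = K.z' z := by
  refine ⟨?_, ?_, ?_, ?_⟩ <;> simp [Norm.ι, pw_one, pw_zero]

/-- changing the basis vector multiplies the parameter by the form -/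
theorem change {k k' x y : ZMod 3} {e' : G} (b' : K.Base z e') (he : e' = K.ι z e1 (0, x, y, 0))
    (ap : ∀ u v : ZMod 3, ∃ p : D.M, (p : G) ∈ (D.S : Subgroup G) ∧ K.Acts z e1 p (pK k u v))
    (ap' : ∀ u v : ZMod 3, ∃ p : D.M, (p : G) ∈ (D.S : Subgroup G) ∧ K.Acts z e' p (pK k' u v)) :
    k' = k * (x * x + y * y) := by
  obtain ⟨p, hp, hP⟩ := ap x y
  obtain ⟨q, hq, hQ⟩ := ap' 1 0
  have e1' : (p : G) * K.z' z * (p : G)⁻¹ = pw z (-(k * (x * x + y * y))) * e' * K.z' z := by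
    have h := hP (0, 0, 0, 1)
    rw [b.coords.2.2.2] at h
    rw [h, he]
    simp [Norm.ι, pK, pw_one, pw_zero, mul_assoc]
  have e2' : (q : G) * K.z' z * (q : G)⁻¹ = pw z (-k') * e' * K.z' z := by
    have h := hQ (0, 0, 0, 1)
    rw [b'.coords.2.2.2] at h
    rw [h]
    simp [Norm.ι, pK, pw_one, pw_zero, mul_assoc]
  set A := -(k * (x * x + y * y)) with hA
  have hz3 := D.Je _ b.mems.1
  have hsub : pw z A = pw z (A + k') * pw z (-k') := by rw [← pw_add hz3, add_neg_cancel_right]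
  have hZ : pw z (A + k') ∈ D.Z := pw_mem b.hz _
  have hcq := (D.mem_Z.1 hZ).2 q hq
  have hs : ((q : G)⁻¹ * p) * K.z' z * ((q : G)⁻¹ * p)⁻¹ = pw z (A + k') * K.z' z := by
    calc ((q : G)⁻¹ * p) * K.z' z * ((q : G)⁻¹ * p)⁻¹ = (q : G)⁻¹ * ((p : G) * K.z' z * (p : G)⁻¹) * q := by group
      _ = (q : G)⁻¹ * (pw z (A + k') * ((q : G) * K.z' z * (q : G)⁻¹)) * q := by
          rw [e1', e2', hsub]; simp only [mul_assoc]
      _ = (q : G)⁻¹ * (pw z (A + k') * q) * K.z' z := by group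
      _ = _ := by rw [← hcq]; group
  have hsS : (q : G)⁻¹ * p ∈ (D.S : Subgroup G) := mul_mem (inv_mem hq) hp
  have hsJ := K.S_ker b.hz b.z1 hsS (by rw [hs, mul_inv_cancel_right]; exact hZ)
  rw [D.Jc _ hsJ _ b.mems.2.2.2, mul_inv_cancel_right] at hs
  have h1 : K.ι z e1 (A + k', 0, 0, 0) = K.ι z e1 0 := by
    rw [b.zero]
    simp only [Norm.ι, pw_zero, mul_one]
    exact mul_eq_right.1 hs.symm
  have h2 := congrArg Prod.fst (b.inj h1)
  rw [hA] at h2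
  simpa [add_comm, add_neg_eq_zero] using h2

theorem e_mem (x y : ZMod 3) (h : x ≠ 0 ∨ y ≠ 0) : K.Base z (K.ι z e1 (0, x, y, 0)) := by
  refine ⟨b.hz, b.z1, ?_, fun e => ?_⟩
  · have hm : K.ι z e1 (0, x, y, 0) = pw e1 x * pw ((K.f : G) * e1 * (K.f : G)⁻¹) y := by simp [Norm.ι, pw_zero]
    rw [hm]
    exact mul_mem (pw_mem b.he _) (pw_mem (K.f_W0 b.he) _)
  · rw [← b.zero] at e
    have := b.inj e
    simp only [Prod.ext_iff, Prod.fst_zero, Prod.snd_zero] at this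
    rcases h with h | h
    · exact h this.2.1
    · exact h this.2.2.1

theorem g_acts {l : ZMod 3} (hl : l = 1 ∨ l = -1) (hf : K.Acts z e1 K.f (fM l)) :
    ∃ a c b' d : ZMod 3, K.Acts z e1 K.g (gH a b' c d) := by
  have ht : K.Acts z e1 K.t (fun v => (v.1, -v.2.1, -v.2.2.1, v.2.2.2)) := fun v => by
    have h := b.t_acts hf v
    rw [h]
    congr 1
    rcases hl with rfl | rfl <;> simp [fM]
  have key : ∀ w : G, w ∈ K.W0 → ∃ x y, (K.g : G) * w * (K.g : G)⁻¹ = K.ι z e1 (0, x, y, 0) := by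
    intro w hw
    obtain ⟨hJ, hinv⟩ := K.g_W0 hw
    obtain ⟨⟨a, x, y, c⟩, hv⟩ := b.surj hJ
    rw [← hv, ht, ← b.neg] at hinv
    have := b.inj hinv
    simp only [Prod.neg_mk, Prod.mk.injEq] at this
    obtain ⟨ha, -, -, hc⟩ := this
    have h0 : ∀ a : ZMod 3, a = -a → a = 0 := by decide
    exact ⟨x, y, by rw [← hv, h0 a ha, h0 c hc]⟩
  obtain ⟨a, c, h1⟩ := key e1 b.he
  obtain ⟨b', d, h2⟩ := key _ (K.f_W0 b.he)
  refine ⟨a, c, b', d, b.acts_of_basis _ _ (gH_add _ _ _ _) ?_ ?_ ?_ ?_⟩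
  · show K.z' z = _
    simp [gH, Norm.ι, pw_one, pw_zero]
  · rw [h1]; congr 1; simp [gH]
  · rw [h2]; congr 1; simp [gH]
  · have hgg : K.φ (K.g * K.g) = K.φ 1 := by rw [map_mul, map_one, K.hg]; exact six_rel.2.2.2.2.2.2.2.1
    have := K.act_congr hgg b.mems.1
    simp only [Subgroup.coe_mul, Subgroup.coe_one, one_mul, inv_one, mul_one] at this
    rw [show (K.g : G) * K.z' z * (K.g : G)⁻¹ = (K.g : G) * K.g * z * ((K.g : G) * K.g)⁻¹ by rw [Norm.z']; group, this]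
    simp [gH, Norm.ι, pw_one, pw_zero]

theorem orbit {l : ZMod 3} (hf : K.Acts z e1 K.f (fM l))
    (ap : ∀ u v : ZMod 3, ∃ p : D.M, (p : G) ∈ (D.S : Subgroup G) ∧ K.Acts z e1 p (pK (-1) u v))
    (m : D.M) : ∃ i : ℕ, (m : G) * z * (m : G)⁻¹ = K.ι z e1 (l ^ i, 0, 0, 0) ∨
      ∃ u v : ZMod 3, (m : G) * z * (m : G)⁻¹ = K.ι z e1 (pK (-1) u v (0, 0, 0, l ^ i)) := by
  have hp6 : ∀ p ∈ l6, ∃ s : D.M, (s : G) ∈ (D.S : Subgroup G) ∧ K.φ s = p := fun p hp => by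
    obtain ⟨s, hs⟩ := K.exists_lift ((show ∀ q ∈ l6, Equiv.Perm.sign q = 1 by decide +kernel) p hp)
    exact ⟨s, (K.hS s).2 (hs ▸ hp), hs⟩
  have hz : ∀ q ∈ l6, ∀ (i : ℕ) (n : D.M), K.φ n = q * f6 ^ i →
      (n : G) * z * (n : G)⁻¹ = K.ι z e1 (l ^ i, 0, 0, 0) := by
    intro q hq i n hn
    obtain ⟨s, hs, hsq⟩ := hp6 q hq
    have hfi : ∀ i : ℕ, ((K.f ^ i : D.M) : G) * z * ((K.f ^ i : D.M) : G)⁻¹ = K.ι z e1 (l ^ i, 0, 0, 0) := by
      intro i
      induction i with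
      | zero => simp [Norm.ι, pw_zero, pw_one]
      | succ i ih =>
        rw [pow_succ', Subgroup.coe_mul,
          show (K.f : G) * ((K.f ^ i : D.M) : G) * z * ((K.f : G) * ((K.f ^ i : D.M) : G))⁻¹ =
            (K.f : G) * (((K.f ^ i : D.M) : G) * z * ((K.f ^ i : D.M) : G)⁻¹) * (K.f : G)⁻¹ by group, ih, hf]
        simp [fM, pow_succ']
    rw [K.act_congr (m' := s * K.f ^ i) (by rw [hn, map_mul, map_pow, hsq, K.hf]) b.mems.1, Subgroup.coe_mul,
      show (s : G) * ((K.f ^ i : D.M) : G) * z * ((s : G) * ((K.f ^ i : D.M) : G))⁻¹ =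
        (s : G) * (((K.f ^ i : D.M) : G) * z * ((K.f ^ i : D.M) : G)⁻¹) * (s : G)⁻¹ by group, hfi]
    have hm : K.ι z e1 (l ^ i, 0, 0, 0) ∈ D.Z := by
      simp only [Norm.ι, pw_zero, mul_one]; exact pw_mem b.hz _
    rw [(D.mem_Z.1 hm).2 _ hs, mul_inv_cancel_right]
  rcases six_coset (K.sign m) with h | ⟨p, hp, q, hq, i, -, e⟩
  · obtain ⟨q, hq, i, -, e⟩ := six_norm (K.sign m) h
    exact ⟨i, Or.inl (hz q hq i m e)⟩
  obtain ⟨s, hs, hsp⟩ := hp6 p hp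
  obtain ⟨u, v, hsA⟩ := b.S_acts ap hs
  set n := K.g⁻¹ * s⁻¹ * m with hn
  have hφn : K.φ n = q * f6 ^ i := by rw [hn, map_mul, map_mul, map_inv, map_inv, K.hg, hsp, e]; group
  refine ⟨i, Or.inr ⟨u, v, ?_⟩⟩
  have hz' := hz q hq i n hφn
  have hgn : (K.g : G) * K.ι z e1 (l ^ i, 0, 0, 0) * (K.g : G)⁻¹ = K.ι z e1 (0, 0, 0, l ^ i) := by
    simp only [Norm.ι, pw_zero, mul_one, one_mul]
    rw [pw_conj]; rfl
  rw [← hsA, ← hgn, ← hz', hn]
  simp [mul_assoc]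

end Norm.Base

theorem Norm.exists_good (K : Norm D) : ∃ z e1 : G, K.Base z e1 ∧ ∃ l : ZMod 3, (l = 1 ∨ l = -1) ∧
    K.Acts z e1 K.f (fM l) ∧
    ∀ u v : ZMod 3, ∃ p : D.M, (p : G) ∈ (D.S : Subgroup G) ∧ K.Acts z e1 p (pK (-1) u v) := by
  obtain ⟨z, e1, b⟩ := K.exists_base
  obtain ⟨l, k, hl, hk, hf, ap⟩ := b.exists_raw
  rcases (show ∀ k : ZMod 3, k ≠ 0 → k = -1 ∨ k = 1 by decide) k hk with rfl | rfl
  · exact ⟨z, e1, b, l, hl, hf, ap⟩
  · have b' := b.e_mem 1 1 (Or.inl (by decide))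
    obtain ⟨l', k', hl', -, hf', ap'⟩ := b'.exists_raw
    have e := b.change b' rfl ap ap'
    rw [show (1 : ZMod 3) * (1 * 1 + 1 * 1) = -1 by decide] at e
    subst e
    exact ⟨z, _, b', l', hl', hf', ap'⟩

theorem exists_ctx (D : Data G) : Nonempty (Ctx D) := by
  obtain ⟨K⟩ := exists_norm D
  obtain ⟨z, e1, b, l, hl, hf, ap⟩ := K.exists_good
  obtain ⟨a, c, b', d, hg⟩ := b.g_acts hl hf
  -- the centre is inverted
  have hl2 : l = -1 := by
    rcases hl with rfl | rfl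
    · exfalso
      obtain ⟨p, hp, hP⟩ := ap 1 1
      obtain ⟨i, h⟩ := b.orbit hf ap (K.g * p * K.g)
      rw [one_pow] at h
      have e : ((K.g * p * K.g : D.M) : G) * z * ((K.g * p * K.g : D.M) : G)⁻¹ =
          K.ι z e1 (gH a b' c d (pK (-1) 1 1 (0, 0, 0, 1))) := by
        rw [← hg, ← hP, b.coords.2.2.2, Norm.z']
        simp [mul_assoc]
      rw [e] at h
      rcases h with h | ⟨u, v, h⟩
      · exact (plus_impossible a b' c d).1 (b.inj h)
      · exact (plus_impossible a b' c d).2 u v (b.inj h)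
    · rfl
  subst hl2
  have iso : ∀ (m : D.M) (w : V4), (m : G) * z * (m : G)⁻¹ = K.ι z e1 w → nf w = 0 := by
    intro m w hw
    obtain ⟨i, h | ⟨u, v, h⟩⟩ := b.orbit hf ap m <;> rw [hw] at h <;> have := b.inj h <;> subst this
    · exact nf_facts.2.1 _
    · rw [nf_facts.1]; simp [nf]
  have hcases := refl_cases a b' c d ?_ ?_ ?_
  rotate_left
  · intro u v
    obtain ⟨p, hp, hP⟩ := ap u v
    refine iso (K.g * p * K.g) _ ?_
    rw [← hg, ← hP, b.coords.2.2.2, Norm.z']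
    simp [mul_assoc]
  · intro w
    obtain ⟨l', hl', hf', hfi⟩ := b.exists_f
    have hll : l' = -1 := by
      have h := b.eq hf' hf rfl (1, 0, 0, 0)
      simpa [fM] using h
    subst hll
    refine b.eq (b.comp hg hf) (b.comp hfi hg) ?_ w
    rw [map_mul, map_mul, map_inv, K.hg, K.hf]; decide +kernel
  · obtain ⟨w, hw⟩ := b.surj (mem_norm (D.M_norm K.r.2) b.mems.1)
    refine ⟨w, fun h0 => ?_, iso K.r w hw.symm, b.inj ?_⟩
    · rw [h0, b.zero] at hw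
      exact b.z1 (conj_eq_one_iff.1 hw.symm)
    · rw [← hg, hw]
      have hc : K.φ (K.g * K.r) = K.φ (K.r * K.t) := by
        rw [map_mul, map_mul, K.φ_t, K.hg, K.hr]; decide +kernel
      have h := K.act_congr hc b.mems.1
      simp only [Subgroup.coe_mul, mul_inv_rev, mul_assoc] at h ⊢
      rw [h]
      have ht := K.t_Z b.hz
      simp only [mul_assoc] at ht
      rw [← mul_assoc (K.t : G), ← mul_assoc ((K.t : G) * z), mul_assoc (K.t : G) z, ht]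
  -- normalise the reflection
  have fin : ∀ e1 : G, ∀ (b : K.Base z e1), K.Acts z e1 K.f (fM (-1)) → K.Acts z e1 K.g g4 →
      (∀ u v : ZMod 3, ∃ p : D.M, (p : G) ∈ (D.S : Subgroup G) ∧ K.Acts z e1 p (pK (-1) u v)) → Nonempty (Ctx D) := by
    intro e1 b hf hg ap
    refine ⟨⟨K, z, e1, b, hf, hg, ap, ?_⟩⟩
    set y := K.ι z e1 (1, 0, 0, 1) with hy
    have hyJ : y ∈ D.J := b.mem _
    have ht := b.t_acts hf
    obtain ⟨w, hw⟩ := b.surj (mem_norm (D.M_norm K.r.2) hyJ)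
    have hgy : (K.g : G) * y * (K.g : G)⁻¹ = y := by rw [hy, hg]; simp [g4]
    have hty : (K.t : G) * y * (K.t : G)⁻¹ = y := by rw [hy, ht]; simp [fM]
    have hgr : (K.g : G) * K.ι z e1 w * (K.g : G)⁻¹ = K.ι z e1 w := by
      have hc : K.φ (K.g * K.r) = K.φ (K.r * K.t) := by rw [map_mul, map_mul, K.φ_t, K.hg, K.hr]; decide +kernel
      have h := K.act_congr hc hyJ
      rw [hw]
      calc (K.g : G) * ((K.r : G) * y * (K.r : G)⁻¹) * (K.g : G)⁻¹
          = ((K.g * K.r : D.M) : G) * y * ((K.g * K.r : D.M) : G)⁻¹ := by simp [mul_assoc]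
        _ = (K.r : G) * ((K.t : G) * y * (K.t : G)⁻¹) * (K.r : G)⁻¹ := by rw [h]; simp [mul_assoc]
        _ = _ := by rw [hty]
    have htr : (K.t : G) * K.ι z e1 w * (K.t : G)⁻¹ = K.ι z e1 w := by
      have hc : K.φ (K.t * K.r) = K.φ (K.r * (K.t * K.g)) := by
        simp only [map_mul, K.φ_t, K.hg, K.hr]; decide +kernel
      have h := K.act_congr hc hyJ
      rw [hw]
      calc (K.t : G) * ((K.r : G) * y * (K.r : G)⁻¹) * (K.t : G)⁻¹
          = ((K.t * K.r : D.M) : G) * y * ((K.t * K.r : D.M) : G)⁻¹ := by simp [mul_assoc]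
        _ = (K.r : G) * ((K.t : G) * ((K.g : G) * y * (K.g : G)⁻¹) * (K.t : G)⁻¹) *
              (K.r : G)⁻¹ := by rw [h]; simp [mul_assoc]
        _ = _ := by rw [hgy, hty]
    rw [hg] at hgr
    rw [ht] at htr
    obtain ⟨k, rfl⟩ := fix_line w (b.inj hgr) (b.inj htr)
    -- the element of order three fixes it
    have hk0 : k ≠ 0 := fun h0 => by
      subst h0
      have h1 : y = 1 := conj_eq_one_iff.1 (hw.symm.trans b.zero)
      rw [hy, ← b.zero] at h1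
      exact absurd (congrArg Prod.fst (b.inj h1)) (by decide)
    rcases (show ∀ k : ZMod 3, k ≠ 0 → k = 1 ∨ k = -1 by decide) k hk0 with rfl | rfl
    · exact hw.symm
    · exfalso
      have hn : ((-1 : ZMod 3), (0 : ZMod 3), (0 : ZMod 3), (-1 : ZMod 3)) = -(1, 0, 0, 1) := by simp
      rw [hn, b.neg, ← hy] at hw
      have hc : K.φ (K.r * K.r * K.r) = K.φ 1 := by
        rw [map_mul, map_mul, map_one, K.hr]; exact six_rel.2.2.2.2.2.2.2.2.2.1
      have h := K.act_congr hc hyJ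
      simp only [Subgroup.coe_mul, Subgroup.coe_one, one_mul, inv_one, mul_one] at h
      have e : (K.r : G) * K.r * K.r * y * ((K.r : G) * K.r * K.r)⁻¹ = y⁻¹ := by
        calc _ = (K.r : G) * ((K.r : G) * ((K.r : G) * y * (K.r : G)⁻¹) * (K.r : G)⁻¹) * (K.r : G)⁻¹ := by group
          _ = (K.r : G) * ((K.r : G) * y⁻¹ * (K.r : G)⁻¹) * (K.r : G)⁻¹ := by rw [← hw]
          _ = (K.r : G) * ((K.r : G) * y * (K.r : G)⁻¹)⁻¹ * (K.r : G)⁻¹ := by group
          _ = y⁻¹ := by rw [← hw, inv_inv, ← hw]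
      rw [e, hy, ← b.neg] at h
      exact absurd (congrArg Prod.fst (b.inj h)) (by decide)
  rcases hcases with ⟨rfl, rfl, rfl, rfl⟩ | ⟨rfl, rfl, rfl, rfl⟩
  · refine fin e1 b hf (fun v => ?_) ap
    rw [hg]; congr 1; simp [gH, g4]
  · set e2 := K.ι z e1 (0, 0, 1, 0) with he2
    have b2 := b.e_mem 0 1 (Or.inr (by decide))
    obtain ⟨l', k', hl', -, hf', ap'⟩ := b2.exists_raw
    have e := b.change b2 rfl ap ap'
    rw [show (-1 : ZMod 3) * (0 * 0 + 1 * 1) = -1 by decide] at e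
    subst e
    have hz1 : (K.f : G) * z * (K.f : G)⁻¹ = K.ι z e1 (-1, 0, 0, 0) := by
      have h := hf (1, 0, 0, 0)
      rw [b.coords.1] at h
      rw [h]; simp [fM]
    have hll : l' = -1 := by
      have h' := hf' (1, 0, 0, 0)
      rw [b2.coords.1, hz1] at h'
      have e2' : K.ι z e2 (fM l' (1, 0, 0, 0)) = K.ι z e1 (l', 0, 0, 0) := by simp [Norm.ι, fM, pw_zero]
      rw [e2'] at h'
      exact (congrArg Prod.fst (b.inj h')).symm
    subst hll
    refine fin _ b2 hf' (b2.acts_of_basis _ _ g4_add ?_ ?_ ?_ ?_) ap'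
    · show K.z' z = _
      simp [g4, Norm.ι, pw_one, pw_zero]
    · rw [hg]
      simp [gH, g4, Norm.ι, pw_one, pw_zero]
    · rw [hf, hg]
      have e3 : K.ι z e2 (g4 (0, 0, 1, 0)) = K.ι z e1 (0, 1, 0, 0) := by
        have h4 : g4 (0, 0, 1, 0) = -((0, 0, 1, 0) : V4) := by simp [g4]
        rw [h4, b2.neg, b2.coords.2.2.1, hf, ← b.neg]
        congr 1
      rw [e3]; congr 1
    · have h := hg (0, 0, 0, 1)
      rw [b.coords.2.2.2] at h
      rw [h]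
      simp [gH, g4, Norm.ι, pw_one, pw_zero]

end Cfsg.Agent.MclThree
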