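import Cfsg.Agent.Lib.Recognition.MclThreeLocal.Cent2
import Mathlib.GroupTheory.SpecificGroups.Dihedral

/-!
The dihedral group of order eight acting on the four signed isotropic points.
-/

set_option autoImplicit false
set_option linter.unusedSectionVars false
set_option synthInstance.maxSize 2000
set_option maxRecDepth 100000

namespace Cfsg.Agent.MclThree

open DihedralGroup

universe u

/-- the four signed points -/
def pt (i : ZMod 4) : V4 :=
  if i = 0 then (1, 0, 0, 0) else if i = 1 then (0, 0, 0, 1) else if i = 2 then (-1, 0, 0, 0) else (0, 0, 0, -1)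

/-- the action on the indices -/
def act : DihedralGroup 4 → ZMod 4 → ZMod 4
  | .r k, i => i + k
  | .sr k, i => -(i + k)

theorem act_mul : ∀ d e : DihedralGroup 4, ∀ i, act (d * e) i = act d (act e i) := by decide +kernel

theorem act_one : ∀ i, act 1 i = i := by decide +kernel

theorem act_inj : ∀ d e : DihedralGroup 4, (∀ i, act d i = act e i) → d = e := by decide +kernel

theorem act_cases : ∀ a b c e : ZMod 4, c = a + 2 → e = b + 2 → a ≠ b → a ≠ e →
    ∃ d, act d 0 = a ∧ act d 1 = b ∧ act d 2 = c ∧ act d 3 = e := by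
  decide +kernel

theorem pt_facts : (∀ i, pt (i + 2) = -pt i) ∧ (∀ i j, pt i = pt j → i = j) ∧
    (∀ i, pt i ≠ 0 ∧ (pt i).2.1 = 0 ∧ (pt i).2.2.1 = 0 ∧ nf (pt i) = 0) ∧
    ∀ a b : ZMod 3, nf (a, 0, 0, b) = 0 → ((a, 0, 0, b) : V4) ≠ 0 → ∃ i, pt i = (a, 0, 0, b) := by
  decide +kernel

theorem zmod4_cases : ∀ i : ZMod 4, i = 0 ∨ i = 1 ∨ i = 2 ∨ i = 3 := by decide +kernel

theorem act_u : ∀ U : Mt, ∀ i, lm 1 (-1) U (pt i) = pt (act (sr 0) i) := by decide +kernel

theorem act_g : ∀ i, g4 (pt i) = pt (act (sr 3) i) := by decide +kernel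

theorem act_f : ∀ i, fM (-1) (pt i) = pt (act (r 2) i) := by decide +kernel

theorem act_plus : ∀ d : DihedralGroup 4, pt (act d 0) + pt (act d 1) = (1, 0, 0, 1) ↔ d = 1 ∨ d = sr 3 := by
  decide +kernel

theorem act_line : ∀ d : DihedralGroup 4,
    (pt (act d 0) + pt (act d 1) = (1, 0, 0, 1) ∨ pt (act d 0) + pt (act d 1) = -(1, 0, 0, 1)) ↔
      d = 1 ∨ d = sr 3 ∨ d = r 2 ∨ d = sr 1 := by
  decide +kernel

theorem dih_gen : ∀ d : DihedralGroup 4, d = 1 ∨ d = sr 3 * sr 0 ∨ d = (sr 3 * sr 0) * (sr 3 * sr 0) ∨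
    d = (sr 3 * sr 0) * ((sr 3 * sr 0) * (sr 3 * sr 0)) ∨ d = sr 0 ∨ d = sr 0 * (sr 3 * sr 0) ∨
    d = sr 0 * ((sr 3 * sr 0) * (sr 3 * sr 0)) ∨ d = sr 0 * ((sr 3 * sr 0) * ((sr 3 * sr 0) * (sr 3 * sr 0))) := by
  decide +kernel

theorem four_group : ∀ d : DihedralGroup 4, (d = 1 ∨ d = sr 3 ∨ d = r 2 ∨ d = sr 1) → d * d = 1 := by
  decide +kernel

theorem word_four : ∀ U : Mt, Anti U → ∀ v : V4,
    lm 1 (-1) U (g4 (lm 1 (-1) U (g4 (lm 1 (-1) U (g4 (lm 1 (-1) U (g4 v))))))) = (v.1, -v.2.1, -v.2.2.1, v.2.2.2) ∧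
      g4 (lm 1 (-1) U (g4 (lm 1 (-1) U (g4 (lm 1 (-1) U (g4 (lm 1 (-1) U v))))))) = (v.1, -v.2.1, -v.2.2.1, v.2.2.2) := by
  decide +kernel

theorem cent_three : ∀ s : Equiv.Perm (Fin 5), s * s * s = 1 → s ≠ 1 →
    (Finset.univ.filter fun p : Equiv.Perm (Fin 5) => p * s = s * p).card = 6 ∧
    (Finset.univ.filter fun p : Equiv.Perm (Fin 5) => p * s = s * p ∧ Equiv.Perm.sign p = 1).card = 3 := by
  decide +kernel

/-- a homomorphism from the dihedral group given by generators -/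
theorem exists_dihedral_hom {M : Type*} [Group M] {a p : M} (ha : a * a = 1) (hp : p ^ 4 = 1)
    (hap : p * a = a * p⁻¹) : ∃ s : DihedralGroup 4 →* M, (∀ i, s (r i) = p ^ i.val) ∧
      ∀ i, s (sr i) = a * p ^ i.val := by
  have hpow : ∀ i j : ZMod 4, p ^ (i + j).val = p ^ i.val * p ^ j.val := fun i j => by
    rw [ZMod.val_add, ← pow_add]
    conv_rhs => rw [← Nat.div_add_mod (i.val + j.val) 4, pow_add, pow_mul, hp, one_pow, one_mul]
  have hneg : ∀ i : ZMod 4, p ^ (-i).val = (p ^ i.val)⁻¹ := fun i => by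
    refine (inv_eq_of_mul_eq_one_right ?_).symm
    rw [← hpow, add_neg_cancel, ZMod.val_zero, pow_zero]
  have hcomm : ∀ n : ℕ, p ^ n * a = a * (p ^ n)⁻¹ := by
    intro n
    induction n with
    | zero => simp
    | succ n ih =>
      calc p ^ (n + 1) * a = p ^ n * (p * a) := by rw [pow_succ, mul_assoc]
        _ = (p ^ n * a) * p⁻¹ := by rw [hap, mul_assoc]
        _ = a * ((p ^ n)⁻¹ * p⁻¹) := by rw [ih, mul_assoc]
        _ = a * (p ^ (n + 1))⁻¹ := by rw [pow_succ', mul_inv_rev]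
  let F : DihedralGroup 4 → M := fun d => match d with
    | .r i => p ^ i.val
    | .sr i => a * p ^ i.val
  refine ⟨MonoidHom.mk' F ?_, fun i => rfl, fun i => rfl⟩
  rintro (i | i) (j | j)
  · rw [r_mul_r]; exact hpow i j
  · rw [r_mul_sr]
    show a * p ^ (j - i).val = p ^ i.val * (a * p ^ j.val)
    rw [← mul_assoc, hcomm, mul_assoc, ← hneg, ← hpow]
    congr 3; ring
  · rw [sr_mul_r]
    show a * p ^ (i + j).val = a * p ^ i.val * p ^ j.val
    rw [hpow, mul_assoc]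
  · rw [sr_mul_sr]
    show p ^ (j - i).val = a * p ^ i.val * (a * p ^ j.val)
    rw [show a * p ^ i.val * (a * p ^ j.val) = a * (p ^ i.val * a) * p ^ j.val by simp [mul_assoc], hcomm,
      ← mul_assoc a a, ha, one_mul, ← hneg, ← hpow]
    congr 2; ring

end Cfsg.Agent.MclThree
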