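import Cfsg.Agent.Lib.Recognition.MclThreeLocal.TopMain

/-!
The exceptional configuration does not occur: two commuting copies of the special linear group would have
commuting actions on the elementary abelian subgroup.
-/

set_option autoImplicit false
set_option linter.unusedSectionVars false
set_option synthInstance.maxSize 2000
set_option maxRecDepth 100000
set_option maxHeartbeats 1000000

namespace Cfsg.Agent.MclThree

open Equiv

universe u

theorem not_commute_cases : ∀ U : Mt, Anti U → ∃ x y : ZMod 3,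
    g4 (lm 1 (-1) U (g4 (lm 1 (-1) U (0, x, y, 0)))) ≠ lm 1 (-1) U (g4 (lm 1 (-1) U (g4 (0, x, y, 0)))) := by
  decide +kernel

theorem alt_five_kill {X : Type u} [Group X] (hX : ∀ {A : Type} [CommGroup A] (φ : X →* A) (k : X), φ k = 1)
    (θ : X →* alternatingGroup (Fin 5)) {a : alternatingGroup (Fin 5)} (ha : a ≠ 1) (ha3 : a ^ 3 = 1)
    (hc : ∀ k, θ k * a = a * θ k) (k : X) : θ k = 1 := by
  classical
  haveI : Fact (Nat.Prime 3) := ⟨Nat.prime_three⟩
  have h3 : Nat.card (Subgroup.centralizer ({a} : Set (alternatingGroup (Fin 5)))) = 3 := by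
    have h := (cent_three (a : Perm (Fin 5)) (by
      have := congrArg Subtype.val ha3
      simpa [pow_succ, mul_assoc] using this) fun e => ha (Subtype.ext e)).2
    rw [← h, ← Fintype.card_subtype, ← Nat.card_eq_fintype_card]
    refine Nat.card_congr ⟨fun p => ⟨p.1.1, congrArg Subtype.val (Subgroup.mem_centralizer_singleton_iff.1 p.2), p.1.2⟩,
      fun p => ⟨⟨p.1, p.2.2⟩, Subgroup.mem_centralizer_singleton_iff.2 (Subtype.ext p.2.1)⟩, fun p => rfl, fun p => rfl⟩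
  haveI := isCyclic_of_prime_card h3
  letI : CommGroup (Subgroup.centralizer ({a} : Set (alternatingGroup (Fin 5)))) := IsCyclic.commGroup
  exact congrArg Subtype.val (hX (θ.codRestrict (Subgroup.centralizer ({a} : Set _))
    fun k => Subgroup.mem_centralizer_singleton_iff.2 (hc k)) k)

variable {G : Type u} [Group G] [Finite G] {D : Data G}

namespace Ctx

variable {C : Ctx D}

theorem exc_false (h : C.IsExc) : False := by
  obtain ⟨N, hNn, -, ⟨e⟩, -, -, hsq⟩ := h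
  haveI := hNn
  obtain ⟨u, U, hu, hut, hA, hU⟩ := C.exists_u
  obtain ⟨gg, hgt, hgJ, hgg, hgact⟩ := exists_gg (C := C)
  have hgi : gg⁻¹ = gg := inv_eq_of_mul_eq_one_right hgg
  let θ : C.K →* C.Hq := C.πh.comp (Subgroup.inclusion fun k hk => mem_Ct.2 (C.K_t hk))
  have hθN : ∀ k, θ k ∈ N := fun k => by
    letI : CommGroup (C.Hq ⧸ N) :=
      { (inferInstance : Group (C.Hq ⧸ N)) with
        mul_comm := fun a b => by
          have h2 : ∀ q : C.Hq ⧸ N, q⁻¹ = q := fun q => by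
            obtain ⟨g, rfl⟩ := QuotientGroup.mk'_surjective N q
            refine inv_eq_of_mul_eq_one_right ?_
            rw [← map_mul, ← pow_two, QuotientGroup.mk'_apply, QuotientGroup.eq_one_iff]
            exact hsq g
          calc a * b = (a * b)⁻¹ := (h2 _).symm
            _ = b⁻¹ * a⁻¹ := mul_inv_rev _ _
            _ = b * a := by rw [h2, h2] }
    exact (QuotientGroup.eq_one_iff _).1 (K_kill (C := C) ((QuotientGroup.mk' N).comp θ) k)
  set gq : C.Hq := C.πh ⟨gg, hgt⟩ with hgq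
  let θ' : C.K →* C.Hq := (MulAut.conj gq).toMonoidHom.comp θ
  have hθ'N : ∀ k, θ' k ∈ N := fun k => hNn.conj_mem _ (hθN k) gq
  let F : C.K →* alternatingGroup (Fin 5) × alternatingGroup (Fin 5) := e.toMonoidHom.comp (θ.codRestrict N hθN)
  let F' : C.K →* alternatingGroup (Fin 5) × alternatingGroup (Fin 5) := e.toMonoidHom.comp (θ'.codRestrict N hθ'N)
  have hzC : C.z ∈ C.Ct := (Z_X1 (C := C) C.base.hz).1
  have hz3 : C.z ^ 3 = 1 := D.Je _ (D.Z_le_J C.base.hz)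
  have hzN : C.zq ∈ N := by
    have h3 : C.zq ^ 3 = 1 := by rw [← map_pow, show (⟨C.z, hzC⟩ : C.Ct) ^ 3 = 1 from Subtype.ext hz3, map_one]
    have h4 : C.zq = (C.zq ^ 2) ^ 2 := by
      rw [← pow_mul, show 2 * 2 = 3 + 1 from rfl, pow_succ, h3, one_mul]
    rw [h4]; exact hsq _
  have hgz : (⟨gg, hgt⟩ : C.Ct) * ⟨C.z, hzC⟩ * (⟨gg, hgt⟩ : C.Ct)⁻¹ = ⟨C.toNorm.z' C.z, z'_Ct⟩ := Subtype.ext (by
    show gg * C.z * gg⁻¹ = C.toNorm.z' C.z
    conv_lhs => rw [← C.vec_z]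
    rw [hgact, ← C.vec_z']; rfl)
  set w := e ⟨C.zq, hzN⟩ with hw
  set zk : C.K := ⟨C.toNorm.z' C.z, C.z'_mem_K.1⟩ with hzk
  have hw' : F zk = e ⟨gq * C.zq * gq⁻¹, hNn.conj_mem _ hzN gq⟩ := by
    refine congrArg e (Subtype.ext ?_)
    show θ zk = gq * C.zq * gq⁻¹
    rw [hgq, zq, ← map_inv, ← map_mul, ← map_mul, hgz]; rfl
  have hθz : ∀ k, θ k * C.zq = C.zq * θ k := fun k => by
    rw [MonoidHom.comp_apply, zq, ← map_mul, ← map_mul]
    exact congrArg C.πh (Subtype.ext (mul_inv_eq_iff_eq_mul.1 (C.K_z k.2)))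
  have hwc : ∀ k, F k * w = w * F k := fun k => by
    show e _ * e _ = e _ * e _
    rw [← map_mul, ← map_mul]
    exact congrArg e (Subtype.ext (hθz k))
  have hwc' : ∀ k, F' k * F zk = F zk * F' k := fun k => by
    rw [hw']
    show e _ * e _ = e _ * e _
    refine (map_mul e _ _).symm.trans (Eq.trans (congrArg e (Subtype.ext ?_)) (map_mul e _ _))
    show gq * θ k * gq⁻¹ * (gq * C.zq * gq⁻¹) = gq * C.zq * gq⁻¹ * (gq * θ k * gq⁻¹)
    calc gq * θ k * gq⁻¹ * (gq * C.zq * gq⁻¹) = gq * (θ k * C.zq) * gq⁻¹ := by group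
      _ = gq * (C.zq * θ k) * gq⁻¹ := congrArg (fun a => gq * a * gq⁻¹) (hθz k)
      _ = _ := by group
  have hzq1 : C.zq ≠ 1 := fun h => by
    rcases πh_one.1 h with h | h
    · exact C.base.z1 h
    · have h' : C.z = C.t := h
      rw [h', pow_succ, pow_two, C.t_sq, one_mul] at hz3
      exact C.t_ne hz3
  have hw1 : w ≠ 1 := fun h => hzq1 (congrArg Subtype.val (e.injective (h.trans (map_one e).symm)))
  have hw'1 : F zk ≠ 1 := fun h => by
    rw [hw'] at h
    exact hzq1 (conj_eq_one_iff.1 (congrArg Subtype.val (e.injective (h.trans (map_one e).symm))))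
  have hw3 : w ^ 3 = 1 := by
    rw [hw, ← map_pow, show (⟨C.zq, hzN⟩ : N) ^ 3 = 1 from Subtype.ext (by
      show C.zq ^ 3 = 1
      rw [← map_pow, show (⟨C.z, hzC⟩ : C.Ct) ^ 3 = 1 from Subtype.ext hz3, map_one]), map_one]
  have hw'3 : F zk ^ 3 = 1 := by
    rw [← map_pow, show zk ^ 3 = 1 from Subtype.ext (D.Je _ (C.toNorm.z'_J C.base.hz)), map_one]
  have hkill : ∀ {A : Type} [CommGroup A] (φ : C.K →* A) (k : C.K), φ k = 1 := fun φ k => K_kill φ k
  have side1 : ∀ (H : C.K →* alternatingGroup (Fin 5) × alternatingGroup (Fin 5)) (w : _ × _), w ^ 3 = 1 → w.1 ≠ 1 →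
      (∀ k, H k * w = w * H k) → ∀ k, (H k).1 = 1 := fun H w h3 h1 hc k =>
    alt_five_kill hkill ((MonoidHom.fst _ _).comp H) h1 (congrArg Prod.fst h3) (fun k => congrArg Prod.fst (hc k)) k
  have side2 : ∀ (H : C.K →* alternatingGroup (Fin 5) × alternatingGroup (Fin 5)) (w : _ × _), w ^ 3 = 1 → w.2 ≠ 1 →
      (∀ k, H k * w = w * H k) → ∀ k, (H k).2 = 1 := fun H w h3 h1 hc k =>
    alt_five_kill hkill ((MonoidHom.snd _ _).comp H) h1 (congrArg Prod.snd h3) (fun k => congrArg Prod.snd (hc k)) k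
  have hcomm : ∀ k k', F k * F' k' = F' k' * F k := by
    intro k k'
    by_cases h1 : w.1 = 1
    · have h2 : w.2 ≠ 1 := fun h2 => hw1 (Prod.ext h1 h2)
      have hk := side2 F w hw3 h2 hwc
      have h1' : (F zk).1 ≠ 1 := fun h => hw'1 (Prod.ext h (hk zk))
      have hk' := side1 F' _ hw'3 h1' hwc' k'
      exact Prod.ext (by rw [Prod.fst_mul, Prod.fst_mul, hk', mul_one, one_mul])
        (by rw [Prod.snd_mul, Prod.snd_mul, hk k, mul_one, one_mul])
    · have hk := side1 F w hw3 h1 hwc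
      have h2' : (F zk).2 ≠ 1 := fun h => hw'1 (Prod.ext (hk zk) h)
      have hk' := side2 F' _ hw'3 h2' hwc' k'
      exact Prod.ext (by rw [Prod.fst_mul, Prod.fst_mul, hk k, mul_one, one_mul])
        (by rw [Prod.snd_mul, Prod.snd_mul, hk', mul_one, one_mul])
  have hu' : gg * u * gg⁻¹ ∈ C.Ct := mul_mem (mul_mem hgt (mem_Ct.2 (C.K_t hu))) (inv_mem hgt)
  have hc : ∀ k ∈ C.K, gg * u * gg⁻¹ * k = k * (gg * u * gg⁻¹) := by
    refine cent_mod hu' fun k hk => ?_
    have h0 := congrArg Subtype.val (e.injective ((map_mul e _ _).trans ((hcomm ⟨k, hk⟩ ⟨u, hu⟩).trans (map_mul e _ _).symm)))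
    have h1 : θ ⟨k, hk⟩ * θ' ⟨u, hu⟩ = θ' ⟨u, hu⟩ * θ ⟨k, hk⟩ := h0
    have h2 : C.πh (⟨_, hu'⟩ * ⟨k, mem_Ct.2 (C.K_t hk)⟩ * (⟨_, hu'⟩ : C.Ct)⁻¹) = C.πh ⟨k, mem_Ct.2 (C.K_t hk)⟩ := by
      rw [map_mul, map_mul, map_inv]
      refine mul_inv_eq_iff_eq_mul.2 ?_
      have e' : θ' ⟨u, hu⟩ = C.πh ⟨_, hu'⟩ := by
        show gq * C.πh _ * gq⁻¹ = _
        rw [hgq, ← map_inv, ← map_mul, ← map_mul]; rfl
      rw [← e']; exact h1.symm
    rcases πh_eq.1 h2 with h | h
    · exact Or.inl h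
    · exact Or.inr h
  have hcu := hc u hu
  obtain ⟨x, y, hxy⟩ := not_commute_cases U hA
  refine hxy (C.vec_inj ?_)
  set v : V4 := ((0 : ZMod 3), x, y, (0 : ZMod 3))
  rw [hgi] at hcu
  calc C.vec (g4 (lm 1 (-1) U (g4 (lm 1 (-1) U v))))
      = gg * (u * (gg * (u * C.vec v * u⁻¹) * gg⁻¹) * u⁻¹) * gg⁻¹ := by rw [hU, hgact, hU, hgact]
    _ = (gg * u * gg * u) * C.vec v * (gg * u * gg * u)⁻¹ := by group
    _ = (u * (gg * u * gg)) * C.vec v * (u * (gg * u * gg))⁻¹ := by rw [hcu]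
    _ = u * (gg * (u * (gg * C.vec v * gg⁻¹) * u⁻¹) * gg⁻¹) * u⁻¹ := by group
    _ = _ := by rw [hgact, hU, hgact, hU]

end Ctx

end Cfsg.Agent.MclThree
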