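import Cfsg.Agent.Lib.Recognition.MclThreeLocal.Ctx

/-!
The normaliser of the elementary abelian subgroup controls fusion in it and permutes the ten isotropic points.
-/

set_option autoImplicit false
set_option linter.unusedSectionVars false
set_option synthInstance.maxSize 2000
set_option maxRecDepth 100000

namespace Cfsg.Agent.MclThree

universe u

theorem fixed_count : ∀ u v : ZMod 3, (u ≠ 0 ∨ v ≠ 0) →
    (Finset.univ.filter fun w : V4 => pK (-1) u v w = w).card ≤ 9 := by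
  decide +kernel

theorem fixed_all : ∀ w : V4, pK (-1) 1 0 w = w → pK (-1) 0 1 w = w → w.2.1 = 0 ∧ w.2.2.1 = 0 ∧ w.2.2.2 = 0 := by
  decide +kernel

theorem iso_list : ∀ w : V4, w ≠ 0 → nf w = 0 →
    w = (1, 0, 0, 0) ∨ w = (-1, 0, 0, 0) ∨
      ∃ u v : ZMod 3, w = pK (-1) u v (0, 0, 0, 1) ∨ w = pK (-1) u v (0, 0, 0, -1) := by
  decide +kernel

theorem aniso_list : ∀ w : V4, nf w ≠ 0 →
    (∃ u v : ZMod 3, (pK (-1) u v w).1 = 0 ∧ (pK (-1) u v w).2.2.2 = 0) ∨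
    ∃ u v u' v' : ZMod 3, (pK (-1) u' v' (g4 (pK (-1) u v w))).1 = 0 ∧
      (pK (-1) u' v' (g4 (pK (-1) u v w))).2.2.2 = 0 := by
  decide +kernel

variable {G : Type u} [Group G] [Finite G] {D : Data G} (C : Ctx D)

namespace Ctx

include C

/-- coordinates -/
def vec (v : V4) : G := C.toNorm.ι C.z C.e1 v

theorem vec_mem (v : V4) : C.vec v ∈ D.J := C.base.mem v

theorem vec_add (v w : V4) : C.vec (v + w) = C.vec v * C.vec w := C.base.add v w

theorem vec_zero : C.vec 0 = 1 := C.base.zero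

theorem vec_neg (v : V4) : C.vec (-v) = (C.vec v)⁻¹ := C.base.neg v

theorem vec_inj : Function.Injective C.vec := C.base.inj

theorem vec_surj {x : G} (hx : x ∈ D.J) : ∃ v, C.vec v = x := C.base.surj hx

theorem vec_z : C.vec (1, 0, 0, 0) = C.z := C.base.coords.1

theorem mem_Z_iff {v : V4} : C.vec v ∈ D.Z ↔ v.2.1 = 0 ∧ v.2.2.1 = 0 ∧ v.2.2.2 = 0 := by
  constructor
  · intro h
    have hfix : ∀ u w : ZMod 3, pK (-1) u w v = v := fun u w => by
      obtain ⟨p, hp, hP⟩ := C.ap u w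
      refine C.vec_inj ((hP v).symm.trans ?_)
      show (p : G) * C.vec v * (p : G)⁻¹ = C.vec v
      rw [(D.mem_Z.1 h).2 _ hp, mul_inv_cancel_right]
    exact fixed_all v (hfix 1 0) (hfix 0 1)
  · rintro ⟨h1, h2, h3⟩
    obtain ⟨a, x, y, b⟩ := v
    simp only at h1 h2 h3
    subst h1 h2 h3
    simp only [vec, Norm.ι, pw_zero, mul_one]
    exact pw_mem C.base.hz _

theorem S_act {s : G} (hs : s ∈ (D.S : Subgroup G)) :
    ∃ u v : ZMod 3, ∀ w, s * C.vec w * s⁻¹ = C.vec (pK (-1) u v w) :=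
  C.base.S_acts C.ap (s := ⟨s, D.S_le_M hs⟩) hs

/-- the elementary abelian subgroup is the only one of its order in the Sylow subgroup -/
theorem unique {J' : Subgroup G} (hle : J' ≤ D.S) (hc : ∀ a ∈ J', ∀ b ∈ J', a * b = b * a)
    (hcard : Nat.card J' = 81) : J' = D.J := by
  classical
  haveI : Fact (Nat.Prime 3) := ⟨Nat.prime_three⟩
  by_contra hne
  have hnot : ¬ J' ≤ D.J := fun h => hne (Subgroup.eq_of_le_of_card_ge h (by rw [D.hJ, hcard]))
  obtain ⟨s, hs, hsJ⟩ := SetLike.not_le_iff_exists.1 hnot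
  obtain ⟨u, v, hA⟩ := C.S_act (hle hs)
  have huv : u ≠ 0 ∨ v ≠ 0 := by
    by_contra h
    simp only [ne_eq, not_or, not_not] at h
    obtain ⟨rfl, rfl⟩ := h
    refine hsJ (D.cent_J fun a ha => ?_)
    obtain ⟨w, rfl⟩ := C.vec_surj ha
    have := hA w
    rw [pK_facts.1] at this
    exact (mul_inv_eq_iff_eq_mul.1 this).symm
  -- the intersection is fixed by `s`
  have hinter : Nat.card (D.J ⊓ J' : Subgroup G) ≤ 9 := by
    refine le_trans ?_ (fixed_count u v huv)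
    rw [← Nat.card_eq_finsetCard]
    have hpre : ∀ x : (D.J ⊓ J' : Subgroup G), ∃ w, C.vec w = x := fun x => C.vec_surj x.2.1
    choose w hw using hpre
    refine Nat.card_le_card_of_injective (fun x => (⟨w x, Finset.mem_filter.2 ⟨Finset.mem_univ _, ?_⟩⟩ :
      (Finset.univ.filter fun w : V4 => pK (-1) u v w = w : Finset V4))) fun a b e => Subtype.ext ?_
    · refine C.vec_inj ?_
      rw [← hA, hw, hc s hs _ x.2.2, mul_inv_cancel_right]
    · rw [← hw a, ← hw b]; exact congrArg C.vec (congrArg Subtype.val e)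
  have hn : J' ≤ Subgroup.normalizer (D.J : Set G) := hle.trans D.S_le_NJ
  have h := Cfsg.Agent.Solv.card_sup_mul_card_inf' D.J J' hn
  rw [D.hJ, hcard] at h
  have h2 := Subgroup.card_le_of_le (sup_le D.hJS hle)
  rw [D.card_S.1] at h2
  have h3 : Nat.card (D.J ⊓ J' : Subgroup G) = 9 := by
    nlinarith
  have hsup : D.J ⊔ J' = (D.S : Subgroup G) := Subgroup.eq_of_le_of_card_ge (sup_le D.hJS hle) (by
    rw [D.card_S.1]; rw [h3] at h; omega)
  -- so the intersection is fixed by the whole Sylow subgroup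
  have hZ : D.J ⊓ J' ≤ D.Z := fun x hx => by
    refine D.mem_Z.2 ⟨D.hJS hx.1, fun t ht => ?_⟩
    have hle' : D.J ⊔ J' ≤ Subgroup.centralizer ({x} : Set G) :=
      sup_le (fun a ha => Subgroup.mem_centralizer_singleton_iff.2 (D.Jc a ha x hx.1))
        (fun a ha => Subgroup.mem_centralizer_singleton_iff.2 (hc a ha x hx.2))
    rw [hsup] at hle'
    exact Subgroup.mem_centralizer_singleton_iff.1 (hle' ht)
  have := Subgroup.card_le_of_le hZ
  rw [h3, D.Z_eq.2] at this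
  omega

/-- in any Sylow subgroup containing it, too -/
theorem unique' (P : Sylow 3 G) (hJ : D.J ≤ P) {J' : Subgroup G} (hle : J' ≤ P)
    (hc : ∀ a ∈ J', ∀ b ∈ J', a * b = b * a) (hcard : Nat.card J' = 81) : J' = D.J := by
  haveI : Fact (Nat.Prime 3) := ⟨Nat.prime_three⟩
  obtain ⟨c, hc'⟩ := MulAction.exists_smul_eq G P D.S
  have e : (P : Subgroup G).map (MulAut.conj c).toMonoidHom = D.S := by
    rw [← hc', Sylow.coe_subgroup_smul]; rfl
  have key : ∀ H : Subgroup G, H ≤ P → (∀ a ∈ H, ∀ b ∈ H, a * b = b * a) → Nat.card H = 81 →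
      H.map (MulAut.conj c).toMonoidHom = D.J := fun H hH hcm hcd =>
    C.unique (e ▸ Subgroup.map_mono hH) (by
      rintro _ ⟨a, ha, rfl⟩ _ ⟨b, hb, rfl⟩
      rw [← map_mul, ← map_mul, hcm a ha b hb])
      (by rw [Subgroup.card_map_of_injective (MulEquiv.injective _), hcd])
  exact Subgroup.map_injective (MulAut.conj c).injective ((key J' hle hc hcard).trans (key D.J hJ D.Jc D.hJ).symm)

/-- conjugate elements of the abelian subgroup are conjugate in its normaliser -/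
theorem fusion {x : G} (hx : x ∈ D.J) {g : G} (hg : g * x * g⁻¹ ∈ D.J) :
    ∃ n ∈ Subgroup.normalizer (D.J : Set G), n * x * n⁻¹ = g * x * g⁻¹ := by
  haveI : Fact (Nat.Prime 3) := ⟨Nat.prime_three⟩
  set y := g * x * g⁻¹ with hy
  set Cy := Subgroup.centralizer ({y} : Set G) with hCy
  set J' := D.J.map (MulAut.conj g).toMonoidHom with hJ'
  have h1 : D.J ≤ Cy := fun a ha => Subgroup.mem_centralizer_singleton_iff.2 (D.Jc a ha y hg)
  have h2 : J' ≤ Cy := by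
    rintro _ ⟨a, ha, rfl⟩
    refine Subgroup.mem_centralizer_singleton_iff.2 ?_
    show g * a * g⁻¹ * y = y * (g * a * g⁻¹)
    calc g * a * g⁻¹ * y = g * (a * x) * g⁻¹ := by rw [hy]; group
      _ = g * (x * a) * g⁻¹ := by rw [D.Jc a ha x hx]
      _ = _ := by rw [hy]; group
  have hp : ∀ H : Subgroup G, H ≤ Cy → Nat.card H = 81 → IsPGroup 3 (H.subgroupOf Cy) := fun H hH hcd =>
    IsPGroup.of_card (n := 4) (by rw [Nat.card_congr (Subgroup.subgroupOfEquivOfLe hH).toEquiv, hcd]; norm_num)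
  have hJ'c : Nat.card J' = 81 := by rw [hJ', Subgroup.card_map_of_injective (MulEquiv.injective _), D.hJ]
  obtain ⟨P1, hP1⟩ := (hp _ h1 D.hJ).exists_le_sylow
  obtain ⟨P2, hP2⟩ := (hp _ h2 hJ'c).exists_le_sylow
  obtain ⟨c, hc⟩ := MulAction.exists_smul_eq Cy P2 P1
  obtain ⟨P, hP⟩ := (P1.2.map Cy.subtype).exists_le_sylow
  have hJP : D.J ≤ P := fun a ha => hP ⟨⟨a, h1 ha⟩, hP1 ha, rfl⟩
  have hcJ : J'.map (MulAut.conj (c : G)).toMonoidHom ≤ P := by
    rintro _ ⟨a, ha, rfl⟩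
    refine hP ⟨c * ⟨a, h2 ha⟩ * c⁻¹, ?_, rfl⟩
    have hm : c * ⟨a, h2 ha⟩ * c⁻¹ ∈ (c • P2 : Sylow 3 Cy) := by
      rw [← SetLike.mem_coe, Sylow.coe_smul]
      exact ⟨⟨a, h2 ha⟩, hP2 ha, rfl⟩
    rwa [hc] at hm
  have he := C.unique' P hJP hcJ (by
    rintro _ ⟨a, ⟨a', ha, rfl⟩, rfl⟩ _ ⟨b, ⟨b', hb, rfl⟩, rfl⟩
    rw [← map_mul, ← map_mul, ← map_mul, ← map_mul, D.Jc a' ha b' hb])
    (by rw [Subgroup.card_map_of_injective (MulEquiv.injective _), hJ'c])
  refine ⟨c * g, ?_, ?_⟩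
  · rw [Subgroup.mem_normalizer_iff_map_conj_eq, map_mul]
    rw [hJ', Subgroup.map_map] at he
    exact he
  · have hcy := Subgroup.mem_centralizer_singleton_iff.1 c.2
    calc (c : G) * g * x * ((c : G) * g)⁻¹ = c * y * (c : G)⁻¹ := by rw [hy]; group
      _ = y := by rw [hcy, mul_inv_cancel_right]

theorem z_conj_M (m : D.M) : ∃ w : V4, nf w = 0 ∧ w ≠ 0 ∧ (m : G) * C.z * (m : G)⁻¹ = C.vec w := by
  obtain ⟨w, hw⟩ := C.vec_surj (mem_norm (D.M_norm m.2) (D.Z_le_J C.base.hz))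
  refine ⟨w, ?_, fun h0 => ?_, hw.symm⟩
  · obtain ⟨i, h | ⟨u, v, h⟩⟩ := C.base.orbit C.af C.ap m <;> rw [← hw] at h <;> have := C.vec_inj h <;> subst this
    · exact nf_facts.2.1 _
    · rw [nf_facts.1]; simp [nf]
  · rw [h0, C.vec_zero] at hw
    exact C.base.z1 (conj_eq_one_iff.1 hw.symm)

/-- every isotropic vector is a conjugate of the generator of the centre -/
theorem exists_move {w : V4} (h0 : w ≠ 0) (hw : nf w = 0) : ∃ m : D.M, (m : G) * C.z * (m : G)⁻¹ = C.vec w := by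
  have hf : (C.f : G) * C.z * (C.f : G)⁻¹ = C.vec (-1, 0, 0, 0) := by
    rw [← C.vec_z]; refine (C.af _).trans ?_; simp [fM, vec]
  have hz' : ∀ (m : D.M) (a : ZMod 3), (m : G) * C.z * (m : G)⁻¹ = C.vec (a, 0, 0, 0) →
      ((C.g * m : D.M) : G) * C.z * ((C.g * m : D.M) : G)⁻¹ = C.vec (0, 0, 0, a) := fun m a h => by
    have e := C.ag (a, 0, 0, 0)
    simp only [g4, neg_zero] at e
    show _ = C.toNorm.ι C.z C.e1 _
    rw [← e]
    simp only [Subgroup.coe_mul, mul_inv_rev]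
    change _ = (C.g : G) * C.vec (a, 0, 0, 0) * (C.g : G)⁻¹
    rw [← h]; group
  rcases iso_list w h0 hw with rfl | rfl | ⟨u, v, rfl | rfl⟩
  · exact ⟨1, by simp [C.vec_z]⟩
  · exact ⟨C.f, hf⟩
  · obtain ⟨p, -, hP⟩ := C.ap u v
    refine ⟨p * (C.g * 1), ?_⟩
    have h := hz' 1 1 (by simp [C.vec_z])
    rw [← show (p : G) * C.vec (0, 0, 0, 1) * (p : G)⁻¹ = C.vec (pK (-1) u v (0, 0, 0, 1)) from hP _, ← h]
    simp [mul_assoc]
  · obtain ⟨p, -, hP⟩ := C.ap u v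
    refine ⟨p * (C.g * C.f), ?_⟩
    have h := hz' C.f (-1) hf
    rw [← show (p : G) * C.vec (0, 0, 0, -1) * (p : G)⁻¹ = C.vec (pK (-1) u v (0, 0, 0, -1)) from hP _, ← h]
    simp [mul_assoc]

/-- elements of the normaliser send the centre generator to an isotropic vector -/
theorem z_conj {n : G} (hn : n ∈ Subgroup.normalizer (D.J : Set G)) :
    ∃ w : V4, nf w = 0 ∧ w ≠ 0 ∧ n * C.z * n⁻¹ = C.vec w := by
  haveI : Fact (Nat.Prime 3) := ⟨Nat.prime_three⟩
  set S' : Sylow 3 G := n • D.S with hS'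
  have hS'M : (S' : Subgroup G) ≤ D.M := by
    rw [hS', Sylow.coe_subgroup_smul]
    rintro _ ⟨s, hs, rfl⟩
    exact mem_norm (D.M_conj hn) (D.S_le_M hs)
  obtain ⟨m, hm⟩ := MulAction.exists_smul_eq D.M (D.S.subtype D.S_le_M) (S'.subtype hS'M)
  -- so `m⁻¹ n` normalises the Sylow subgroup
  have hk : (m : G)⁻¹ * n ∈ Subgroup.normalizer ((D.S : Subgroup G) : Set G) := by
    rw [Subgroup.mem_normalizer_iff_map_conj_eq]
    refine Subgroup.eq_of_le_of_card_ge ?_ (le_of_eq (Subgroup.card_map_of_injective (MulEquiv.injective _)).symm)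
    rintro _ ⟨s, hs, rfl⟩
    have h1 : n * s * n⁻¹ ∈ (S' : Subgroup G) := by
      rw [hS', Sylow.coe_subgroup_smul]; exact ⟨s, hs, rfl⟩
    have h2 : (⟨n * s * n⁻¹, hS'M h1⟩ : D.M) ∈ (S'.subtype hS'M : Subgroup D.M) := h1
    rw [← hm, Sylow.coe_subgroup_smul] at h2
    obtain ⟨s', hs', e⟩ := h2
    have e' : (m : G) * s' * (m : G)⁻¹ = n * s * n⁻¹ := congrArg Subtype.val e
    show (m : G)⁻¹ * n * s * ((m : G)⁻¹ * n)⁻¹ ∈ (D.S : Subgroup G)
    rw [show (m : G)⁻¹ * n * s * ((m : G)⁻¹ * n)⁻¹ = (m : G)⁻¹ * (n * s * n⁻¹) * m by group, ← e']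
    have : (m : G)⁻¹ * ((m : G) * s' * (m : G)⁻¹) * m = s' := by group
    rw [this]; exact hs'
  have hz := mem_norm (Norm.NS_le_NZ hk) C.base.hz
  have hn' : n * C.z * n⁻¹ = (m : G) * ((m : G)⁻¹ * n * C.z * ((m : G)⁻¹ * n)⁻¹) * (m : G)⁻¹ := by group
  obtain ⟨w, hw, h0, e⟩ := C.z_conj_M m
  rcases Norm.Z_gen C.base.hz C.base.z1 hz with h | h | h
  · exact absurd (conj_eq_one_iff.1 h) C.base.z1
  · exact ⟨w, hw, h0, by rw [hn', h, e]⟩
  · refine ⟨-w, by simp only [nf, Prod.fst_neg, Prod.snd_neg, neg_mul_neg]; exact hw, neg_ne_zero.2 h0, ?_⟩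
    rw [hn', h, C.vec_neg, ← e]; group

/-- conjugates of the centre generator in the abelian subgroup are isotropic -/
theorem z_fused {g : G} {w : V4} (h : g * C.z * g⁻¹ = C.vec w) : nf w = 0 := by
  obtain ⟨n, hn, e⟩ := C.fusion (D.Z_le_J C.base.hz) (g := g) (h ▸ C.vec_mem w)
  obtain ⟨w', hw', -, e'⟩ := C.z_conj hn
  rw [e, h] at e'
  rwa [C.vec_inj e']

/-- the isotropic vectors are permuted by the normaliser -/
theorem iso_perm {n : G} (hn : n ∈ Subgroup.normalizer (D.J : Set G)) {v w : V4} (hv : nf v = 0)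
    (h : n * C.vec v * n⁻¹ = C.vec w) : nf w = 0 := by
  by_cases h0 : v = 0
  · subst h0
    rw [C.vec_zero, mul_one, mul_inv_cancel, ← C.vec_zero] at h
    rw [← C.vec_inj h]; exact hv
  obtain ⟨m, hm⟩ := C.exists_move h0 hv
  refine C.z_fused (g := n * m) ?_
  rw [← h, ← hm]; group

/-- anisotropic vectors move into the middle coordinates -/
theorem exists_aniso {w : V4} (hw : nf w ≠ 0) : ∃ m : D.M, ∃ x y : ZMod 3, (x ≠ 0 ∨ y ≠ 0) ∧
    (m : G) * C.vec w * (m : G)⁻¹ = C.vec (0, x, y, 0) := by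
  have fin : ∀ (m : D.M) (r : V4), (m : G) * C.vec w * (m : G)⁻¹ = C.vec r → nf r ≠ 0 → r.1 = 0 → r.2.2.2 = 0 →
      ∃ m : D.M, ∃ x y : ZMod 3, (x ≠ 0 ∨ y ≠ 0) ∧ (m : G) * C.vec w * (m : G)⁻¹ = C.vec (0, x, y, 0) := by
    rintro m ⟨a, x, y, b⟩ h hn ha hb
    simp only at ha hb
    subst ha hb
    refine ⟨m, x, y, ?_, h⟩
    by_contra hc
    simp only [ne_eq, not_or, not_not] at hc
    obtain ⟨rfl, rfl⟩ := hc
    exact hn (by simp [nf])
  rcases aniso_list w hw with ⟨u, v, h1, h2⟩ | ⟨u, v, u', v', h1, h2⟩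
  · obtain ⟨p, -, hP⟩ := C.ap u v
    exact fin p _ (hP w) (by rw [nf_facts.1]; exact hw) h1 h2
  · obtain ⟨p, -, hP⟩ := C.ap u v
    obtain ⟨p', -, hP'⟩ := C.ap u' v'
    exact fin (p' * (C.g * p)) _ (C.base.comp hP' (C.base.comp C.ag hP) w)
      (by rw [nf_facts.1, nf_facts.2.2.1, nf_facts.1]; exact hw) h1 h2

end Ctx

end Cfsg.Agent.MclThree
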