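import Cfsg.Agent.Lib.Recognition.MclThreeLocal.Abelian

/-!
The action of the alternating group of degree six, normalised at the Sylow 3-subgroup.
-/

set_option autoImplicit false
set_option linter.unusedSectionVars false

namespace Cfsg.Agent.MclThree

universe u

variable {G : Type u} [Group G] [Finite G] {D : Data G}

/-- A normalised action with lifts of the three basic elements. -/
structure Norm (D : Data G) where
  φ : D.M →* P6
  range : φ.range = alternatingGroup (Fin 6)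
  ker : ∀ m : D.M, φ m = 1 ↔ (m : G) ∈ D.J
  hS : ∀ m : D.M, (m : G) ∈ (D.S : Subgroup G) ↔ φ m ∈ l6
  f : D.M
  g : D.M
  r : D.M
  hf : φ f = f6
  hg : φ g = g6
  hr : φ r = r6
  f4 : f ^ 4 = 1

theorem exists_norm (D : Data G) : Nonempty (Norm D) := by
  classical
  haveI : Fact (Nat.Prime 3) := ⟨Nat.prime_three⟩
  set φS : (D.S : Subgroup G) →* P6 := D.φ.comp (Subgroup.inclusion D.S_le_M) with hφS
  have hker : Nat.card φS.ker = 81 := by
    rw [← D.hJ, ← Nat.card_congr (Subgroup.subgroupOfEquivOfLe D.hJS).toEquiv]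
    refine Nat.card_congr (Equiv.setCongr ?_)
    ext x
    exact D.φ_ker (Subgroup.inclusion D.S_le_M x)
  have hcard : Nat.card φS.range = 9 := by
    have := Subgroup.card_mul_index φS.ker
    rw [hker, Subgroup.index_ker, D.card_S.1] at this
    omega
  have hsyl : ∀ H : Subgroup P6, Nat.card H = 9 → ∃ P : Sylow 3 P6, (P : Subgroup P6) = H := fun H hH => by
    refine ⟨Sylow.ofCard H ?_, rfl⟩
    rw [hH, Nat.card_perm, Nat.card_fin, show Nat.factorial 6 = 3 ^ 2 * 80 by rfl,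
      Nat.factorization_mul (by norm_num) (by norm_num), Nat.Prime.factorization_pow Nat.prime_three]
    simp [Nat.factorization_eq_zero_of_not_dvd (show ¬ 3 ∣ 80 by norm_num)]
  obtain ⟨P, hP⟩ := hsyl _ hcard
  obtain ⟨P', hP'⟩ := hsyl _ card_syl6
  obtain ⟨c, hc⟩ := MulAction.exists_smul_eq P6 P P'
  have hc' : φS.range.map (MulAut.conj c).toMonoidHom = syl6 := by
    have e := congrArg (fun R : Sylow 3 P6 => (R : Subgroup P6)) hc
    simp only [Sylow.coe_subgroup_smul] at e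
    rw [← hP, ← hP', ← e]
    rfl
  set φ' : D.M →* P6 := (MulAut.conj c).toMonoidHom.comp D.φ with hφ'
  have hker' : ∀ m : D.M, φ' m = 1 ↔ (m : G) ∈ D.J := fun m => by
    rw [← D.φ_ker m, hφ']
    exact (MulAut.conj c).map_eq_one_iff
  have hrange : φ'.range = alternatingGroup (Fin 6) := by
    rw [hφ', MonoidHom.range_comp, D.φ_range]
    exact Subgroup.normal_iff_map_conj_eq.1 inferInstance c
  have lift : ∀ x : P6, Equiv.Perm.sign x = 1 → ∃ m : D.M, φ' m = x := fun x hx => by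
    have : x ∈ φ'.range := by rw [hrange]; exact hx
    exact this
  have hS : ∀ m : D.M, (m : G) ∈ (D.S : Subgroup G) ↔ φ' m ∈ l6 := by
    intro m
    rw [← mem_syl6, ← hc']
    constructor
    · intro hm
      exact ⟨D.φ m, ⟨⟨m, hm⟩, rfl⟩, rfl⟩
    · rintro ⟨x, ⟨s, rfl⟩, e⟩
      have e' : D.φ m = D.φ (Subgroup.inclusion D.S_le_M s) := ((MulAut.conj c).injective e).symm
      have hj : ((Subgroup.inclusion D.S_le_M s)⁻¹ * m : D.M).1 ∈ D.J := (D.φ_ker _).1 (by
        rw [map_mul, map_inv, e', inv_mul_cancel])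
      have := mul_mem s.2 (D.hJS hj)
      simpa using this
  obtain ⟨f0, hf0⟩ := lift f6 six_rel.2.2.1
  obtain ⟨g, hg⟩ := lift g6 six_rel.2.2.2.1
  obtain ⟨r, hr⟩ := lift r6 six_rel.2.2.2.2.1
  have h4 : (f0 : G) ^ 4 ∈ D.J := (hker' (f0 ^ 4)).1 (by
    rw [map_pow, hf0, ← six_rel.2.2.2.2.2.1]; simp [pow_succ, mul_assoc])
  refine ⟨⟨φ', hrange, hker', hS, f0 ^ 9, g, r, ?_, hg, hr, ?_⟩⟩
  · have : f6 ^ 4 = 1 := by rw [← six_rel.2.2.2.2.2.1]; simp [pow_succ, mul_assoc]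
    rw [map_pow, hf0, show 9 = 4 * 2 + 1 by norm_num, pow_succ, pow_mul, this, one_pow, one_mul]
  · refine Subtype.ext ?_
    rw [← pow_mul, show 9 * 4 = 4 * (3 * 3) by norm_num, Subgroup.coe_pow, pow_mul, pow_mul, D.Je _ h4, one_pow,
      Subgroup.coe_one]

namespace Norm

variable (K : Norm D)

/-- the action on the abelian subgroup only depends on the image -/
theorem act_congr {m m' : D.M} (h : K.φ m = K.φ m') {a : G} (ha : a ∈ D.J) :
    (m : G) * a * (m : G)⁻¹ = m' * a * (m' : G)⁻¹ := by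
  have hj : (m'⁻¹ * m : D.M).1 ∈ D.J := (K.ker _).1 (by rw [map_mul, map_inv, h, inv_mul_cancel])
  have e := D.Jc _ hj a ha
  calc (m : G) * a * (m : G)⁻¹ = m' * ((m'⁻¹ * m : D.M).1 * a * ((m'⁻¹ * m : D.M).1)⁻¹) * (m' : G)⁻¹ := by
        simp [mul_assoc]
    _ = _ := by rw [e]; group

theorem exists_lift {x : P6} (hx : Equiv.Perm.sign x = 1) : ∃ m : D.M, K.φ m = x := by
  have : x ∈ K.φ.range := by rw [K.range]; exact hx
  exact this

theorem sign (m : D.M) : Equiv.Perm.sign (K.φ m) = 1 := by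
  have : K.φ m ∈ alternatingGroup (Fin 6) := by rw [← K.range]; exact ⟨m, rfl⟩
  exact this

theorem mem_NS {x : D.M} (hx : N6 (K.φ x)) : (x : G) ∈ Subgroup.normalizer ((D.S : Subgroup G) : Set G) := by
  rw [Subgroup.mem_normalizer_iff_map_conj_eq]
  refine Subgroup.eq_of_le_of_card_ge ?_ (le_of_eq (Subgroup.card_map_of_injective (MulEquiv.injective _)).symm)
  rintro _ ⟨s, hs, rfl⟩
  have h := hx _ ((K.hS ⟨s, D.S_le_M hs⟩).1 hs)
  rw [← map_inv, ← map_mul, ← map_mul] at h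
  exact (K.hS _).2 h

theorem NS_le_NZ : Subgroup.normalizer ((D.S : Subgroup G) : Set G) ≤ Subgroup.normalizer (D.Z : Set G) := by
  intro x hx
  rw [Subgroup.mem_normalizer_iff_map_conj_eq]
  refine Subgroup.eq_of_le_of_card_ge ?_ (le_of_eq (Subgroup.card_map_of_injective (MulEquiv.injective _)).symm)
  rintro _ ⟨z, hz, rfl⟩
  refine D.mem_Z.2 ⟨mem_norm hx (D.mem_Z.1 hz).1, fun s hs => ?_⟩
  have h := (D.mem_Z.1 hz).2 _ (mem_norm (inv_mem hx) hs)
  show s * (x * z * x⁻¹) = x * z * x⁻¹ * s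
  calc s * (x * z * x⁻¹) = x * (x⁻¹ * s * x⁻¹⁻¹ * z) * x⁻¹ := by group
    _ = x * (z * (x⁻¹ * s * x⁻¹⁻¹)) * x⁻¹ := by rw [h]
    _ = _ := by group

/-- an element of the normaliser of the centre normalises the Sylow subgroup -/
theorem NZ_syl {x : D.M} (hx : (x : G) ∈ Subgroup.normalizer (D.Z : Set G)) : N6 (K.φ x) := by
  intro p hp
  obtain ⟨s, hs⟩ := K.exists_lift ((show ∀ q ∈ l6, Equiv.Perm.sign q = 1 by decide +kernel) p hp)
  obtain ⟨j, hj, q, hq, e⟩ := D.exists_jq ((K.hS s).2 (hs ▸ hp))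
  have hqM : q ∈ D.M := D.S_le_M (D.QS hq)
  have hφ : K.φ ⟨q, hqM⟩ = p := by
    rw [← hs, show s = ⟨j, D.S_le_M (D.hJS hj)⟩ * ⟨q, hqM⟩ from Subtype.ext e, map_mul,
      (K.ker ⟨j, D.S_le_M (D.hJS hj)⟩).2 hj, one_mul]
  rw [← hφ, ← map_inv, ← map_mul, ← map_mul]
  exact (K.hS _).1 (D.QS (mem_norm (D.Q_conj hx) hq))

theorem f_NS : (K.f : G) ∈ Subgroup.normalizer ((D.S : Subgroup G) : Set G) := K.mem_NS (by rw [K.hf]; exact six_f.1)

theorem f_NA : (K.f : G) ∈ Subgroup.normalizer (D.A : Set G) := by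
  rw [Subgroup.mem_normalizer_iff_map_conj_eq]
  refine Subgroup.eq_of_le_of_card_ge ?_ (le_of_eq (Subgroup.card_map_of_injective (MulEquiv.injective _)).symm)
  rintro _ ⟨a, ha, rfl⟩
  exact ⟨mem_norm (D.M_norm K.f.2) ha.1, mem_norm (D.Q_conj (NS_le_NZ K.f_NS)) ha.2⟩

end Norm

end Cfsg.Agent.MclThree
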