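import Cfsg.Agent.Lib.Recognition.MclThreeLocal.Aniso4
import Cfsg.Agent.Lib.Fusion.PGroupAux
import Cfsg.Agent.Lib.Solv.Generation

/-!
There are no nontrivial normal subgroups of odd order.
-/

set_option autoImplicit false
set_option linter.unusedSectionVars false
set_option synthInstance.maxSize 2000
set_option maxRecDepth 100000
set_option maxHeartbeats 1000000

namespace Cfsg.Agent.MclThree

universe u

variable {G : Type u} [Group G] [Finite G] {D : Data G}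

namespace Ctx

variable {C : Ctx D}
include C

theorem z_not_odd (N : Subgroup G) [N.Normal] (h2 : (Nat.card N).Coprime 2) : C.z ∉ N := by
  intro hz
  obtain ⟨π, hπ, hker⟩ := exists_pi
  set ρ := π.comp C.χ with hρ
  have hρs : Function.Surjective ρ := hπ.comp C.χ_surj
  have hz'N : C.toNorm.z' C.z ∈ N := Subgroup.Normal.conj_mem inferInstance _ hz _
  have hz'K := C.z'_mem_K.1
  set R := (N.comap C.K.subtype).map ρ with hR
  haveI hRn : R.Normal := Subgroup.Normal.map (Subgroup.Normal.comap inferInstance _) _ hρs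
  have h3 := D.Je _ (C.toNorm.z'_J C.base.hz)
  have hne : C.toNorm.z' C.z ≠ 1 := fun e => C.base.z1 (conj_eq_one_iff.1 e)
  have hρz : ρ ⟨_, hz'K⟩ ≠ 1 := fun e => by
    rcases (hker _).1 e with e | e
    · exact hne (congrArg Subtype.val (C.χ_inj (e.trans (map_one _).symm)))
    · have : C.toNorm.z' C.z = C.t := congrArg Subtype.val (C.χ_inj (e.trans C.χ_t.symm))
      rw [this, pow_succ, pow_two, C.t_sq, one_mul] at h3
      exact C.t_ne h3
  haveI : IsSimpleGroup (alternatingGroup (Fin 5)) := alternatingGroup.isSimpleGroup_five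
  have hRtop : R = ⊤ := (hRn.eq_bot_or_eq_top).resolve_left fun e =>
    hρz (Subgroup.mem_bot.1 (e ▸ (⟨⟨_, hz'K⟩, hz'N, rfl⟩ : ρ ⟨_, hz'K⟩ ∈ R)))
  have hd1 : Nat.card R ∣ Nat.card (N.comap C.K.subtype) := Subgroup.card_map_dvd _ _
  have hd2 : Nat.card (N.comap C.K.subtype) ∣ Nat.card N := Subgroup.card_comap_dvd_of_injective N _ C.K.subtype_injective
  rw [hRtop, Subgroup.card_top, nat_card_alternatingGroup, Nat.card_fin, show Nat.factorial 5 / 2 = 60 from rfl] at hd1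
  have h60 : 2 ∣ Nat.card N := (show 2 ∣ 60 by norm_num).trans (hd1.trans hd2)
  exact absurd (Nat.le_of_dvd one_pos (h2 ▸ Nat.dvd_gcd h60 dvd_rfl)) (by norm_num)

theorem inf_S_bot (N : Subgroup G) [N.Normal] (h2 : (Nat.card N).Coprime 2) : N ⊓ (D.S : Subgroup G) = ⊥ := by
  haveI : Fact (Nat.Prime 3) := ⟨Nat.prime_three⟩
  by_contra hne
  set P := N.subgroupOf (D.S : Subgroup G) with hP
  have hPne : P ≠ ⊥ := fun e => hne (by
    have := congrArg (Subgroup.map (D.S : Subgroup G).subtype) e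
    rwa [hP, Subgroup.subgroupOf_map_subtype, Subgroup.map_bot] at this)
  haveI : P.Normal := Subgroup.Normal.comap inferInstance _
  obtain ⟨x, hx, hx1, hxc⟩ := Fusion.exists_central_of_normal D.S.2 P hPne
  have hxZ : (x : G) ∈ D.Z := D.mem_Z.2 ⟨x.2, fun s hs =>
    congrArg Subtype.val (Subgroup.mem_center_iff.1 hxc ⟨s, hs⟩)⟩
  rcases Norm.Z_gen C.base.hz C.base.z1 hxZ with e | e | e
  · exact hx1 (Subtype.ext e)
  · exact z_not_odd (C := C) N h2 ((show (x : G) = C.z from e) ▸ (show (x : G) ∈ N from hx))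
  · refine z_not_odd (C := C) N h2 ?_
    have := inv_mem (show (x : G) ∈ N from hx)
    rwa [e, inv_inv] at this

theorem not_three (N : Subgroup G) [hN : N.Normal] (h2 : (Nat.card N).Coprime 2) : ¬ 3 ∣ Nat.card N := by
  haveI : Fact (Nat.Prime 3) := ⟨Nat.prime_three⟩
  intro h3
  obtain ⟨x, hx⟩ := exists_prime_orderOf_dvd_card' (G := N) 3 h3
  have hx' : orderOf (x : G) = 3 := by rw [Subgroup.orderOf_coe]; exact hx
  obtain ⟨P, hP⟩ := (IsPGroup.of_card (G := Subgroup.zpowers (x : G)) (p := 3) (n := 1) (by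
    rw [Nat.card_zpowers, hx', pow_one])).exists_le_sylow
  obtain ⟨c, hc⟩ := MulAction.exists_smul_eq G P D.S
  have hm : c * (x : G) * c⁻¹ ∈ (D.S : Subgroup G) := by
    rw [← hc, Sylow.coe_subgroup_smul]
    exact ⟨x, hP (Subgroup.mem_zpowers _), rfl⟩
  have h1 : c * (x : G) * c⁻¹ ∈ N ⊓ (D.S : Subgroup G) := ⟨hN.conj_mem _ x.2 c, hm⟩
  rw [inf_S_bot (C := C) N h2, Subgroup.mem_bot, conj_eq_one_iff] at h1
  rw [h1, orderOf_one] at hx'
  omega

theorem cent_J_trivial (N : Subgroup G) [hN : N.Normal] (h2 : (Nat.card N).Coprime 2) {b : G} (hb : b ∈ D.J) (hb1 : b ≠ 1)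
    {n : G} (hn : n ∈ N) (hc : n * b * n⁻¹ = b) : n = 1 := by
  have hbot : ∀ a ∈ N, a ∈ (D.S : Subgroup G) → a = 1 := fun a h1 h2' =>
    Subgroup.mem_bot.1 (inf_S_bot (C := C) N h2 ▸ (⟨h1, h2'⟩ : a ∈ N ⊓ (D.S : Subgroup G)))
  have hcom : ∀ a : G, n * a * n⁻¹ * a⁻¹ ∈ N := fun a => by
    rw [show n * a * n⁻¹ * a⁻¹ = n * (a * n⁻¹ * a⁻¹) by group]
    exact mul_mem hn (hN.conj_mem _ (inv_mem hn) a)
  have keyz : ∀ n ∈ N, n * C.z * n⁻¹ = C.z → n = 1 := by
    intro n hn hc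
    have hcom : ∀ a : G, n * a * n⁻¹ * a⁻¹ ∈ N := fun a => by
      rw [show n * a * n⁻¹ * a⁻¹ = n * (a * n⁻¹ * a⁻¹) by group]
      exact mul_mem hn (hN.conj_mem _ (inv_mem hn) a)
    have hnQ := D.Q_conj (cent_le_norm _ (cent_Z_of hc))
    have hnC : n ∈ Subgroup.centralizer (D.Q : Set G) := Subgroup.mem_centralizer_iff.2 fun q hq => by
      have := hbot _ (hcom q) (D.QS (mul_mem (mem_norm hnQ hq) (inv_mem hq)))
      exact (mul_inv_eq_iff_eq_mul.1 (mul_inv_eq_one.1 this)).symm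
    exact hbot n hn (D.QS (D.QC hnC))
  obtain ⟨w, rfl⟩ := C.vec_surj hb
  by_cases hw : nf w = 0
  · obtain ⟨m, hm⟩ := C.exists_move (fun e => hb1 (by rw [e, C.vec_zero])) hw
    have := keyz ((m : G)⁻¹ * n * m) (by simpa using hN.conj_mem n hn (m : G)⁻¹) (by
      calc (m : G)⁻¹ * n * m * C.z * ((m : G)⁻¹ * n * m)⁻¹ = (m : G)⁻¹ * (n * ((m : G) * C.z * (m : G)⁻¹) * n⁻¹) * m := by group
        _ = C.z := by rw [hm, hc, ← hm]; group)
    calc n = (m : G) * ((m : G)⁻¹ * n * m) * (m : G)⁻¹ := by group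
      _ = 1 := by rw [this]; group
  · have hnJ := C.cent_aniso hw (Or.inl hc)
    refine hbot n hn (D.hJS (D.cent_J fun a ha => ?_))
    have := hbot _ (hcom a) (D.hJS (mul_mem (mem_norm hnJ ha) (inv_mem ha)))
    exact (mul_inv_eq_iff_eq_mul.1 (mul_inv_eq_one.1 this)).symm

omit C in
/-- the odd core is trivial -/
theorem odd_normal_bot (C : Ctx D) (N : Subgroup G) [hN : N.Normal] (h2 : (Nat.card N).Coprime 2) : N = ⊥ := by
  haveI : Fact (Nat.Prime 3) := ⟨Nat.prime_three⟩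
  have hco : (Nat.card D.J).Coprime (Nat.card N) := by
    rw [D.hJ, show 81 = 3 ^ 4 by norm_num]
    exact ((Nat.prime_three.coprime_iff_not_dvd).2 (not_three (C := C) N h2)).pow_left 4
  have hgen := Cfsg.Agent.Solv.gen_eq D.J N ⟨⟨fun a b => Subtype.ext (D.Jc _ a.2 _ b.2)⟩⟩
    (fun j _ => by rw [Subgroup.normalizer_eq_top]; trivial) hco
  rw [← hgen, eq_bot_iff]
  refine iSup₂_le fun B hB n hn => ?_
  obtain ⟨hBJ, a, ha, hBa⟩ := hB
  obtain ⟨b, hb, hb1⟩ : ∃ b ∈ B, b ≠ 1 := by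
    by_contra hcon
    push_neg at hcon
    rw [(Subgroup.eq_bot_iff_forall B).2 hcon, bot_sup_eq] at hBa
    have h81 : Nat.card (Subgroup.zpowers a) = 81 := by rw [hBa, D.hJ]
    rw [Nat.card_zpowers] at h81
    have := Nat.le_of_dvd (by norm_num) (orderOf_dvd_of_pow_eq_one (D.Je a ha))
    omega
  exact Subgroup.mem_bot.2 (cent_J_trivial (C := C) N h2 (hBJ hb) hb1 hn.1
    (mul_inv_eq_iff_eq_mul.2 (Subgroup.mem_centralizer_iff.1 hn.2 b hb).symm))

end Ctx

end Cfsg.Agent.MclThree
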