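import Cfsg.Agent.Lib.Recognition.MclThreeLocal.Two
import Cfsg.Agent.Lib.Recognition.MclThreeLocal.Exc
import Cfsg.Agent.Lib.Recognition.MclThreeLocal.Odd
import Cfsg.Agent.Lib.Recognition.MclThreeLocal.Aut
import Cfsg.Agent.Lib.Fusion.Cores
import Cfsg.Prelude.Def_CaseTheorems

/-!
The identification, given the characterisation of the McLaughlin group by the centraliser of an involution.
-/

set_option autoImplicit false
set_option linter.unusedSectionVars false
set_option synthInstance.maxSize 2000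
set_option maxRecDepth 100000
set_option maxHeartbeats 1000000

namespace Cfsg.Agent.MclThree

open Equiv

universe u

/-- a double cover in which the involution is a square does not split -/
theorem double_cover {H : Type u} [Group H] [Finite H] (π : H →* alternatingGroup (Fin 8))
    (hs : Function.Surjective π) {t : H} (ht : t * t = 1) (ht1 : t ≠ 1) (hk : ∀ x, π x = 1 ↔ x = 1 ∨ x = t)
    {u : H} (hu : u * u = t) : Cfsg.IsNonsplitDoubleCover H (alternatingGroup (Fin 8)) := by
  have hcomm : ∀ g, g * t = t * g := fun g => by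
    have h1 : π (g * t * g⁻¹) = 1 := by rw [map_mul, map_mul, (hk t).2 (Or.inr rfl), mul_one, ← map_mul, mul_inv_cancel, map_one]
    rcases (hk _).1 h1 with h | h
    · exact absurd (conj_eq_one_iff.1 h) ht1
    · exact mul_inv_eq_iff_eq_mul.1 h
  have hc : Subgroup.center H = π.ker := by
    refine le_antisymm (fun x hx => ?_) fun x hx => Subgroup.mem_center_iff.2 fun g => ?_
    · have hm : π x ∈ Subgroup.center (alternatingGroup (Fin 8)) := Subgroup.mem_center_iff.2 fun q => by
        obtain ⟨g, rfl⟩ := hs q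
        rw [← map_mul, ← map_mul, Subgroup.mem_center_iff.1 hx g]
      rw [alternatingGroup.center_eq_bot (by rw [Nat.card_fin]; norm_num), Subgroup.mem_bot] at hm
      exact hm
    · rcases (hk x).1 hx with rfl | rfl
      · simp
      · exact hcomm g
  have hcard : Nat.card π.ker = 2 := by
    haveI : Fact (Nat.Prime 2) := ⟨Nat.prime_two⟩
    have e : π.ker = Subgroup.zpowers t := by
      refine le_antisymm (fun x hx => ?_) (Subgroup.zpowers_le.2 ((hk t).2 (Or.inr rfl)))
      rcases (hk x).1 hx with rfl | rfl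
      · exact one_mem _
      · exact Subgroup.mem_zpowers _
    rw [e, Nat.card_zpowers, orderOf_eq_prime (by rw [pow_two, ht]) ht1]
  refine ⟨hc ▸ hcard, ⟨(QuotientGroup.quotientMulEquivOfEq hc).trans (QuotientGroup.quotientKerEquivOfSurjective π hs)⟩,
    fun L hL => ?_⟩
  have hi : L.index = 2 := by rw [hL.index_eq_card, hc, hcard]
  have h2 : t ∈ L := hu ▸ Subgroup.mul_self_mem_of_index_two hi u
  exact ht1 (Subgroup.disjoint_def.1 hL.disjoint (hc ▸ (hk t).2 (Or.inr rfl)) h2)

variable {G : Type u} [Group G] [Finite G] {D : Data G}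

/-- the interface to the characterisation by the centraliser of an involution -/
def MclInv : Prop :=
  ∀ (X : Type u) [Group X] [Finite X] (t : X), orderOf t = 2 →
    Cfsg.IsNonsplitDoubleCover (Subgroup.centralizer ({t} : Set X)) (alternatingGroup (Fin 8)) →
    Subgroup.centralizer ({t} : Set X) ⊔ Cfsg.oddCore X = ⊤ ∨ Nonempty (X ≃* Cfsg.Spor.McL)

namespace Ctx

variable {C : Ctx D}

/-- a normal subgroup in which the centraliser of the involution is the double cover -/
theorem sub_mcl (h34 : MclInv.{u}) (N : Subgroup G) [hN : N.Normal] (hJ : D.J ≤ N) (ht : (C.t : G) ∈ N)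
    (φ : C.Ct →* Perm (Fin 8)) (hk : ∀ x, φ x = 1 ↔ (x : G) = 1 ∨ (x : G) = C.t)
    (heven : ∀ x : C.Ct, (x : G) ∈ N → Perm.sign (φ x) = 1)
    (hlift : ∀ σ, Perm.sign σ = 1 → ∃ x : C.Ct, (x : G) ∈ N ∧ φ x = σ)
    (huN : ∃ u : C.Ct, (u : G) ∈ N ∧ (u : G) * u = C.t) : Nonempty (N ≃* Cfsg.Spor.McL) := by
  set tN : N := ⟨C.t, ht⟩ with htN
  have hmem : ∀ x : Subgroup.centralizer ({tN} : Set N), ((x : N) : G) ∈ C.Ct := fun x =>
    mem_Ct.2 (congrArg Subtype.val (Subgroup.mem_centralizer_singleton_iff.1 x.2))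
  let ι : Subgroup.centralizer ({tN} : Set N) →* C.Ct :=
    { toFun := fun x => ⟨((x : N) : G), hmem x⟩
      map_one' := rfl
      map_mul' := fun _ _ => rfl }
  let π : Subgroup.centralizer ({tN} : Set N) →* alternatingGroup (Fin 8) :=
    (φ.comp ι).codRestrict _ fun x => Perm.mem_alternatingGroup.2 (heven (ι x) (x : N).2)
  set t0 : Subgroup.centralizer ({tN} : Set N) := ⟨tN, Subgroup.mem_centralizer_singleton_iff.2 rfl⟩ with ht0
  have hπs : Function.Surjective π := fun σ => by
    obtain ⟨x, hxN, hx⟩ := hlift σ σ.2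
    exact ⟨⟨⟨x, hxN⟩, Subgroup.mem_centralizer_singleton_iff.2 (Subtype.ext (mem_Ct.1 x.2))⟩, Subtype.ext hx⟩
  have hπk : ∀ x, π x = 1 ↔ x = 1 ∨ x = t0 := fun x => by
    rw [← Subtype.val_inj]
    show φ (ι x) = 1 ↔ _
    rw [hk]
    exact ⟨fun h => h.imp (fun e => Subtype.ext (Subtype.ext e)) (fun e => Subtype.ext (Subtype.ext e)),
      fun h => h.imp (fun e => by rw [e]; rfl) (fun e => by rw [e]; rfl)⟩
  obtain ⟨u, huN', hut⟩ := huN
  have hcov := double_cover π hπs (t := t0) (Subtype.ext (Subtype.ext C.t_sq))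
    (fun e => C.t_ne (congrArg (fun x : Subgroup.centralizer ({tN} : Set N) => ((x : N) : G)) e)) hπk
    (u := ⟨⟨u, huN'⟩, Subgroup.mem_centralizer_singleton_iff.2 (Subtype.ext (mem_Ct.1 u.2))⟩)
    (Subtype.ext (Subtype.ext hut))
  refine (h34 N tN (by rw [← Subgroup.orderOf_coe]; exact C.order_t) hcov).resolve_left fun htop => ?_
  -- the odd core of the subgroup is normal in the group
  have hO : Cfsg.oddCore N = ⊥ := by
    haveI hOn : (Cfsg.oddCore N).Normal := Subgroup.sSup_normal _ (fun _ h => h.1)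
    have hco : (Nat.card (Cfsg.oddCore N)).Coprime 2 := Fusion.card_pPrimeCore_coprime 2 N
    haveI : ((Cfsg.oddCore N).map N.subtype).Normal := ⟨by
      rintro _ ⟨o, ho, rfl⟩ g
      haveI := hOn.map (MulAut.conjNormal (H := N) g).toMonoidHom (MulAut.conjNormal (H := N) g).surjective
      have hle := Fusion.le_pPrimeCore (p := 2) (N := (Cfsg.oddCore N).map (MulAut.conjNormal (H := N) g).toMonoidHom)
        (by rw [Subgroup.card_map_of_injective (MulEquiv.injective _)]; exact hco)
      exact ⟨_, hle ⟨o, ho, rfl⟩, by simp⟩⟩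
    have h := C.odd_normal_bot ((Cfsg.oddCore N).map N.subtype)
      (by rw [Subgroup.card_map_of_injective N.subtype_injective]; exact hco)
    exact Subgroup.map_injective N.subtype_injective (h.trans (Subgroup.map_bot _).symm)
  rw [hO, sup_bot_eq] at htop
  set v : V4 := ((0 : ZMod 3), (1 : ZMod 3), (0 : ZMod 3), (0 : ZMod 3)) with hv
  have hvc : (⟨C.vec v, hJ (C.vec_mem v)⟩ : N) ∈ Subgroup.centralizer ({tN} : Set N) := htop ▸ Subgroup.mem_top _
  have e : C.vec v * C.t = C.t * C.vec v := congrArg Subtype.val (Subgroup.mem_centralizer_singleton_iff.1 hvc)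
  exact absurd (C.fixed_t (v := v) (by rw [← e, mul_inv_cancel_right])).1 one_ne_zero

end Ctx

/-- the identification -/
theorem main (h34 : MclInv.{u}) (D : Data G) :
    Nonempty (G ≃* Cfsg.Spor.McL) ∨ Nonempty (G ≃* MulAut Cfsg.Spor.McL) := by
  obtain ⟨C⟩ := exists_ctx D
  obtain ⟨u, U, hu, hut, -, -⟩ := C.exists_u
  by_cases hc : C.IsEven'
  · obtain ⟨e⟩ := Ctx.top_even hc
    left
    set φ : C.Ct →* Perm (Fin 8) := (alternatingGroup (Fin 8)).subtype.comp (e.toMonoidHom.comp C.πh) with hφ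
    have hk : ∀ x, φ x = 1 ↔ (x : G) = 1 ∨ (x : G) = C.t := fun x => by
      show ((e (C.πh x) : alternatingGroup (Fin 8)) : Perm (Fin 8)) = 1 ↔ _
      rw [OneMemClass.coe_eq_one, e.map_eq_one_iff, Ctx.πh_one]
    obtain ⟨f⟩ := Ctx.sub_mcl (C := C) h34 (⊤ : Subgroup G) le_top trivial φ hk
      (fun x _ => Perm.mem_alternatingGroup.1 (e (C.πh x)).2)
      (fun σ hσ => by
        obtain ⟨x, hx⟩ := QuotientGroup.mk'_surjective C.T (e.symm ⟨σ, hσ⟩)
        refine ⟨x, trivial, ?_⟩
        show ((e (C.πh x) : alternatingGroup (Fin 8)) : Perm (Fin 8)) = σ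
        rw [show C.πh x = _ from hx, e.apply_symm_apply])
      ⟨⟨u, Ctx.mem_Ct.2 (C.K_t hu)⟩, trivial, hut⟩
    exact ⟨Subgroup.topEquiv.symm.trans f⟩
  · obtain ⟨e⟩ := (Ctx.top_odd hc).resolve_right Ctx.exc_false
    right
    obtain ⟨N, hN, hmem⟩ := Ctx.exists_N hc e
    haveI := Subgroup.normal_of_index_eq_two hN
    have hJ : D.J ≤ N := fun j hj => by
      have h3 : j ^ 3 ∈ N := by rw [D.Je j hj]; exact one_mem _
      have h2 : j ^ 2 ∈ N := by rw [pow_two]; exact Subgroup.mul_self_mem_of_index_two hN j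
      rw [pow_succ] at h3
      have := mul_mem (inv_mem h2) h3
      rwa [inv_mul_cancel_left] at this
    have ht : (C.t : G) ∈ N := by
      refine (hmem ⟨C.t, Ctx.mem_Ct.2 rfl⟩).2 ?_
      rw [show C.πh ⟨C.t, Ctx.mem_Ct.2 rfl⟩ = 1 from Ctx.πh_one.2 (Or.inr rfl), map_one, map_one]
    have huN : (u : G) ∈ N := by
      refine (hmem ⟨u, Ctx.mem_Ct.2 (C.K_t hu)⟩).2 ?_
      have h := Ctx.K_kill (C := C) ((Perm.sign.comp (e.toMonoidHom.comp C.πh)).comp
        (Subgroup.inclusion fun k hk => Ctx.mem_Ct.2 (C.K_t hk))) ⟨u, hu⟩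
      simp only [MonoidHom.comp_apply] at h
      exact h
    obtain ⟨f⟩ := Ctx.sub_mcl (C := C) h34 N hJ ht (e.toMonoidHom.comp C.πh)
      (fun x => e.map_eq_one_iff.trans Ctx.πh_one) (fun x hx => (hmem x).1 hx)
      (fun σ hσ => by
        obtain ⟨x, hx⟩ := QuotientGroup.mk'_surjective C.T (e.symm σ)
        have hxσ : e (C.πh x) = σ := by rw [show C.πh x = _ from hx, e.apply_symm_apply]
        exact ⟨x, (hmem x).2 (by rw [hxσ]; exact hσ), hxσ⟩)
      ⟨⟨u, Ctx.mem_Ct.2 (C.K_t hu)⟩, huN, hut⟩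
    refine aut_mcl N hN f ?_
    have hle : Subgroup.centralizer (N : Set G) ≤ D.J := fun x hx =>
      D.cent_J fun a ha => Subgroup.mem_centralizer_iff.1 hx a (hJ ha)
    refine C.odd_normal_bot _ ?_
    obtain ⟨k, -, hk⟩ := (Nat.dvd_prime_pow Nat.prime_three (m := 4)).1
      (show Nat.card (Subgroup.centralizer (N : Set G)) ∣ 3 ^ 4 by
        rw [show 3 ^ 4 = Nat.card D.J by rw [D.hJ]; norm_num]; exact Subgroup.card_dvd_of_le hle)
    rw [hk]
    exact Nat.Coprime.pow_left k (by norm_num)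

end Cfsg.Agent.MclThree
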