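import Cfsg.Agent.Lib.Recognition.MclThreeLocal.Sl25

/-!
A group with a normal subgroup, containing its centralizer, isomorphic to the special linear group of
degree two over five elements: all elements of order a power of three lie in that subgroup.
-/

set_option autoImplicit false
set_option maxRecDepth 100000
set_option synthInstance.maxSize 2000

namespace Cfsg.Agent.MclThree

open scoped commutatorElement

/-- the quadruples of determinant one -/
def detSet : Finset M4 := Finset.univ.filter det4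

/-- the candidates for the first generator -/
def fourSet : Finset M4 := detSet.filter fun x => m4 x x = (4, 0, 0, 4)

/-- the candidates for the second generator -/
def fiveSet : Finset M4 :=
  detSet.filter fun x => m4 x (m4 x (m4 x (m4 x x))) = (1, 0, 0, 1) ∧ x ≠ (1, 0, 0, 1)

/-- the possible images of the two generators -/
def pairSet : Finset (M4 × M4) :=
  (fourSet ×ˢ fiveSet).filter fun p =>
    m4 (m4 p.1 p.2) (m4 (m4 p.1 p.2) (m4 p.1 p.2)) = (4, 0, 0, 4)

theorem pairSet_card : pairSet.card ≤ 120 := by decide +kernel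

theorem m4_gen_rels : m4 (0, 4, 1, 0) (0, 4, 1, 0) = (4, 0, 0, 4) ∧
    m4 (1, 1, 0, 1) (m4 (1, 1, 0, 1) (m4 (1, 1, 0, 1) (m4 (1, 1, 0, 1) (1, 1, 0, 1)))) = (1, 0, 0, 1) ∧
    m4 (m4 (0, 4, 1, 0) (1, 1, 0, 1))
      (m4 (m4 (0, 4, 1, 0) (1, 1, 0, 1)) (m4 (0, 4, 1, 0) (1, 1, 0, 1))) = (4, 0, 0, 4) ∧
    det4 (0, 4, 1, 0) ∧ det4 (1, 1, 0, 1) ∧ (1, 1, 0, 1) ≠ ((1, 0, 0, 1) : M4) := by
  decide +kernel

/-- upper unitriangular -/
def upM (x : ZMod 5) : M4 := (1, x, 0, 1)

/-- lower unitriangular -/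
def loM (x : ZMod 5) : M4 := (1, 0, x, 1)

theorem m4_decomp : ∀ x : M4, det4 x →
    ∃ a b c d : ZMod 5, x = m4 (m4 (upM a) (loM b)) (m4 (upM c) (loM d)) := by
  decide +kernel

theorem loM_conj : ∀ a : ZMod 5, m4 (0, 4, 1, 0) (upM a) = m4 (loM (-a)) (0, 4, 1, 0) := by
  decide +kernel

theorem upM_step : ∀ a : ZMod 5, m4 (upM a) (1, 1, 0, 1) = upM (a + 1) := by decide +kernel

theorem sl_gen : ∃ s t : SL5, ent s = (0, 4, 1, 0) ∧ ent t = (1, 1, 0, 1) ∧
    Subgroup.closure ({s, t} : Set SL5) = ⊤ := by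
  obtain ⟨-, -, -, hs, ht, -⟩ := m4_gen_rels
  obtain ⟨s, hs'⟩ := ent_surj hs
  obtain ⟨t, ht'⟩ := ent_surj ht
  refine ⟨s, t, hs', ht', ?_⟩
  set K := Subgroup.closure ({s, t} : Set SL5)
  have hsK : s ∈ K := Subgroup.subset_closure (Set.mem_insert _ _)
  have htK : t ∈ K := Subgroup.subset_closure (Set.mem_insert_of_mem _ rfl)
  have hup : ∀ a : ZMod 5, ∃ g ∈ K, ent g = upM a := by
    intro a
    obtain ⟨n, rfl⟩ : ∃ n : ℕ, (n : ZMod 5) = a := ⟨a.val, ZMod.natCast_zmod_val a⟩
    induction n with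
    | zero => exact ⟨1, one_mem _, by simp [ent_one, upM]⟩
    | succ n ih =>
      obtain ⟨g, hg, e⟩ := ih
      exact ⟨g * t, mul_mem hg htK, by rw [ent_mul, e, ht', upM_step, Nat.cast_succ]⟩
  have hlo : ∀ a : ZMod 5, ∃ g ∈ K, ent g = loM a := by
    intro a
    obtain ⟨g, hg, e⟩ := hup (-a)
    have hdl : det4 (loM a) := by simp [det4, loM]
    obtain ⟨l, hl⟩ := ent_surj hdl
    have hsl : s * g = l * s := ent_inj (by rw [ent_mul, ent_mul, hs', e, hl, loM_conj, neg_neg])
    refine ⟨l, ?_, hl⟩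
    rw [show l = s * g * s⁻¹ by rw [hsl, mul_inv_cancel_right]]
    exact mul_mem (mul_mem hsK hg) (inv_mem hsK)
  refine eq_top_iff.2 fun x _ => ?_
  obtain ⟨a, b, c, d, e⟩ := m4_decomp _ (ent_det x)
  obtain ⟨g1, h1, e1⟩ := hup a
  obtain ⟨g2, h2, e2⟩ := hlo b
  obtain ⟨g3, h3, e3⟩ := hup c
  obtain ⟨g4, h4, e4⟩ := hlo d
  rw [show x = g1 * g2 * (g3 * g4) from ent_inj (by rw [ent_mul, ent_mul, ent_mul, e1, e2, e3, e4, e])]
  exact mul_mem (mul_mem h1 h2) (mul_mem h3 h4)

theorem sl_card_aut : Nat.card (MulAut SL5) ≤ 120 := by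
  obtain ⟨s, t, hs, ht, hgen⟩ := sl_gen
  obtain ⟨r1, r2, r3, -, -, hne⟩ := m4_gen_rels
  have hmem : ∀ σ : MulAut SL5, (ent (σ s), ent (σ t)) ∈ pairSet := by
    intro σ
    have hneg : σ (-1) = -1 := by
      have hsq : (-1 : SL5) * -1 = 1 := by simp
      rcases sl_invol (g := σ (-1)) (by rw [← map_mul, hsq, map_one]) with e | e
      · exact absurd (σ.injective (e.trans (map_one σ).symm)) sl_neg_ne
      · exact e
    have q1 : ent (σ s * σ s) = (4, 0, 0, 4) := by
      rw [← map_mul, show s * s = -1 from ent_inj (by rw [ent_mul, hs, r1, ent_neg]), hneg, ent_neg]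
    have q2 : ent (σ t * (σ t * (σ t * (σ t * σ t)))) = (1, 0, 0, 1) := by
      rw [← map_mul, ← map_mul, ← map_mul, ← map_mul,
        show t * (t * (t * (t * t))) = 1 from
          ent_inj (by rw [ent_mul, ent_mul, ent_mul, ent_mul, ht, r2, ent_one]),
        map_one, ent_one]
    have q3 : ent (σ s * σ t * (σ s * σ t * (σ s * σ t))) = (4, 0, 0, 4) := by
      rw [← map_mul, ← map_mul, ← map_mul,
        show s * t * (s * t * (s * t)) = -1 from
          ent_inj (by simp only [ent_mul, hs, ht]; rw [r3, ent_neg]),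
        hneg, ent_neg]
    rw [ent_mul] at q1
    rw [ent_mul, ent_mul, ent_mul, ent_mul] at q2
    simp only [ent_mul] at q3
    simp only [pairSet, fourSet, fiveSet, detSet, Finset.mem_filter, Finset.mem_product,
      Finset.mem_univ, true_and]
    refine ⟨⟨⟨ent_det _, q1⟩, ent_det _, q2, fun e => hne ?_⟩, q3⟩
    have h1 : σ t = σ 1 := by rw [map_one]; exact ent_inj (e.trans ent_one.symm)
    rw [← ht, σ.injective h1, ent_one]
  let F : MulAut SL5 → pairSet := fun σ => ⟨(ent (σ s), ent (σ t)), hmem σ⟩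
  have hF : Function.Injective F := by
    intro σ τ h
    have h' : (ent (σ s), ent (σ t)) = (ent (τ s), ent (τ t)) := congrArg Subtype.val h
    simp only [Prod.mk.injEq] at h'
    have hh : Set.EqOn σ.toMonoidHom τ.toMonoidHom ({s, t} : Set SL5) := by
      rintro x (rfl | rfl)
      exacts [ent_inj h'.1, ent_inj h'.2]
    have := MonoidHom.eqOn_closure hh
    rw [hgen] at this
    exact MulEquiv.ext fun x => this (Subgroup.mem_top x)
  calc Nat.card (MulAut SL5) ≤ Nat.card pairSet := Nat.card_le_card_of_injective F hF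
    _ = pairSet.card := Nat.card_eq_finsetCard pairSet
    _ ≤ 120 := pairSet_card

/-- A normal subgroup containing the elements of order three of the special linear group is everything. -/
theorem sl_eq_top_of_three {H : Subgroup SL5} [H.Normal]
    (h3 : ∀ g : SL5, g ^ 3 = 1 → g ∈ H) : H = ⊤ := by
  obtain ⟨π, hπ, hk⟩ := exists_pi
  haveI : IsSimpleGroup (alternatingGroup (Fin 5)) := alternatingGroup.isSimpleGroup (by simp)
  haveI : (H.map π).Normal := Subgroup.Normal.map inferInstance π hπ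
  have htop : H.map π = ⊤ := by
    refine (Subgroup.Normal.eq_bot_or_eq_top inferInstance).resolve_left fun hb => ?_
    haveI : Fact (Nat.Prime 3) := ⟨Nat.prime_three⟩
    obtain ⟨g, hg⟩ := exists_prime_orderOf_dvd_card' (G := SL5) 3 (by rw [sl_card]; norm_num)
    have hg3 : g ^ 3 = 1 := hg ▸ pow_orderOf_eq_one g
    have : π g ∈ H.map π := Subgroup.mem_map_of_mem π (h3 g hg3)
    rw [hb, Subgroup.mem_bot, hk] at this
    rcases this with rfl | rfl
    · simp at hg
    · have : orderOf (-1 : SL5) ∣ 2 := orderOf_dvd_of_pow_eq_one (by rw [pow_two]; simp)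
      rw [hg] at this; omega
  refine eq_top_iff.2 (sl_perfect ▸ ?_)
  rw [_root_.commutator_def, Subgroup.commutator_le]
  intro a _ b _
  have hsplit : ∀ x : SL5, ∃ h ∈ H, ∃ c : SL5, (∀ y, c * y = y * c) ∧ x = h * c := by
    intro x
    obtain ⟨h, hh, e⟩ : π x ∈ H.map π := htop ▸ Subgroup.mem_top _
    refine ⟨h, hh, h⁻¹ * x, ?_, by group⟩
    rcases (hk (h⁻¹ * x)).1 (by rw [map_mul, map_inv, e, inv_mul_cancel]) with e1 | e1 <;> rw [e1]
    · simp
    · exact sl_neg_comm
  obtain ⟨h, hh, c, hc, rfl⟩ := hsplit a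
  obtain ⟨k, hk', d, hd, rfl⟩ := hsplit b
  have : ⁅h * c, k * d⁆ = ⁅h, k⁆ := by
    rw [commutatorElement_def, commutatorElement_def, mul_inv_rev, mul_inv_rev]
    calc h * c * (k * d) * (c⁻¹ * h⁻¹) * (d⁻¹ * k⁻¹)
        = h * (c * (k * d) * c⁻¹) * (h⁻¹ * d⁻¹) * k⁻¹ := by group
      _ = h * (k * d) * (h⁻¹ * d⁻¹) * k⁻¹ := by rw [hc (k * d), mul_inv_cancel_right]
      _ = h * k * (d * h⁻¹ * d⁻¹) * k⁻¹ := by group
      _ = h * k * h⁻¹ * k⁻¹ := by rw [hd h⁻¹, mul_inv_cancel_right]
  rw [this, commutatorElement_def]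
  exact mul_mem (mul_mem (mul_mem hh hk') (inv_mem hh)) (inv_mem hk')

/-- The elements of order a power of three of the ambient group generate the subgroup. -/
theorem closure_three {X : Type*} [Group X] [Finite X] (E : Subgroup X) [E.Normal] (e : E ≃* SL5)
    (hC : Subgroup.centralizer (E : Set X) ≤ E) :
    Subgroup.closure {x : X | ∃ k : ℕ, x ^ 3 ^ k = 1} = E := by
  set f : X →* MulAut SL5 := (MulAut.congr e).toMonoidHom.comp (MulAut.conjNormal (H := E)) with hf
  haveI : Finite (MulAut SL5) :=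
    Finite.of_injective (fun σ => (σ : SL5 → SL5)) DFunLike.coe_injective
  have hker : ∀ x : X, x ∈ f.ker → ∃ h : x ∈ E, e ⟨x, h⟩ = 1 ∨ e ⟨x, h⟩ = -1 := by
    intro x hx
    have hx' : MulAut.conjNormal (H := E) x = 1 :=
      (MulAut.congr e).map_eq_one_iff.1 (MonoidHom.mem_ker.1 hx)
    have hcom : ∀ y : E, x * y * x⁻¹ = y := fun y => by
      have := congrArg Subtype.val (DFunLike.congr_fun hx' y)
      simpa [MulAut.conjNormal_apply] using this
    have hxE : x ∈ E := hC (Subgroup.mem_centralizer_iff.2 fun y hy =>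
      (mul_inv_eq_iff_eq_mul.1 (hcom ⟨y, hy⟩)).symm)
    refine ⟨hxE, sl_central fun g => ?_⟩
    have h1 := congrArg e (Subtype.ext (mul_inv_eq_iff_eq_mul.1 (hcom (e.symm g))) :
      (⟨x, hxE⟩ : E) * e.symm g = e.symm g * ⟨x, hxE⟩)
    rwa [map_mul, map_mul, e.apply_symm_apply] at h1
  have hker2 : Nat.card f.ker ≤ 2 := by
    classical
    let κ : f.ker → ({1, -1} : Finset SL5) := fun x =>
      ⟨e ⟨x, (hker x x.2).choose⟩, by
        rcases (hker x x.2).choose_spec with h | h <;> rw [h] <;> simp⟩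
    have hκ : Function.Injective κ := fun x y h => by
      have h' : e ⟨x, (hker x x.2).choose⟩ = e ⟨y, (hker y y.2).choose⟩ := congrArg Subtype.val h
      have := congrArg Subtype.val (e.injective h')
      exact Subtype.ext this
    refine (Nat.card_le_card_of_injective κ hκ).trans ?_
    rw [Nat.card_eq_finsetCard]
    exact Finset.card_le_two
  have hX : Nat.card X ≤ 240 := by
    rw [← Subgroup.card_mul_index f.ker, Subgroup.index_ker]
    exact Nat.mul_le_mul hker2 ((Subgroup.card_le_card_group _).trans sl_card_aut)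
  have hE : Nat.card E = 120 := (Nat.card_congr e.toEquiv).trans sl_card
  have hidx : E.index ≤ 2 := by
    have := Subgroup.card_mul_index E
    rw [hE] at this
    omega
  have hmemE : ∀ x : X, (∃ k : ℕ, x ^ 3 ^ k = 1) → x ∈ E := by
    rintro x ⟨k, hk⟩
    have h2 : x ^ 2 ∈ E := by
      have h0 : E.index ≠ 0 := Subgroup.index_ne_zero_of_finite
      by_cases h1 : E.index = 1
      · rw [Subgroup.index_eq_one] at h1; rw [h1]; trivial
      · exact Subgroup.sq_mem_of_index_two (by omega : E.index = 2) x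
    obtain ⟨m, hm⟩ : Odd (3 ^ k) := Odd.pow (by decide)
    have : x = (x ^ 2) ^ (m + 1) := by
      rw [← pow_mul, show 2 * (m + 1) = 3 ^ k + 1 by omega, pow_succ, hk, one_mul]
    rw [this]
    exact pow_mem h2 _
  refine le_antisymm ((Subgroup.closure_le _).2 hmemE) fun y hy => ?_
  set H : Subgroup SL5 := ((Subgroup.closure {x : X | ∃ k : ℕ, x ^ 3 ^ k = 1}).subgroupOf E).map e.toMonoidHom
    with hH
  haveI : (Subgroup.closure {x : X | ∃ k : ℕ, x ^ 3 ^ k = 1}).Normal := by
    refine ⟨fun a ha g => ?_⟩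
    have hmap : (Subgroup.closure {x : X | ∃ k : ℕ, x ^ 3 ^ k = 1}).map (MulAut.conj g).toMonoidHom ≤
        Subgroup.closure {x : X | ∃ k : ℕ, x ^ 3 ^ k = 1} := by
      rw [MonoidHom.map_closure, Subgroup.closure_le]
      rintro _ ⟨x, ⟨k, hk⟩, rfl⟩
      exact Subgroup.subset_closure ⟨k, by rw [← map_pow, hk, map_one]⟩
    exact hmap ⟨a, ha, by simp⟩
  haveI : H.Normal := Subgroup.Normal.map inferInstance _ e.surjective
  have htop : H = ⊤ := sl_eq_top_of_three fun g hg => ⟨e.symm g,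
    Subgroup.subset_closure ⟨1, by
      rw [pow_one, Subgroup.coe_subtype, ← Subgroup.coe_pow, ← map_pow, hg, map_one, Subgroup.coe_one]⟩, e.apply_symm_apply g⟩
  obtain ⟨z, hz, e1⟩ : e ⟨y, hy⟩ ∈ H := htop ▸ Subgroup.mem_top _
  have := e.injective e1
  rw [this] at hz
  exact hz

end Cfsg.Agent.MclThree
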