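import Cfsg.Agent.Lib.Recognition.MclThreeLocal.Base
import Cfsg.Agent.Lib.Recognition.MclThreeLocal.SlAut
import Cfsg.Agent.Lib.Fusion.LocalConstrained
import Cfsg.Agent.Lib.Solv.TwoRankAbelian.Cores
import Cfsg.Agent.Lib.Solv.Extraspecial
import Cfsg.Agent.Lib.Spor.M24RelPairGfit
import Cfsg.Agent.Lib.Lie.McLaughlinOut.Points
import Cfsg.Prelude.Def_Amalgam
import Cfsg.Prelude.Def_Spor_Conway

/-!
The configuration of McLaughlin type from the hypotheses of the three recognition statements, and the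
generalized Fitting subgroup of the McLaughlin group and of its automorphism group.
-/

set_option autoImplicit false
set_option linter.unusedSectionVars false

namespace Cfsg.Agent.MclThree

open scoped commutatorElement

universe u

variable {G : Type u} [Group G] [Finite G]

/-- The subgroup generated by the elements of three-power order of a normalizer. -/
def gen3 (H : Subgroup G) : Subgroup G :=
  Subgroup.closure {g : G | g ∈ Subgroup.normalizer (H : Set G) ∧ ∃ k : ℕ, orderOf g = 3 ^ k}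

theorem orderOf_three_iff {X : Type*} [Monoid X] {g : X} :
    (∃ k : ℕ, orderOf g = 3 ^ k) ↔ ∃ k : ℕ, g ^ 3 ^ k = 1 := by
  constructor
  · rintro ⟨k, hk⟩
    exact ⟨k, hk ▸ pow_orderOf_eq_one g⟩
  · rintro ⟨k, hk⟩
    obtain ⟨j, -, hj⟩ := (Nat.dvd_prime_pow Nat.prime_three).1 (orderOf_dvd_of_pow_eq_one hk)
    exact ⟨j, hj⟩

theorem gen3_le (H : Subgroup G) : gen3 H ≤ Subgroup.normalizer (H : Set G) :=
  (Subgroup.closure_le _).2 fun _ hg => hg.1

theorem gen3_mem {H : Subgroup G} {g : G} (hg : g ∈ Subgroup.normalizer (H : Set G))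
    (h : ∃ k : ℕ, g ^ 3 ^ k = 1) : g ∈ gen3 H :=
  Subgroup.subset_closure ⟨hg, orderOf_three_iff.2 h⟩

theorem gen3_conj (H : Subgroup G) :
    Subgroup.normalizer (H : Set G) ≤ Subgroup.normalizer (gen3 H : Set G) := by
  intro g hg
  have key : ∀ n ∈ Subgroup.normalizer (H : Set G), ∀ x ∈ gen3 H, n * x * n⁻¹ ∈ gen3 H := by
    intro n hn x hx
    induction hx using Subgroup.closure_induction with
    | mem y hy =>
      refine Subgroup.subset_closure ⟨mul_mem (mul_mem hn hy.1) (inv_mem hn), orderOf_three_iff.2 ?_⟩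
      obtain ⟨k, hk⟩ := orderOf_three_iff.1 hy.2
      exact ⟨k, by rw [conj_pow, hk, mul_one, mul_inv_cancel]⟩
    | one => simp
    | mul a b _ _ ha hb =>
      rw [show n * (a * b) * n⁻¹ = n * a * n⁻¹ * (n * b * n⁻¹) by group]; exact mul_mem ha hb
    | inv a _ ha =>
      rw [show n * a⁻¹ * n⁻¹ = (n * a * n⁻¹)⁻¹ by group]; exact inv_mem ha
  refine Subgroup.mem_normalizer_iff.2 fun x => ⟨key g hg x, fun hx => ?_⟩
  have := key g⁻¹ (inv_mem hg) _ hx
  simpa [mul_assoc] using this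

/-- The map from a subgroup onto a quotient, composed with an isomorphism. -/
theorem exists_hom {L J : Subgroup G} [(J.subgroupOf L).Normal] {X : Type*} [Group X]
    (e : L ⧸ J.subgroupOf L ≃* X) :
    ∃ f : L →* X, Function.Surjective f ∧ ∀ l : L, f l = 1 ↔ (l : G) ∈ J := by
  refine ⟨e.toMonoidHom.comp (QuotientGroup.mk' _), e.surjective.comp (QuotientGroup.mk'_surjective _),
    fun l => ?_⟩
  rw [MonoidHom.comp_apply, MulEquiv.coe_toMonoidHom, e.map_eq_one_iff, QuotientGroup.mk'_apply,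
    QuotientGroup.eq_one_iff, Subgroup.mem_subgroupOf]

/-- An abelian subgroup of an extraspecial group of order `3⁵` has order at most `27`. -/
theorem abelian_le {P : Type u} [Group P] [Finite P] (hP : Cfsg.IsExtraspecial 3 P) (hc : Nat.card P = 243)
    (A : Subgroup P) (hA : ∀ a ∈ A, ∀ b ∈ A, a * b = b * a) : Nat.card A ≤ 27 := by
  by_contra hlt
  obtain ⟨k, hk, e⟩ := (Nat.dvd_prime_pow Nat.prime_three (m := 5)).1
    (show Nat.card A ∣ 3 ^ 5 from (show 3 ^ 5 = Nat.card P by rw [hc]; norm_num) ▸ Subgroup.card_subgroup_dvd_card A)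
  have hk4 : 4 ≤ k := by
    by_contra hk'
    have := Nat.pow_le_pow_right (show 1 ≤ 3 by norm_num) (show k ≤ 3 by omega)
    rw [e] at hlt
    omega
  obtain ⟨c, a₀, ha₀, hca⟩ : ∃ c a₀ : P, a₀ ∈ A ∧ c * a₀ ≠ a₀ * c := by
    by_contra h
    push Not at h
    have hle : A ≤ Subgroup.center P := fun a ha => Subgroup.mem_center_iff.2 fun c => h c a ha
    have := Subgroup.card_le_of_le hle
    rw [hP.2] at this
    omega
  have hcA : c ∉ A := fun h => hca (hA c h a₀ ha₀)
  have hgen : A ⊔ Subgroup.zpowers c = ⊤ := by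
    have hlt' : A < A ⊔ Subgroup.zpowers c := lt_of_le_of_ne le_sup_left fun e'' =>
      hcA (e''.symm ▸ Subgroup.mem_sup_right (Subgroup.mem_zpowers c))
    obtain ⟨j, hj, ej⟩ := (Nat.dvd_prime_pow Nat.prime_three (m := 5)).1
      (show Nat.card (A ⊔ Subgroup.zpowers c : Subgroup P) ∣ 3 ^ 5 from
        (show 3 ^ 5 = Nat.card P by rw [hc]; norm_num) ▸ Subgroup.card_subgroup_dvd_card _)
    have hjk : k < j := by
      by_contra hjk
      exact absurd (Subgroup.eq_of_le_of_card_ge le_sup_left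
        (by rw [e, ej]; exact Nat.pow_le_pow_right (by norm_num) (by omega))) hlt'.ne
    refine Subgroup.eq_top_of_card_eq _ ?_
    rw [ej, show j = 5 by omega, hc]; norm_num
  have hcen : ∀ x y : P, ⁅x, y⁆ ∈ Subgroup.center P := fun x y =>
    hP.1.2.2 ▸ Subgroup.commutator_mem_commutator (Subgroup.mem_top x) (Subgroup.mem_top y)
  let θ : A →* Subgroup.center P :=
    { toFun := fun a => ⟨⁅c, (a : P)⁆, hcen _ _⟩
      map_one' := Subtype.ext (commutatorElement_one_right c)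
      map_mul' := fun a b => Subtype.ext (by
        show ⁅c, (a : P) * b⁆ = ⁅c, (a : P)⁆ * ⁅c, (b : P)⁆
        have h := Subgroup.mem_center_iff.1 (hcen c b) a
        rw [commutatorElement_def, commutatorElement_def]
        rw [commutatorElement_def] at h
        calc c * ((a : P) * b) * c⁻¹ * ((a : P) * b)⁻¹
            = c * a * c⁻¹ * ((c * b * c⁻¹ * (b : P)⁻¹) * (a : P)⁻¹) := by group
          _ = c * a * c⁻¹ * ((a : P)⁻¹ * (a * (c * b * c⁻¹ * (b : P)⁻¹)) * (a : P)⁻¹) := by group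
          _ = c * a * c⁻¹ * ((a : P)⁻¹ * ((c * b * c⁻¹ * (b : P)⁻¹) * a) * (a : P)⁻¹) := by rw [h]
          _ = _ := by group) }
  have hker : Nat.card θ.ker ≤ 3 := by
    have hsub : θ.ker.map A.subtype ≤ Subgroup.center P := by
      rintro _ ⟨b, hb, rfl⟩
      have hb' : ⁅c, (b : P)⁆ = 1 := congrArg Subtype.val (MonoidHom.mem_ker.1 hb)
      refine Subgroup.mem_center_iff.2 fun x => ?_
      have hx : x ∈ A ⊔ Subgroup.zpowers c := hgen ▸ Subgroup.mem_top x
      have hle : A ⊔ Subgroup.zpowers c ≤ Subgroup.centralizer ({(b : P)} : Set P) := by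
        refine sup_le (fun a ha => Subgroup.mem_centralizer_singleton_iff.2 (hA a ha b b.2))
          (Subgroup.zpowers_le.2 (Subgroup.mem_centralizer_singleton_iff.2 ?_))
        exact commutatorElement_eq_one_iff_mul_comm.1 hb'
      exact Subgroup.mem_centralizer_singleton_iff.1 (hle hx)
    have := Subgroup.card_le_of_le hsub
    rwa [Subgroup.card_map_of_injective A.subtype_injective, hP.2] at this
  have hθ : Nat.card θ.range ≤ 3 := (Subgroup.card_le_card_group _).trans_eq hP.2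
  have h9 : Nat.card A ≤ 9 := by
    rw [← Subgroup.card_mul_index θ.ker, Subgroup.index_ker]
    exact (Nat.mul_le_mul hker hθ).trans (le_refl 9)
  omega

theorem Z_comm {S : Sylow 3 G} {Z : Subgroup G}
    (hZ : Z = (S : Subgroup G) ⊓ Subgroup.centralizer ((S : Subgroup G) : Set G))
    {s z : G} (hs : s ∈ (S : Subgroup G)) (hz : z ∈ Z) : s * z = z * s := by
  rw [hZ] at hz
  exact Subgroup.mem_centralizer_iff.1 hz.2 s hs

theorem S_le_norm {S : Sylow 3 G} {Z : Subgroup G}
    (hZ : Z = (S : Subgroup G) ⊓ Subgroup.centralizer ((S : Subgroup G) : Set G)) :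
    (S : Subgroup G) ≤ Subgroup.normalizer (Z : Set G) := fun _ hs =>
  cent_le_norm _ (Subgroup.mem_centralizer_iff.2 fun _ hz => (Z_comm hZ hs hz).symm)

/-- The elements of three-power order normalising the centre of the Sylow subgroup centralise it. -/
theorem gen3_le_cent {S : Sylow 3 G} {Z : Subgroup G}
    (hZ : Z = (S : Subgroup G) ⊓ Subgroup.centralizer ((S : Subgroup G) : Set G)) :
    gen3 Z ≤ Subgroup.centralizer (Z : Set G) := by
  haveI : Fact (Nat.Prime 3) := ⟨Nat.prime_three⟩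
  refine (Subgroup.closure_le _).2 fun g hg => ?_
  obtain ⟨k, hk⟩ := orderOf_three_iff.1 hg.2
  set N := Subgroup.normalizer (Z : Set G)
  set P : Sylow 3 N := S.subtype (S_le_norm hZ)
  have hp : IsPGroup 3 (Subgroup.zpowers (⟨g, hg.1⟩ : N)) := by
    refine IsPGroup.of_card (n := Nat.log 3 (orderOf (⟨g, hg.1⟩ : N))) ?_
    obtain ⟨j, hj⟩ := orderOf_three_iff.2 (⟨k, Subtype.ext hk⟩ : ∃ k : ℕ, (⟨g, hg.1⟩ : N) ^ 3 ^ k = 1)
    rw [Nat.card_zpowers, hj, Nat.log_pow (by norm_num)]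
  obtain ⟨R, hR⟩ := hp.exists_le_sylow
  obtain ⟨n, rfl⟩ := MulAction.exists_smul_eq N P R
  have hmem : (⟨g, hg.1⟩ : N) ∈ ((n • P : Sylow 3 N) : Subgroup N) := hR (Subgroup.mem_zpowers _)
  rw [Sylow.coe_subgroup_smul, Subgroup.mem_pointwise_smul_iff_inv_smul_mem] at hmem
  have hs : (n : G)⁻¹ * g * (n : G) ∈ (S : Subgroup G) := by
    have h' : ((MulAut.conj n)⁻¹ • (⟨g, hg.1⟩ : N) : N).1 ∈ (S : Subgroup G) := hmem
    simpa using h'
  refine Subgroup.mem_centralizer_iff.2 fun z hz => ?_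
  have hz' : (n : G)⁻¹ * z * (n : G) ∈ Z := by simpa using mem_norm (inv_mem n.2) hz
  have h := Z_comm hZ hs hz'
  calc z * g = n * ((n : G)⁻¹ * z * n * ((n : G)⁻¹ * g * n)) * (n : G)⁻¹ := by group
    _ = n * ((n : G)⁻¹ * g * n * ((n : G)⁻¹ * z * n)) * (n : G)⁻¹ := by rw [h]
    _ = g * z := by group

theorem S_le_gen3 {S : Sylow 3 G} {Z : Subgroup G}
    (hZ : Z = (S : Subgroup G) ⊓ Subgroup.centralizer ((S : Subgroup G) : Set G)) :
    (S : Subgroup G) ≤ gen3 Z := fun _ hs => gen3_mem (S_le_norm hZ hs) (three_pow S.2 hs)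

/-- The centre of the Sylow subgroup is the centre of the extraspecial subgroup. -/
theorem Z_facts {S : Sylow 3 G} {Z Q : Subgroup G}
    (hZ : Z = (S : Subgroup G) ⊓ Subgroup.centralizer ((S : Subgroup G) : Set G)) (QS : Q ≤ S)
    (hQ : Cfsg.IsExtraspecial 3 Q) (hQc : Nat.card Q = 243) (ψ : gen3 Z →* SL5)
    (hs : Function.Surjective ψ) (hk : ∀ l : gen3 Z, ψ l = 1 ↔ (l : G) ∈ Q) :
    Z ≤ Q ∧ Nat.card Z = 3 := by
  haveI : Fact (Nat.Prime 3) := ⟨Nat.prime_three⟩
  have hZS : Z ≤ (S : Subgroup G) := hZ ▸ inf_le_left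
  have hZQ : Z ≤ Q := by
    intro z hz
    have hzL : z ∈ gen3 Z := S_le_gen3 hZ (hZS hz)
    refine (hk ⟨z, hzL⟩).1 ?_
    have hcen : ∀ g : SL5, ψ ⟨z, hzL⟩ * g = g * ψ ⟨z, hzL⟩ := by
      intro g
      obtain ⟨l, rfl⟩ := hs g
      rw [← map_mul, ← map_mul]
      exact congrArg ψ (Subtype.ext (Subgroup.mem_centralizer_iff.1 (gen3_le_cent hZ l.2) z hz))
    refine (sl_central hcen).resolve_right fun e => ?_
    obtain ⟨k, hk'⟩ := three_pow S.2 (hZS hz)
    have h1 := congrArg ψ (Subtype.ext hk' : (⟨z, hzL⟩ : gen3 Z) ^ 3 ^ k = 1)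
    rw [map_pow, e, map_one, (Odd.pow (by decide) : Odd (3 ^ k)).neg_one_pow] at h1
    exact sl_neg_ne h1
  refine ⟨hZQ, ?_⟩
  have hle : Z ≤ (Subgroup.center Q).map Q.subtype := fun z hz =>
    ⟨⟨z, hZQ hz⟩, Subgroup.mem_center_iff.2 fun q => Subtype.ext (Z_comm hZ (QS q.2) hz), rfl⟩
  have hne : Z ≠ ⊥ := by
    haveI : Nontrivial (S : Subgroup G) := by
      refine (Subgroup.nontrivial_iff_ne_bot (S : Subgroup G)).2 ?_
      intro e
      have := Subgroup.card_le_of_le (QS.trans e.le)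
      rw [hQc, Subgroup.card_bot] at this
      omega
    obtain ⟨⟨x, hx⟩, hx1⟩ := @exists_ne _ (S.2.center_nontrivial) 1
    intro e
    refine hx1 (Subtype.ext (Subtype.ext ?_))
    have hm : (x : G) ∈ Z := hZ ▸ ⟨x.2, Subgroup.mem_centralizer_iff.2 fun s hs =>
      congrArg Subtype.val (Subgroup.mem_center_iff.1 hx ⟨s, hs⟩)⟩
    rw [e, Subgroup.mem_bot] at hm
    exact hm
  have hc : Nat.card ((Subgroup.center Q).map Q.subtype) = 3 := by
    rw [Subgroup.card_map_of_injective Q.subtype_injective]; exact hQ.2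
  rcases (Nat.dvd_prime Nat.prime_three).1 (hc ▸ Subgroup.card_dvd_of_le hle) with h | h
  · exact absurd (Subgroup.card_eq_one.1 h) hne
  · exact h

/-- The configuration from its parts. -/
theorem mk_data {S : Sylow 3 G} {Z J Q : Subgroup G}
    (hZ : Z = (S : Subgroup G) ⊓ Subgroup.centralizer ((S : Subgroup G) : Set G)) (hJS : J ≤ S)
    (Jc : ∀ a ∈ J, ∀ b ∈ J, a * b = b * a) (Je : ∀ a ∈ J, a ^ 3 = 1) (hJ : Nat.card J = 81)
    (f : gen3 J →* alternatingGroup (Fin 6)) (hf : Function.Surjective f)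
    (hfk : ∀ m : gen3 J, f m = 1 ↔ (m : G) ∈ J)
    (QS : Q ≤ S) (hQ : Cfsg.IsExtraspecial 3 Q) (Qcard : Nat.card Q = 243) (Qe : ∀ a ∈ Q, a ^ 3 = 1)
    (hQn : Subgroup.normalizer (Z : Set G) ≤ Subgroup.normalizer (Q : Set G))
    (QC : Subgroup.centralizer (Q : Set G) ≤ Q)
    (ψ : gen3 Z →* SL5) (hs : Function.Surjective ψ) (hk : ∀ l : gen3 Z, ψ l = 1 ↔ (l : G) ∈ Q) :
    Nonempty (Data G) := by
  refine ⟨{ S := S, Z := Z, J := J, M := gen3 J, L := gen3 Z, Q := Q, hZ := hZ, hJS := hJS, Jc := Jc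
            Je := Je, hJ := hJ, M_norm := gen3_le J, M_conj := gen3_conj J
            M_three := fun g hg h => gen3_mem hg h
            φ := (alternatingGroup (Fin 6)).subtype.comp f
            φ_range := ?_
            φ_ker := fun m => ?_
            L_conj := gen3_conj Z, L_le := gen3_le_cent hZ
            L_three := fun g hg h => gen3_mem hg h
            ψ := ψ, ψ_surj := hs, ψ_ker := hk, Q_conj := hQn, QS := QS, QC := QC, hQ := hQ
            Qcard := Qcard, Qe := Qe }⟩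
  · rw [MonoidHom.range_comp, MonoidHom.range_eq_top.2 hf, ← MonoidHom.range_eq_map, Subgroup.range_subtype]
  · rw [← hfk m, MonoidHom.comp_apply, Subgroup.coe_subtype, OneMemClass.coe_eq_one]

/-- A three-core of the normalizer of the centre lies in the Sylow subgroup. -/
theorem pCoreOf_le_S {S : Sylow 3 G} {H : Subgroup G} (hSH : (S : Subgroup G) ≤ H) :
    Cfsg.pCoreOf 3 H ≤ (S : Subgroup G) := by
  haveI : Fact (Nat.Prime 3) := ⟨Nat.prime_three⟩
  have hp : IsPGroup 3 (S ⊔ Cfsg.pCoreOf 3 H : Subgroup G) :=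
    S.2.to_sup_of_normal_right' (Fusion.pCoreOf_isPGroup H) (hSH.trans (Fusion.le_normalizer_pCoreOf H))
  exact le_sup_right.trans (S.3 hp le_sup_left).le

theorem make_5523 (S : Sylow 3 G) (Z : Subgroup G)
    (hZ : Z = (S : Subgroup G) ⊓ Subgroup.centralizer ((S : Subgroup G) : Set G))
    (J : Subgroup G) (hJS : J ≤ S) (hJcomm : IsMulCommutative J) (hJexp : ∀ a ∈ J, a ^ 3 = 1)
    (hJcard : Nat.card J = 3 ^ 4)
    (M₀ : Subgroup G) (hM₀ : M₀ = Subgroup.closure {g : G | g ∈ Subgroup.normalizer (J : Set G) ∧ ∃ k : ℕ, orderOf g = 3 ^ k})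
    (_hJM : J ≤ M₀) [hJn : (J.subgroupOf M₀).Normal] (eM : M₀ ⧸ J.subgroupOf M₀ ≃* alternatingGroup (Fin 6))
    (L₀ : Subgroup G) (hL₀ : L₀ = Subgroup.closure {g : G | g ∈ Subgroup.normalizer (Z : Set G) ∧ ∃ k : ℕ, orderOf g = 3 ^ k})
    (Q : Subgroup G) (hQ : Q = (Cfsg.pCore 3 (Subgroup.normalizer (Z : Set G))).map (Subgroup.normalizer (Z : Set G)).subtype)
    (hQex : Cfsg.IsExtraspecial 3 Q) (hQcard : Nat.card Q = 3 ^ 5) (hQexp : ∀ a ∈ Q, a ^ 3 = 1)
    (_hQL : Q ≤ L₀) [hQn : (Q.subgroupOf L₀).Normal] (eL : L₀ ⧸ Q.subgroupOf L₀ ≃* Matrix.SpecialLinearGroup (Fin 2) (ZMod 5))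
    (hiii : Subgroup.centralizer (((Cfsg.pCore 3 (Subgroup.centralizer (Z : Set G))).map (Subgroup.centralizer (Z : Set G)).subtype : Subgroup G) : Set G)
        ≤ (Cfsg.pCore 3 (Subgroup.centralizer (Z : Set G))).map (Subgroup.centralizer (Z : Set G)).subtype) :
    Nonempty (Data G) := by
  haveI : Fact (Nat.Prime 3) := ⟨Nat.prime_three⟩
  subst hM₀ hL₀
  obtain ⟨f, hf, hfk⟩ := exists_hom eM
  obtain ⟨ψ, hs, hk⟩ := exists_hom eL
  have hQ' : Q = Cfsg.pCoreOf 3 (Subgroup.normalizer (Z : Set G)) := hQ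
  have hnC : Subgroup.normalizer (Z : Set G) ≤
      Subgroup.normalizer (Subgroup.centralizer (Z : Set G) : Set G) := fun g hg => by
    refine Subgroup.mem_normalizer_iff.2 fun x => ?_
    have key : ∀ n ∈ Subgroup.normalizer (Z : Set G), ∀ y ∈ Subgroup.centralizer (Z : Set G),
        n * y * n⁻¹ ∈ Subgroup.centralizer (Z : Set G) := by
      intro n hn y hy
      refine Subgroup.mem_centralizer_iff.2 fun z hz => ?_
      have h := Subgroup.mem_centralizer_iff.1 hy (n⁻¹ * z * n) (by simpa using mem_norm (inv_mem hn) hz)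
      calc z * (n * y * n⁻¹) = n * (n⁻¹ * z * n * y) * n⁻¹ := by group
        _ = n * (y * (n⁻¹ * z * n)) * n⁻¹ := by rw [h]
        _ = n * y * n⁻¹ * z := by group
    refine ⟨key g hg x, fun hx => ?_⟩
    have := key g⁻¹ (inv_mem hg) _ hx
    simpa [mul_assoc] using this
  have hPQ : Cfsg.pCoreOf 3 (Subgroup.centralizer (Z : Set G)) ≤ Q := hQ' ▸ Fusion.le_pCoreOf
    ((Fusion.pCoreOf_le _).trans (cent_le_norm _))
    (fun g hg => Solv.TwoRankAbelian.mem_normalizer_pCoreOf (hnC hg)) (Fusion.pCoreOf_isPGroup _)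
  refine mk_data hZ hJS (fun a ha b hb => ?_) hJexp (by rw [hJcard]; norm_num) f hf hfk
    (hQ' ▸ pCoreOf_le_S (S_le_norm hZ)) hQex (by rw [hQcard]; norm_num) hQexp
    (hQ' ▸ fun g hg => Solv.TwoRankAbelian.mem_normalizer_pCoreOf (Subgroup.le_normalizer hg))
    ((Subgroup.centralizer_le hPQ).trans (hiii.trans hPQ)) ψ hs hk
  exact congrArg Subtype.val (hJcomm.1.1 (⟨a, ha⟩ : J) ⟨b, hb⟩)

theorem make_3367 (S : Sylow 3 G) (Z : Subgroup G)
    (hZ : Z = (S : Subgroup G) ⊓ Subgroup.centralizer ((S : Subgroup G) : Set G))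
    (J : Subgroup G) (hJS : J ≤ S) (hJcomm : IsMulCommutative J) (hJexp : ∀ a ∈ J, a ^ 3 = 1)
    (hJcard : Nat.card J = 3 ^ 4)
    (M₀ : Subgroup G) (hM₀ : M₀ = Subgroup.closure {g : G | g ∈ Subgroup.normalizer (J : Set G) ∧ ∃ k : ℕ, orderOf g = 3 ^ k})
    (hJM : J ≤ M₀) [hJn : (J.subgroupOf M₀).Normal] (eM : M₀ ⧸ J.subgroupOf M₀ ≃* alternatingGroup (Fin 6))
    (L₀ : Subgroup G) (hL₀ : L₀ = Subgroup.closure {g : G | g ∈ Subgroup.normalizer (Z : Set G) ∧ ∃ k : ℕ, orderOf g = 3 ^ k})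
    (Q : Subgroup G) (hQ : Q = (Cfsg.pCore 3 (Subgroup.normalizer (Z : Set G))).map (Subgroup.normalizer (Z : Set G)).subtype)
    (hQex : Cfsg.IsExtraspecial 3 Q) (hQcard : Nat.card Q = 3 ^ 5) (hQexp : ∀ a ∈ Q, a ^ 3 = 1)
    (hQL : Q ≤ L₀) [hQn : (Q.subgroupOf L₀).Normal] (eL : L₀ ⧸ Q.subgroupOf L₀ ≃* Matrix.SpecialLinearGroup (Fin 2) (ZMod 5))
    (hiii : ∀ x ∈ J, x ≠ 1 →
      Subgroup.centralizer (((Cfsg.pCore 3 (Subgroup.centralizer ({x} : Set G))).map (Subgroup.centralizer ({x} : Set G)).subtype : Subgroup G) : Set G)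
        ≤ (Cfsg.pCore 3 (Subgroup.centralizer ({x} : Set G))).map (Subgroup.centralizer ({x} : Set G)).subtype) :
    Nonempty (Data G) := by
  haveI : Fact (Nat.Prime 3) := ⟨Nat.prime_three⟩
  subst hL₀
  obtain ⟨ψ, hs, hk⟩ := exists_hom eL
  have QS : Q ≤ (S : Subgroup G) := hQ.trans_le (pCoreOf_le_S (S_le_norm hZ))
  have hc243 : Nat.card Q = 243 := by rw [hQcard]; norm_num
  obtain ⟨hZQ, hZc⟩ := Z_facts hZ QS hQex hc243 ψ hs hk
  have hJc : ∀ a ∈ J, ∀ b ∈ J, a * b = b * a := fun a ha b hb =>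
    congrArg Subtype.val (hJcomm.1.1 (⟨a, ha⟩ : J) ⟨b, hb⟩)
  have hZJ : Z ≤ J := by
    by_contra hn
    have hinf : Nat.card (J ⊓ Z : Subgroup G) = 1 := by
      rcases (Nat.dvd_prime Nat.prime_three).1 (hZc ▸ Subgroup.card_dvd_of_le (inf_le_right : J ⊓ Z ≤ Z)) with h | h
      · exact h
      · have he := Subgroup.eq_of_le_of_card_ge (inf_le_right : J ⊓ Z ≤ Z) (by rw [h, hZc])
        exact absurd (he.symm.trans_le inf_le_left) hn
    set A := J ⊔ Z with hA
    have hAS : A ≤ (S : Subgroup G) := sup_le hJS (hZ ▸ inf_le_left)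
    have hAc : Nat.card A = 243 := by
      have := Cfsg.Agent.Solv.card_sup_mul_card_inf' J Z fun z hz =>
        cent_le_norm J (Subgroup.mem_centralizer_iff.2 fun j hj => Z_comm hZ (hJS hj) hz)
      rw [hinf, hJcard, hZc, mul_one] at this
      rw [hA, this]; norm_num
    have hab : ∀ a ∈ A, ∀ b ∈ A, a * b = b * a := by
      have h1 : A ≤ Subgroup.centralizer (A : Set G) := by
        have hJA : J ≤ Subgroup.centralizer (A : Set G) := by
          rw [Subgroup.le_centralizer_iff, hA]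
          exact sup_le (fun a ha => Subgroup.mem_centralizer_iff.2 fun b hb => hJc b hb a ha)
            fun z hz => Subgroup.mem_centralizer_iff.2 fun b hb => Z_comm hZ (hJS hb) hz
        have hZA : Z ≤ Subgroup.centralizer (A : Set G) := fun z hz =>
          Subgroup.mem_centralizer_iff.2 fun b hb => Z_comm hZ (hAS hb) hz
        exact sup_le hJA hZA
      exact fun a ha b hb => (Subgroup.mem_centralizer_iff.1 (h1 ha) b hb).symm
    set χ : A →* SL5 := ψ.comp (Subgroup.inclusion (hAS.trans (S_le_gen3 hZ))) with hχ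
    have hr : Nat.card χ.range ≤ 3 := by
      obtain ⟨j, -, e⟩ := (Nat.dvd_prime_pow Nat.prime_three (m := 5)).1
        (show Nat.card χ.range ∣ 3 ^ 5 from
          (show 3 ^ 5 = Nat.card A by rw [hAc]; norm_num) ▸ Subgroup.card_range_dvd χ)
      have h120 := sl_card ▸ Subgroup.card_subgroup_dvd_card χ.range
      rw [e] at h120 ⊢
      rcases j with _ | _ | j
      · simp
      · simp
      · exfalso
        have := (Dvd.intro_left _ (pow_add 3 j 2).symm).trans h120
        norm_num at this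
    have hk81 : 81 ≤ Nat.card χ.ker := by
      have h := Subgroup.card_mul_index χ.ker
      rw [Subgroup.index_ker, hAc] at h
      nlinarith
    let B : Subgroup Q := (χ.ker.map A.subtype).subgroupOf Q
    have hle : χ.ker.map A.subtype ≤ Q := by
      rintro _ ⟨a, ha, rfl⟩
      exact (hk _).1 (MonoidHom.mem_ker.1 ha)
    have hB : Nat.card B = Nat.card χ.ker := by
      rw [Nat.card_congr (Subgroup.subgroupOfEquivOfLe hle).toEquiv,
        Subgroup.card_map_of_injective A.subtype_injective]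
    have := abelian_le hQex hc243 B fun a ha b hb => Subtype.ext
      (hab _ (Subgroup.map_subtype_le _ ha) _ (Subgroup.map_subtype_le _ hb))
    omega
  obtain ⟨⟨x, hx⟩, hx1⟩ : ∃ x : Z, x ≠ 1 := by
    haveI : Nontrivial Z := Finite.one_lt_card_iff_nontrivial.1 (by rw [hZc]; norm_num)
    exact exists_ne 1
  have hx1' : x ≠ 1 := fun e => hx1 (Subtype.ext e)
  have hzp : Subgroup.zpowers x = Z := by
    refine Subgroup.eq_of_le_of_card_ge (Subgroup.zpowers_le.2 hx) ?_
    rw [hZc, Nat.card_zpowers, orderOf_eq_prime (hJexp x (hZJ hx)) hx1']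
  have hC : Subgroup.centralizer ({x} : Set G) = Subgroup.centralizer (Z : Set G) := by
    rw [← hzp, Subgroup.zpowers_eq_closure, Subgroup.centralizer_closure]
  have h3 := hiii x (hZJ hx) hx1'
  rw [hC] at h3
  exact make_5523 S Z hZ J hJS hJcomm hJexp hJcard M₀ hM₀ hJM eM _ rfl Q hQ hQex hQcard hQexp hQL eL h3

/-- The subgroup generated by elements of three-power order maps onto the one of a quotient by a three-group. -/
theorem exists_hom_quot {N : Subgroup G} (F : Subgroup N) [F.Normal] (hF : IsPGroup 3 F) {L : Subgroup G}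
    (hL : L = Subgroup.closure {g : G | g ∈ N ∧ ∃ k : ℕ, orderOf g = 3 ^ k})
    (E : Subgroup (N ⧸ F)) (hE : Subgroup.closure {y : N ⧸ F | ∃ k : ℕ, y ^ 3 ^ k = 1} = E)
    {X : Type*} [Group X] (e : E ≃* X) :
    ∃ f : L →* X, Function.Surjective f ∧ ∀ l : L, f l = 1 ↔ (l : G) ∈ F.map N.subtype := by
  have hLN : L ≤ N := hL ▸ (Subgroup.closure_le _).2 fun _ hg => hg.1
  set χ : L →* N ⧸ F := (QuotientGroup.mk' F).comp (Subgroup.inclusion hLN) with hχ
  have hr : χ.range = E := by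
    refine le_antisymm ?_ ?_
    · rintro _ ⟨⟨l, hl⟩, rfl⟩
      have key : ∀ y ∈ L, ∀ h : y ∈ N, QuotientGroup.mk' F ⟨y, h⟩ ∈ E := by
        intro y hy
        rw [hL] at hy
        induction hy using Subgroup.closure_induction with
        | mem g hg =>
          intro h
          obtain ⟨k, hk⟩ := orderOf_three_iff.1 hg.2
          exact hE ▸ Subgroup.subset_closure ⟨k, by
            rw [← map_pow, show (⟨g, h⟩ : N) ^ 3 ^ k = 1 from Subtype.ext hk, map_one]⟩
        | one => exact fun h => by rw [show (⟨1, h⟩ : N) = 1 from rfl, map_one]; exact one_mem _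
        | mul a b ha hb iha ihb =>
          intro h
          have haN : a ∈ N := hLN (hL ▸ ha)
          have hbN : b ∈ N := hLN (hL ▸ hb)
          rw [show (⟨a * b, h⟩ : N) = ⟨a, haN⟩ * ⟨b, hbN⟩ from rfl, map_mul]
          exact mul_mem (iha haN) (ihb hbN)
        | inv a ha iha =>
          intro h
          have haN : a ∈ N := hLN (hL ▸ ha)
          rw [show (⟨a⁻¹, h⟩ : N) = ⟨a, haN⟩⁻¹ from rfl, map_inv]
          exact inv_mem (iha haN)
      exact key l hl _
    · rw [← hE, Subgroup.closure_le]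
      rintro y ⟨k, hk⟩
      obtain ⟨g, rfl⟩ := QuotientGroup.mk'_surjective F y
      rw [← map_pow, QuotientGroup.mk'_apply, QuotientGroup.eq_one_iff] at hk
      obtain ⟨j, hj⟩ := hF ⟨_, hk⟩
      have hg : (g : G) ^ 3 ^ (k + j) = 1 := by
        rw [pow_add, pow_mul]
        exact congrArg (fun t : F => ((t : N) : G)) hj
      have hgL : (g : G) ∈ L := hL ▸ Subgroup.subset_closure ⟨g.2, orderOf_three_iff.2 ⟨_, hg⟩⟩
      exact ⟨⟨g, hgL⟩, rfl⟩
  refine ⟨e.toMonoidHom.comp (χ.codRestrict E fun l => hr ▸ ⟨l, rfl⟩), ?_, fun l => ?_⟩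
  · refine e.surjective.comp fun y => ?_
    obtain ⟨l, hl⟩ : (y : N ⧸ F) ∈ χ.range := hr ▸ y.2
    exact ⟨l, Subtype.ext hl⟩
  · rw [MonoidHom.comp_apply, MulEquiv.coe_toMonoidHom, e.map_eq_one_iff, ← OneMemClass.coe_eq_one,
      MonoidHom.codRestrict_apply]
    show QuotientGroup.mk' F (Subgroup.inclusion hLN l) = 1 ↔ _
    rw [QuotientGroup.mk'_apply, QuotientGroup.eq_one_iff]
    exact ⟨fun h => ⟨_, h, rfl⟩, fun ⟨y, hy, e'⟩ => by
      rwa [show Subgroup.inclusion hLN l = y from Subtype.ext e'.symm]⟩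

theorem extraspecial_of_equiv {E : Type u} {F : Type u} [Group E] [Group F] [Finite E] [Finite F] (e : E ≃* F)
    (h : Cfsg.IsExtraspecial 3 E) : Cfsg.IsExtraspecial 3 F := by
  haveI : Fact (Nat.Prime 3) := ⟨Nat.prime_three⟩
  have hc : (Subgroup.center E).map e.toMonoidHom = Subgroup.center F := by
    ext y
    rw [Subgroup.mem_map_equiv]
    exact ⟨fun hy => Subgroup.mem_center_iff.2 fun w => e.symm.injective (by
        rw [map_mul, map_mul, Subgroup.mem_center_iff.1 hy]),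
      fun hy => Subgroup.mem_center_iff.2 fun w => e.injective (by
        rw [map_mul, map_mul, e.apply_symm_apply, Subgroup.mem_center_iff.1 hy])⟩
  refine Cfsg.Agent.Solv.isExtraspecial_of (h.1.1.of_equiv e) ?_ ?_ fun x => ?_
  · rw [← hc, Subgroup.card_map_of_injective e.injective, h.2]
  · rw [← hc, ← h.1.2.2, commutator_def, commutator_def, Subgroup.map_commutator,
      Subgroup.map_top_of_surjective _ e.surjective]
  · rw [← hc, Subgroup.mem_map_equiv, map_pow]
    exact Cfsg.Agent.Solv.extraspecial_pow_mem_center h _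

theorem make_2913 (Z : Subgroup G) (hZ : Nat.card ↥Z = 3) (S : Sylow 3 ↥(Subgroup.centralizer (Z : Set G)))
    (J : Subgroup G)
    (hJS : J ≤ ((S : Subgroup ↥(Subgroup.centralizer (Z : Set G))).map (Subgroup.centralizer (Z : Set G)).subtype))
    (hJ : Cfsg.IsElementaryAbelian 3 J) (hJcard : Nat.card ↥J = 3 ^ 4)
    (hQ : Cfsg.IsExtraspecial 3 ↥(Cfsg.generalizedFittingSubgroup ↥(Subgroup.centralizer (Z : Set G))))
    (hQcard : Nat.card ↥(Cfsg.generalizedFittingSubgroup ↥(Subgroup.centralizer (Z : Set G))) = 3 ^ 5)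
    [hQn : (Cfsg.generalizedFittingSubgroup ↥(Subgroup.centralizer (Z : Set G))).Normal]
    (hexp : ∀ x ∈ Cfsg.generalizedFittingSubgroup ↥(Subgroup.centralizer (Z : Set G)), x ^ 3 = 1)
    (hFMQ : Nonempty (↥(Cfsg.generalizedFittingSubgroup (↥(Subgroup.centralizer (Z : Set G)) ⧸ Cfsg.generalizedFittingSubgroup ↥(Subgroup.centralizer (Z : Set G)))) ≃* Matrix.SpecialLinearGroup (Fin 2) (ZMod 5)))
    [hJn : (J.subgroupOf (Subgroup.normalizer (J : Set G))).Normal]
    (hA6 : Nonempty (↥(Subgroup.closure {x : ↥(Subgroup.normalizer (J : Set G)) ⧸ J.subgroupOf (Subgroup.normalizer (J : Set G)) | ∃ k : ℕ, orderOf x = 3 ^ k}) ≃* ↥(alternatingGroup (Fin 6)))) :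
    Nonempty (Data G) := by
  haveI : Fact (Nat.Prime 3) := ⟨Nat.prime_three⟩
  set F := Cfsg.generalizedFittingSubgroup ↥(Subgroup.centralizer (Z : Set G)) with hF
  have hFcore : F = Cfsg.pCore 3 ↥(Subgroup.centralizer (Z : Set G)) :=
    Fusion.gfit_eq_pCore_iff.2 (Fusion.isPGroup_gfit_iff.1 hQ.1.1)
  set Q : Subgroup G := F.map (Subgroup.centralizer (Z : Set G)).subtype with hQdef
  set P : Subgroup G := (S : Subgroup (Subgroup.centralizer (Z : Set G))).map (Subgroup.centralizer (Z : Set G)).subtype with hPdef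
  have hFS : F ≤ (S : Subgroup (Subgroup.centralizer (Z : Set G))) := hFcore ▸ Fusion.pCore_le_sylow S
  have hQP : Q ≤ P := Subgroup.map_mono hFS
  have hPC : P ≤ (Subgroup.centralizer (Z : Set G)) := Subgroup.map_subtype_le _
  have hZcomm : ∀ a ∈ Z, ∀ b ∈ Z, a * b = b * a := by
    haveI : IsCyclic Z := isCyclic_of_prime_card hZ
    intro a ha b hb
    letI := IsCyclic.commGroup (α := Z)
    exact congrArg Subtype.val (mul_comm (⟨a, ha⟩ : Z) ⟨b, hb⟩)
  have hZC : Z ≤ (Subgroup.centralizer (Z : Set G)) := fun a ha => Subgroup.mem_centralizer_iff.2 fun b hb => hZcomm b hb a ha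
  have hZQ : Z ≤ Q := by
    haveI : (Z.subgroupOf (Subgroup.centralizer (Z : Set G))).Normal := ⟨fun a ha g => by
      have h := Subgroup.mem_centralizer_iff.1 g.2 a ha
      show (g : G) * a * (g : G)⁻¹ ∈ Z
      rw [← h, mul_inv_cancel_right]
      exact ha⟩
    intro z hz
    refine ⟨⟨z, hZC hz⟩, ?_, rfl⟩
    rw [SetLike.mem_coe, hFcore]
    exact Fusion.le_pCore (N := Z.subgroupOf (Subgroup.centralizer (Z : Set G)))
      ((IsPGroup.of_card (n := 1) (by rw [hZ, pow_one])).comap_subtype) hz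
  have QC : Subgroup.centralizer (Q : Set G) ≤ Q := by
    intro g hg
    have hgC : g ∈ (Subgroup.centralizer (Z : Set G)) := Subgroup.mem_centralizer_iff.2 fun z hz => Subgroup.mem_centralizer_iff.1 hg z (hZQ hz)
    refine ⟨⟨g, hgC⟩, Solv.centralizer_gfit_le (Subgroup.mem_centralizer_iff.2 fun y hy => ?_), rfl⟩
    exact Subtype.ext (Subgroup.mem_centralizer_iff.1 hg y ⟨y, hy, rfl⟩)
  have hQex : Cfsg.IsExtraspecial 3 Q :=
    extraspecial_of_equiv (F.equivMapOfInjective (Subgroup.centralizer (Z : Set G)).subtype (Subgroup.centralizer (Z : Set G)).subtype_injective) hQ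
  have hQc : Nat.card Q = 243 := by
    rw [hQdef, Subgroup.card_map_of_injective (Subgroup.centralizer (Z : Set G)).subtype_injective, hQcard]; norm_num
  have hPp : IsPGroup 3 P := S.2.map (Subgroup.centralizer (Z : Set G)).subtype
  have hZP : Z = P ⊓ Subgroup.centralizer (P : Set G) := by
    refine le_antisymm (le_inf (hZQ.trans hQP) ?_) ?_
    · exact Subgroup.le_centralizer_iff.1 hPC
    · rintro g ⟨-, hg⟩
      have hgQ : g ∈ Q := QC (Subgroup.centralizer_le hQP hg)
      have hle : Z ≤ (Subgroup.center Q).map Q.subtype := fun z hz =>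
        ⟨⟨z, hZQ hz⟩, Subgroup.mem_center_iff.2 fun q => Subtype.ext
          (Subgroup.mem_centralizer_iff.1 (hPC (hQP q.2)) z hz).symm, rfl⟩
      have heq := Subgroup.eq_of_le_of_card_ge hle
        (by rw [Subgroup.card_map_of_injective Q.subtype_injective, hQex.2, hZ])
      rw [heq]
      exact ⟨⟨g, hgQ⟩, Subgroup.mem_center_iff.2 fun q => Subtype.ext
        (Subgroup.mem_centralizer_iff.1 hg q (hQP q.2)), rfl⟩
  have hcent3 : ∀ g ∈ Subgroup.normalizer (Z : Set G), (∃ k : ℕ, g ^ 3 ^ k = 1) → g ∈ (Subgroup.centralizer (Z : Set G)) := by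
    rintro g hg ⟨k, hk⟩
    refine Subgroup.mem_centralizer_iff.2 fun z hz => ?_
    by_cases hz1 : z = 1
    · simp [hz1]
    have h3 : z ^ 3 = 1 := by
      have := pow_card_eq_one' (G := Z) (x := ⟨z, hz⟩)
      rw [hZ] at this
      exact congrArg Subtype.val this
    have hgen : Subgroup.zpowers z = Z := Subgroup.eq_of_le_of_card_ge (Subgroup.zpowers_le.2 hz)
      (by rw [hZ, Nat.card_zpowers, orderOf_eq_prime h3 hz1])
    have hmem : g * z * g⁻¹ ∈ Subgroup.zpowers z := hgen.symm ▸ mem_norm hg hz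
    obtain ⟨j, hj, e⟩ := (Subgroup.mem_zpowers_iff).1 hmem |> fun ⟨i, hi⟩ =>
      (show ∃ j, j < 3 ∧ z ^ j = g * z * g⁻¹ from ⟨(i % 3).toNat, by omega, by
        rw [← hi, ← zpow_natCast, Int.toNat_of_nonneg (Int.emod_nonneg _ (by norm_num)),
          show (3 : ℤ) = ((3 : ℕ) : ℤ) from rfl, ← orderOf_eq_prime h3 hz1, zpow_mod_orderOf]⟩)
    interval_cases j
    · rw [pow_zero] at e
      exact absurd (conj_eq_one_iff.1 e.symm) hz1
    · rw [pow_one] at e
      exact (mul_inv_eq_iff_eq_mul.1 e.symm).symm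
    · exfalso
      have e' : g * z * g⁻¹ = z⁻¹ := by
        rw [← e, eq_inv_iff_mul_eq_one, ← pow_succ, h3]
      have h2 : (g * g) * z * (g * g)⁻¹ = z := by
        rw [show g * g * z * (g * g)⁻¹ = g * (g * z * g⁻¹) * g⁻¹ by group, e',
          show g * z⁻¹ * g⁻¹ = (g * z * g⁻¹)⁻¹ by group, e', inv_inv]
      obtain ⟨m, hm⟩ : Odd (3 ^ k) := Odd.pow (by decide)
      have hc : Commute (g ^ 2) z := by rw [pow_two]; exact mul_inv_eq_iff_eq_mul.1 h2
      have hg2 : g = (g ^ 2) ^ (m + 1) := by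
        rw [← pow_mul, show 2 * (m + 1) = 3 ^ k + 1 by omega, pow_succ, hk, one_mul]
      have hcg : Commute g z := by rw [hg2]; exact hc.pow_left _
      rw [hcg.eq, mul_inv_cancel_right] at e'
      refine hz1 ?_
      calc z = z ^ 3 * (z⁻¹ * z⁻¹) := by group
        _ = 1 := by rw [h3, one_mul]; nth_rw 1 [← e']; rw [mul_inv_cancel]
  have hmax : ∀ {R : Subgroup G}, IsPGroup 3 R → P ≤ R → R = P := by
    intro R hR hPR
    by_contra hne
    haveI := hR.isNilpotent
    have hlt : P.subgroupOf R < ⊤ := lt_top_iff_ne_top.2 fun e => hne (le_antisymm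
      (Subgroup.subgroupOf_eq_top.1 e) hPR)
    obtain ⟨⟨g, hgR⟩, hgN, hgP⟩ := SetLike.exists_of_lt (Group.normalizerCondition_of_isNilpotent _ hlt)
    have hnP : g ∈ Subgroup.normalizer (P : Set G) := by
      refine Subgroup.mem_normalizer_iff.2 fun x => ⟨fun hx => ?_, fun hx => ?_⟩
      · exact (Subgroup.mem_normalizer_iff.1 hgN ⟨x, hPR hx⟩).1 hx
      · have hxR : x ∈ R := by
          rw [show x = g⁻¹ * (g * x * g⁻¹) * g by group]
          exact mul_mem (mul_mem (inv_mem hgR) (hPR hx)) hgR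
        exact (Subgroup.mem_normalizer_iff.1 hgN ⟨x, hxR⟩).2 hx
    have hnZ : g ∈ Subgroup.normalizer (Z : Set G) := by
      have key : ∀ n ∈ Subgroup.normalizer (P : Set G), ∀ z ∈ Z, n * z * n⁻¹ ∈ Z := by
        intro n hn z hz
        rw [hZP] at hz ⊢
        refine ⟨mem_norm hn hz.1, Subgroup.mem_centralizer_iff.2 fun y hy => ?_⟩
        have h := Subgroup.mem_centralizer_iff.1 hz.2 (n⁻¹ * y * n) (by simpa using mem_norm (inv_mem hn) hy)
        calc y * (n * z * n⁻¹) = n * (n⁻¹ * y * n * z) * n⁻¹ := by group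
          _ = n * (z * (n⁻¹ * y * n)) * n⁻¹ := by rw [h]
          _ = n * z * n⁻¹ * y := by group
      refine Subgroup.mem_normalizer_iff.2 fun x => ⟨key g hnP x, fun hx => ?_⟩
      simpa [mul_assoc] using key g⁻¹ (inv_mem hnP) _ hx
    have hgC : g ∈ (Subgroup.centralizer (Z : Set G)) := hcent3 g hnZ (three_pow hR hgR)
    have heq : R.subgroupOf (Subgroup.centralizer (Z : Set G)) = (S : Subgroup (Subgroup.centralizer (Z : Set G))) := S.3 hR.comap_subtype fun s hs => hPR ⟨s, hs, rfl⟩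
    have hgS : (⟨g, hgC⟩ : (Subgroup.centralizer (Z : Set G))) ∈ (S : Subgroup (Subgroup.centralizer (Z : Set G))) := heq ▸ hgR
    exact hgP ⟨_, hgS, rfl⟩
  let SG : Sylow 3 G := ⟨P, hPp, fun {R} hR hle => hmax hR hle⟩
  have hgen : gen3 Z = Subgroup.closure {g : G | g ∈ (Subgroup.centralizer (Z : Set G)) ∧ ∃ k : ℕ, orderOf g = 3 ^ k} := by
    refine congrArg Subgroup.closure (Set.ext fun g => ⟨fun h => ?_, fun h => ?_⟩)
    · exact ⟨hcent3 g h.1 (orderOf_three_iff.1 h.2), h.2⟩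
    · exact ⟨cent_le_norm Z h.1, h.2⟩
  obtain ⟨eF⟩ := hFMQ
  haveI : (Cfsg.generalizedFittingSubgroup (↥(Subgroup.centralizer (Z : Set G)) ⧸ F)).Normal := Local.gfit_normal
  obtain ⟨ψ, hs, hk⟩ := exists_hom_quot F hQ.1.1 hgen _
    (closure_three _ eF Solv.centralizer_gfit_le) eF
  obtain ⟨eA⟩ := hA6
  obtain ⟨f, hf, hfk⟩ := exists_hom_quot (J.subgroupOf (Subgroup.normalizer (J : Set G)))
    ((IsPGroup.of_card (n := 4) hJcard).comap_subtype) (L := gen3 J) rfl _
    (congrArg Subgroup.closure (Set.ext fun x => orderOf_three_iff.symm)) eA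
  refine mk_data (S := SG) hZP hJS (fun a ha b hb => congrArg Subtype.val (hJ.1.1.1 (⟨a, ha⟩ : J) ⟨b, hb⟩))
    hJ.2 (by rw [hJcard]; norm_num) f hf (fun m => ?_) hQP hQex hQc ?_ ?_ QC ψ hs hk
  · rw [hfk, Subgroup.map_subgroupOf_eq_of_le Subgroup.le_normalizer]
  · rintro _ ⟨y, hy, rfl⟩
    exact congrArg Subtype.val (hexp y hy)
  · intro g hg
    have hgC : g ∈ Subgroup.normalizer ((Subgroup.centralizer (Z : Set G)) : Set G) := by
      have key : ∀ n ∈ Subgroup.normalizer (Z : Set G), ∀ y ∈ (Subgroup.centralizer (Z : Set G)), n * y * n⁻¹ ∈ (Subgroup.centralizer (Z : Set G)) := by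
        intro n hn y hy
        refine Subgroup.mem_centralizer_iff.2 fun z hz => ?_
        have h := Subgroup.mem_centralizer_iff.1 hy (n⁻¹ * z * n) (by simpa using mem_norm (inv_mem hn) hz)
        calc z * (n * y * n⁻¹) = n * (n⁻¹ * z * n * y) * n⁻¹ := by group
          _ = n * (y * (n⁻¹ * z * n)) * n⁻¹ := by rw [h]
          _ = n * y * n⁻¹ * z := by group
      refine Subgroup.mem_normalizer_iff.2 fun x => ⟨key g hg x, fun hx => ?_⟩
      simpa [mul_assoc] using key g⁻¹ (inv_mem hg) _ hx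
    have hQeq : Q = Cfsg.pCoreOf 3 (Subgroup.centralizer (Z : Set G)) := by rw [hQdef, hFcore]; rfl
    rw [hQeq]
    exact Solv.TwoRankAbelian.mem_normalizer_pCoreOf hgC

/-- The generalized Fitting subgroup of the McLaughlin group or its automorphism group. -/
theorem fstar_mcl (h : Nonempty (G ≃* Cfsg.Spor.McL) ∨ Nonempty (G ≃* MulAut Cfsg.Spor.McL)) :
    Cfsg.Spor.IsoMcL ↥(Cfsg.generalizedFittingSubgroup G) := by
  obtain ⟨em⟩ := Lie.McLaughlinOut.mcl_iso
  haveI : IsSimpleGroup Lie.McLaughlinOut.MG := Spor.simple_mcl_ref.2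
  haveI : Nontrivial ↥Cfsg.Spor.McL := em.toEquiv.nontrivial
  haveI hsimple : IsSimpleGroup ↥Cfsg.Spor.McL :=
    IsSimpleGroup.isSimpleGroup_of_surjective em.symm.toMonoidHom em.symm.surjective
  have hcard : Nat.card ↥Cfsg.Spor.McL = 898128000 :=
    (Nat.card_congr em.toEquiv).trans Lie.McLaughlinOut.card_MG
  haveI : Finite ↥Cfsg.Spor.McL := Nat.finite_of_card_ne_zero (by rw [hcard]; norm_num)
  have hnp : ¬ (Nat.card ↥Cfsg.Spor.McL).Prime := by rw [hcard]; norm_num
  have hcen : Subgroup.center ↥Cfsg.Spor.McL = ⊥ := by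
    refine ((inferInstance : (Subgroup.center ↥Cfsg.Spor.McL).Normal).eq_bot_or_eq_top).resolve_right
      fun ht => hnp ?_
    letI : CommGroup ↥Cfsg.Spor.McL :=
      { (inferInstance : Group ↥Cfsg.Spor.McL) with
        mul_comm := fun a b => (Subgroup.mem_center_iff.1 (ht ▸ Subgroup.mem_top a) b).symm }
    exact IsSimpleGroup.prime_card
  have key : ∀ (N : Subgroup G) [N.Normal] (_ : N ≃* ↥Cfsg.Spor.McL),
      Subgroup.centralizer (N : Set G) = ⊥ → Cfsg.Spor.IsoMcL ↥(Cfsg.generalizedFittingSubgroup G) := by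
    intro N _ e hc
    haveI : Nontrivial N := e.toEquiv.nontrivial
    have hs : IsSimpleGroup N := IsSimpleGroup.isSimpleGroup_of_surjective e.symm.toMonoidHom e.symm.surjective
    rw [Spor.M24Rel.Pair.gfit_eq N hs (by rw [Nat.card_congr e.toEquiv]; exact hnp) hc]
    exact ⟨e⟩
  rcases h with ⟨⟨e⟩⟩ | ⟨⟨e⟩⟩
  · refine key ⊤ (Subgroup.topEquiv.trans e) (eq_bot_iff.2 fun g hg => ?_)
    have hm : e g ∈ Subgroup.center ↥Cfsg.Spor.McL := by
      refine Subgroup.mem_center_iff.2 fun y => ?_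
      have := congrArg e (Subgroup.mem_centralizer_iff.1 hg (e.symm y) (Subgroup.mem_top _))
      rwa [map_mul, map_mul, e.apply_symm_apply] at this
    rw [hcen, Subgroup.mem_bot] at hm
    exact Subgroup.mem_bot.2 (e.map_eq_one_iff.1 hm)
  · have hinj : Function.Injective (e.symm.toMonoidHom.comp (MulAut.conj (G := ↥Cfsg.Spor.McL))) := by
      refine e.symm.injective.comp ((injective_iff_map_eq_one _).2 fun x hx => ?_)
      have : x ∈ Subgroup.center ↥Cfsg.Spor.McL := Subgroup.mem_center_iff.2 fun y => by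
        have := DFunLike.congr_fun hx y
        rw [MulAut.conj_apply, MulAut.one_apply] at this
        exact (mul_inv_eq_iff_eq_mul.1 this).symm
      rwa [hcen, Subgroup.mem_bot] at this
    set ι : ↥Cfsg.Spor.McL →* G := e.symm.toMonoidHom.comp MulAut.conj with hι
    haveI : ι.range.Normal := by
      refine ⟨?_⟩
      rintro _ ⟨x, rfl⟩ g
      refine ⟨e g x, e.injective ?_⟩
      simp only [hι, MonoidHom.comp_apply, MulEquiv.coe_toMonoidHom, map_mul, map_inv, e.apply_symm_apply]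
      refine MulEquiv.ext fun y => ?_
      simp [MulAut.conj_apply]
    refine key ι.range (MonoidHom.ofInjective hinj).symm (eq_bot_iff.2 fun g hg => ?_)
    refine Subgroup.mem_bot.2 (e.map_eq_one_iff.1 (MulEquiv.ext fun x => ?_))
    have h1 := congrArg e (Subgroup.mem_centralizer_iff.1 hg (ι x) ⟨x, rfl⟩)
    simp only [hι, MonoidHom.comp_apply, MulEquiv.coe_toMonoidHom, map_mul, e.apply_symm_apply] at h1
    have hcomm : ∀ y, x * (e g y) * x⁻¹ = e g (x * y * x⁻¹) := fun y => by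
      simpa [MulAut.conj_apply] using DFunLike.congr_fun h1 y
    have hm : x⁻¹ * e g x ∈ Subgroup.center ↥Cfsg.Spor.McL := by
      refine Subgroup.mem_center_iff.2 fun y => ?_
      obtain ⟨y', rfl⟩ := (e g).surjective y
      have h := hcomm y'
      rw [map_mul, map_mul, map_inv] at h
      calc e g y' * (x⁻¹ * e g x) = x⁻¹ * (x * e g y' * x⁻¹) * e g x := by group
        _ = x⁻¹ * (e g x * e g y' * (e g x)⁻¹) * e g x := by rw [h]
        _ = x⁻¹ * e g x * e g y' := by group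
    rw [hcen, Subgroup.mem_bot, inv_mul_eq_one] at hm
    exact hm.symm

end Cfsg.Agent.MclThree
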