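import Cfsg.Agent.Lib.Recognition.MclThreeLocal.Lifts

/-!
The pieces of the elementary abelian subgroup under the involution of the normaliser of the Sylow subgroup.
-/

set_option autoImplicit false
set_option linter.unusedSectionVars false

namespace Cfsg.Agent.MclThree

open scoped commutatorElement

universe u

variable {G : Type u} [Group G] [Finite G] {D : Data G}

theorem six_five : ∃ x y : P6, x * y = g6 ∧ Equiv.Perm.sign x = 1 ∧ x ^ 5 = 1 ∧ y ^ 5 = 1 ∧ x ≠ 1 ∧ y ≠ 1 := by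
  refine ⟨Equiv.swap 0 1 * Equiv.swap 1 2 * Equiv.swap 2 3 * Equiv.swap 3 5,
    (Equiv.swap 0 1 * Equiv.swap 1 2 * Equiv.swap 2 3 * Equiv.swap 3 5)⁻¹ * g6, ?_⟩
  decide +kernel

namespace Norm

variable (K : Norm D)

/-- the involution of the normaliser -/
def t : D.M := K.f * K.f

theorem φ_t : K.φ K.t = f6 * f6 := by rw [t, map_mul, K.hf]

theorem t_inv : K.t⁻¹ = K.t := by
  refine inv_eq_of_mul_eq_one_right ?_
  have := K.f4
  rw [t, ← this]
  simp [pow_succ, mul_assoc]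

theorem f_NZ : (K.f : G) ∈ Subgroup.normalizer (D.Z : Set G) := NS_le_NZ K.f_NS

theorem t_NA : (K.t : G) ∈ Subgroup.normalizer (D.A : Set G) := by
  rw [t, Subgroup.coe_mul]
  exact mul_mem K.f_NA K.f_NA

/-- conjugation on the centre -/
theorem Z_gen {z : G} (hz : z ∈ D.Z) (h1 : z ≠ 1) {x : G} (hx : x ∈ D.Z) : x = 1 ∨ x = z ∨ x = z⁻¹ := by
  classical
  have hfin : ({1, z, z⁻¹} : Finset G).card = 3 := by
    have h3 : z ^ 3 = 1 := D.Je z (D.Z_le_J hz)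
    have hne : z ≠ z⁻¹ := fun e => h1 (by
      calc z = z ^ 3 * (z⁻¹ * z⁻¹) := by group
        _ = 1 := by rw [h3, one_mul]; nth_rw 1 [← e]; rw [mul_inv_cancel])
    rw [Finset.card_insert_of_notMem, Finset.card_pair hne]
    simp only [Finset.mem_insert, Finset.mem_singleton, not_or]
    exact ⟨Ne.symm h1, fun e => h1 (inv_eq_one.1 e.symm)⟩
  by_contra hc
  simp only [not_or] at hc
  have hsub : (↑(insert x ({1, z, z⁻¹} : Finset G)) : Set G) ⊆ (D.Z : Set G) := by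
    intro y hy
    simp only [Finset.coe_insert, Finset.coe_singleton, Set.mem_insert_iff, Set.mem_singleton_iff] at hy
    rcases hy with rfl | rfl | rfl | rfl
    exacts [hx, one_mem _, hz, inv_mem hz]
  have := Set.ncard_le_ncard hsub (Set.toFinite _)
  rw [Set.ncard_coe_finset, Finset.card_insert_of_notMem (by
    simp only [Finset.mem_insert, Finset.mem_singleton, not_or]; exact hc), hfin,
    ← Nat.card_coe_set_eq, SetLike.coe_sort_coe, D.Z_eq.2] at this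
  omega

theorem t_Z {z : G} (hz : z ∈ D.Z) : (K.t : G) * z * (K.t : G)⁻¹ = z := by
  by_cases h1 : z = 1
  · simp [h1]
  have e : (K.t : G) * z * (K.t : G)⁻¹ = (K.f : G) * ((K.f : G) * z * (K.f : G)⁻¹) * (K.f : G)⁻¹ := by
    rw [t, Subgroup.coe_mul]; group
  rcases Z_gen hz h1 (mem_norm K.f_NZ hz) with h | h | h
  · exact absurd (conj_eq_one_iff.1 h) h1
  · rw [e, h, h]
  · rw [e, h, show (K.f : G) * z⁻¹ * (K.f : G)⁻¹ = ((K.f : G) * z * (K.f : G)⁻¹)⁻¹ by group, h, inv_inv]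

theorem g_not_NZ : (K.g : G) ∉ Subgroup.normalizer (D.Z : Set G) := fun h => by
  have := K.NZ_syl h
  rw [K.hg] at this
  exact six_rel.2.2.2.2.2.2.2.2.2.2.2.2.1 this

/-- the conjugates of the centre do not lie in the intersection with the extraspecial subgroup -/
theorem zp_not_A {z : G} (hz : z ∈ D.Z) (h1 : z ≠ 1) : (K.g : G) * z * (K.g : G)⁻¹ ∉ D.A := by
  intro hA
  haveI : Fact (Nat.Prime 3) := ⟨Nat.prime_three⟩
  haveI : Fact (Nat.Prime 5) := ⟨Nat.prime_five⟩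
  set O : Set G := {w | ∃ m : D.M, (m : G) * z * (m : G)⁻¹ = w} with hO
  have hOA : O ⊆ (D.A : Set G) := by
    rintro _ ⟨m, rfl⟩
    have hN : ∀ n : D.M, N6 (K.φ n) → (n : G) * z * (n : G)⁻¹ ∈ D.Z := fun n hn => mem_norm (NS_le_NZ (K.mem_NS hn)) hz
    rcases six_coset (K.sign m) with h | ⟨p, hp, q, hq, i, -, e⟩
    · exact D.Z_le_A (hN m h)
    obtain ⟨s, hs⟩ := K.exists_lift ((show ∀ q ∈ l6, Equiv.Perm.sign q = 1 by decide +kernel) p hp)
    set n := K.g⁻¹ * s⁻¹ * m with hn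
    have hφn : K.φ n = q * f6 ^ i := by
      rw [hn, map_mul, map_mul, map_inv, map_inv, K.hg, hs, e]; group
    have hzn := hN n (by rw [hφn]; exact N6_pow_f (N6_syl hq) i)
    have hm : (m : G) = s * ((K.g : G) * n) := by simp [hn, mul_assoc]
    show (m : G) * z * (m : G)⁻¹ ∈ D.A
    rw [hm, show (s : G) * ((K.g : G) * n) * z * ((s : G) * ((K.g : G) * n))⁻¹ =
      s * ((K.g : G) * ((n : G) * z * (n : G)⁻¹) * (K.g : G)⁻¹) * (s : G)⁻¹ by group]
    refine mem_norm (D.S_le_NA ((K.hS s).2 (hs ▸ hp))) ?_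
    rcases Z_gen hz h1 hzn with h | h | h <;> rw [h]
    · simp
    · exact hA
    · rw [show (K.g : G) * z⁻¹ * (K.g : G)⁻¹ = ((K.g : G) * z * (K.g : G)⁻¹)⁻¹ by group]
      exact inv_mem hA
  -- the subgroup generated by the orbit is normalised by everything
  set W := Subgroup.closure O with hW
  have hWA : W ≤ D.A := (Subgroup.closure_le _).2 hOA
  have hWn : ∀ m : D.M, ∀ w ∈ W, (m : G) * w * (m : G)⁻¹ ∈ W := by
    intro m w hw
    have hle : W ≤ W.comap (MulAut.conj (m : G)).toMonoidHom := by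
      refine (Subgroup.closure_le _).2 ?_
      rintro _ ⟨n, rfl⟩
      refine Subgroup.subset_closure ⟨m * n, ?_⟩
      simp [mul_assoc]
    exact hle hw
  -- elements of order five fix the orbit
  have h5 : ∀ m : D.M, K.φ m ≠ 1 → K.φ m ^ 5 = 1 → (m : G) * z * (m : G)⁻¹ = z := by
    intro m hm hm5
    obtain ⟨c, hc⟩ : ∃ c : D.M, c = m := ⟨m, rfl⟩
    let σ : Equiv.Perm W :=
      { toFun := fun w => ⟨_, hWn m w w.2⟩
        invFun := fun w => ⟨_, hWn m⁻¹ w w.2⟩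
        left_inv := fun w => Subtype.ext (by simp [mul_assoc])
        right_inv := fun w => Subtype.ext (by simp [mul_assoc]) }
    have hσ : σ ^ 5 = 1 := by
      have key : ∀ (k : ℕ) (w : W), (((σ ^ k) w : W) : G) = ((m : G) ^ k) * w * ((m : G) ^ k)⁻¹ := by
        intro k
        induction k with
        | zero => intro w; simp
        | succ k ih =>
          intro w
          rw [pow_succ', Equiv.Perm.mul_apply, pow_succ']
          show (m : G) * ((σ ^ k) w : W) * (m : G)⁻¹ = _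
          rw [ih]; group
      refine Equiv.ext fun w => Subtype.ext ?_
      rw [key]
      have h : K.φ (m ^ 5) = K.φ 1 := by rw [map_pow, hm5, map_one]
      have := K.act_congr h (hWA w.2).1
      simpa using this
    let F : Subgroup G :=
      { carrier := {w | w ∈ W ∧ (m : G) * w * (m : G)⁻¹ = w}
        one_mem' := ⟨one_mem _, by simp⟩
        mul_mem' := fun {a b} ha hb => ⟨mul_mem ha.1 hb.1, by
          calc (m : G) * (a * b) * (m : G)⁻¹ = ((m : G) * a * (m : G)⁻¹) * ((m : G) * b * (m : G)⁻¹) := by group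
            _ = a * b := by rw [ha.2, hb.2]⟩
        inv_mem' := fun {a} ha => ⟨inv_mem ha.1, by
          calc (m : G) * a⁻¹ * (m : G)⁻¹ = ((m : G) * a * (m : G)⁻¹)⁻¹ := by group
            _ = a⁻¹ := by rw [ha.2]⟩ }
    have hP : IsPGroup 5 (Subgroup.zpowers σ) := by
      obtain ⟨j, -, hj⟩ := (Nat.dvd_prime_pow Nat.prime_five (m := 1)).1 (show orderOf σ ∣ 5 ^ 1 by
        rw [pow_one]; exact orderOf_dvd_of_pow_eq_one hσ)
      exact IsPGroup.of_card (n := j) (by rw [Nat.card_zpowers, hj])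
    have hmod := hP.card_modEq_card_fixedPoints W
    have hfix : Nat.card (MulAction.fixedPoints (Subgroup.zpowers σ) W) = Nat.card F := by
      refine Nat.card_congr ⟨fun w => ⟨(w.1 : G), w.1.2, congrArg Subtype.val (w.2 ⟨σ, Subgroup.mem_zpowers σ⟩)⟩,
        fun w => ⟨⟨w.1, w.2.1⟩, fun k => ?_⟩, fun w => rfl, fun w => rfl⟩
      have hs : σ ∈ MulAction.stabilizer (Equiv.Perm W) (⟨w.1, w.2.1⟩ : W) := Subtype.ext w.2.2
      exact (Subgroup.zpowers_le.2 hs) k.2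
    have hFW : F ≤ W := fun w hw => hw.1
    obtain ⟨a, ha, ea⟩ := (Nat.dvd_prime_pow Nat.prime_three (m := 3)).1
      (show Nat.card W ∣ 3 ^ 3 from (show 3 ^ 3 = Nat.card D.A by rw [D.card_S.2.2]; norm_num) ▸
        Subgroup.card_dvd_of_le hWA)
    obtain ⟨b, hb, eb⟩ := (Nat.dvd_prime_pow Nat.prime_three (m := a)).1 (ea ▸ Subgroup.card_dvd_of_le hFW)
    rw [hfix, ea, eb, Nat.ModEq] at hmod
    have heq : F = W := Subgroup.eq_of_le_of_card_ge hFW (by
      rw [ea, eb]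
      interval_cases a <;> interval_cases b <;> first | omega | simp_all)
    have hzW : z ∈ W := Subgroup.subset_closure ⟨1, by simp⟩
    rw [← heq] at hzW
    exact hzW.2
  obtain ⟨x, y, hxy, hxs, hx5, hy5, hx1, hy1⟩ := six_five
  obtain ⟨m, hm⟩ := K.exists_lift hxs
  set n := m⁻¹ * K.g with hn
  have hφn : K.φ n = y := by rw [hn, map_mul, map_inv, hm, K.hg, ← hxy]; group
  have e : (K.g : G) * z * (K.g : G)⁻¹ = z := by
    rw [show (K.g : G) = m * n by simp [hn], show (m : G) * n * z * ((m : G) * n)⁻¹ =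
      m * ((n : G) * z * (n : G)⁻¹) * (m : G)⁻¹ by group, h5 n (hφn ▸ hy1) (hφn.symm ▸ hy5),
      h5 m (hm ▸ hx1) (hm.symm ▸ hx5)]
  refine K.g_not_NZ ?_
  rw [Subgroup.mem_normalizer_iff_map_conj_eq]
  refine Subgroup.eq_of_le_of_card_ge ?_ (le_of_eq (Subgroup.card_map_of_injective (MulEquiv.injective _)).symm)
  rintro _ ⟨w, hw, rfl⟩
  show (K.g : G) * w * (K.g : G)⁻¹ ∈ D.Z
  rcases Z_gen hz h1 hw with rfl | rfl | rfl
  · simp
  · rw [e]; exact hw
  · rw [show (K.g : G) * z⁻¹ * (K.g : G)⁻¹ = ((K.g : G) * z * (K.g : G)⁻¹)⁻¹ by group, e]; exact hw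

theorem fixed_A {a : G} (ha : a ∈ D.A) (h : (K.t : G) * a * (K.t : G)⁻¹ = a) : a ∈ D.Z := by
  refine D.center_Q ha.2 fun q hq => ?_
  have hqS := D.QS hq
  set q' := (K.t : G) * q * (K.t : G)⁻¹ with hq'
  have hd : q * q' ∈ D.A := by
    have htN : (K.t : G) ∈ Subgroup.normalizer (D.Z : Set G) := by
      rw [t, Subgroup.coe_mul]; exact mul_mem K.f_NZ K.f_NZ
    have hq'Q : q' ∈ D.Q := mem_norm (D.Q_conj htN) hq
    refine ⟨?_, mul_mem hq hq'Q⟩
    have hM : q * q' ∈ D.M := D.S_le_M (mul_mem hqS (D.QS hq'Q))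
    refine (K.ker ⟨q * q', hM⟩).1 ?_
    have e1 : (⟨q * q', hM⟩ : D.M) = ⟨q, D.S_le_M hqS⟩ * (K.t * ⟨q, D.S_le_M hqS⟩ * K.t⁻¹) := Subtype.ext rfl
    rw [e1, map_mul, map_mul, map_mul, map_inv, K.φ_t]
    rw [six_f.2.1 _ ((K.hS ⟨q, D.S_le_M hqS⟩).1 hqS), mul_inv_cancel]
  -- the commutator with `a` is inverted
  set c := ⁅q, a⁆ with hc
  have hcZ : c ∈ D.Z := D.comm_Q hq ha.2
  have h1 : ⁅q', a⁆ = c := by
    rw [← K.t_Z hcZ, hq', hc]
    nth_rw 1 [← h]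
    simp only [commutatorElement_def]; group
  have h2 : c * c = 1 := by
    have hab : (q * q') * a = a * (q * q') := D.Jc _ hd.1 a ha.1
    have hz := (D.mem_Z.1 hcZ).2 q hqS
    rw [hc] at hz ⊢
    rw [commutatorElement_def] at h1 hz ⊢
    have e2 : q' * a * q'⁻¹ = q * a * q⁻¹ := by
      calc q' * a * q'⁻¹ = q' * a * q'⁻¹ * a⁻¹ * a := by group
        _ = q * a * q⁻¹ := by rw [h1, hc]; group
    calc q * a * q⁻¹ * a⁻¹ * (q * a * q⁻¹ * a⁻¹) = q * a * q⁻¹ * a⁻¹ * q * a * q⁻¹ * a⁻¹ := by group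
      _ = q * (q * a * q⁻¹ * a⁻¹) * q⁻¹ * (q * a * q⁻¹ * a⁻¹) := by rw [hz]; group
      _ = q * (q * a * q⁻¹) * q⁻¹ * a⁻¹ := by
          rw [show q * (q * a * q⁻¹ * a⁻¹) * q⁻¹ = q * (q * a * q⁻¹) * q⁻¹ * (q * a⁻¹ * q⁻¹) by group]; group
      _ = q * (q' * a * q'⁻¹) * q⁻¹ * a⁻¹ := by rw [e2]
      _ = (q * q') * a * (q * q')⁻¹ * a⁻¹ := by group
      _ = 1 := by rw [hab]; group
  have h3 : c ^ 3 = 1 := D.Je c (D.Z_le_J hcZ)
  have h4 : c = 1 := by rwa [pow_succ, pow_two, h2, one_mul] at h3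
  exact commutatorElement_eq_one_iff_mul_comm.1 h4

/-- the part of the intersection inverted by the involution -/
def W0 : Subgroup G where
  carrier := {a | a ∈ D.A ∧ (K.t : G) * a * (K.t : G)⁻¹ = a⁻¹}
  one_mem' := ⟨one_mem _, by simp⟩
  mul_mem' := fun {a b} ha hb => ⟨mul_mem ha.1 hb.1, by
    rw [show (K.t : G) * (a * b) * (K.t : G)⁻¹ = ((K.t : G) * a * (K.t : G)⁻¹) * ((K.t : G) * b * (K.t : G)⁻¹) by group,
      ha.2, hb.2, mul_inv_rev]
    exact D.Jc _ (inv_mem ha.1.1) _ (inv_mem hb.1.1)⟩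
  inv_mem' := fun {a} ha => ⟨inv_mem ha.1, by
    rw [show (K.t : G) * a⁻¹ * (K.t : G)⁻¹ = ((K.t : G) * a * (K.t : G)⁻¹)⁻¹ by group, ha.2]⟩

theorem A_split {a : G} (ha : a ∈ D.A) : ∃ c ∈ D.Z, ∃ w ∈ K.W0, a = c * w := by
  set b := (K.t : G) * a * (K.t : G)⁻¹ with hb
  have hbA : b ∈ D.A := mem_norm K.t_NA ha
  have hbb : (K.t : G) * b * (K.t : G)⁻¹ = a := by
    have h : (K.t : G) * (K.t : G) = 1 := by
      rw [← Subgroup.coe_mul]; nth_rw 1 [← K.t_inv]; rw [inv_mul_cancel, Subgroup.coe_one]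
    calc (K.t : G) * b * (K.t : G)⁻¹ = ((K.t : G) * K.t) * a * ((K.t : G) * K.t)⁻¹ := by rw [hb]; group
      _ = a := by rw [h]; group
  refine ⟨(a * b) ^ 2, K.fixed_A (pow_mem (mul_mem ha hbA) 2) ?_, (a * b⁻¹) ^ 2,
    ⟨pow_mem (mul_mem ha (inv_mem hbA)) 2, ?_⟩, ?_⟩
  · rw [← conj_pow, show (K.t : G) * (a * b) * (K.t : G)⁻¹ =
      ((K.t : G) * a * (K.t : G)⁻¹) * ((K.t : G) * b * (K.t : G)⁻¹) by group, hbb, D.Jc b hbA.1 a ha.1]
  · rw [← conj_pow, show (K.t : G) * (a * b⁻¹) * (K.t : G)⁻¹ =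
      ((K.t : G) * a * (K.t : G)⁻¹) * ((K.t : G) * b * (K.t : G)⁻¹)⁻¹ by group, hbb, ← inv_pow, mul_inv_rev, inv_inv]
  · have hab : Commute a b := D.Jc a ha.1 b hbA.1
    rw [hab.mul_pow, (hab.inv_right).mul_pow,
      show a ^ 2 * b ^ 2 * (a ^ 2 * b⁻¹ ^ 2) = a ^ 2 * (b ^ 2 * a ^ 2) * b⁻¹ ^ 2 by group,
      ← (hab.pow_pow 2 2).eq, show a ^ 2 * (a ^ 2 * b ^ 2) * b⁻¹ ^ 2 = a ^ 3 * a by group, D.Je a ha.1, one_mul]

theorem card_W0 : Nat.card K.W0 = 9 := by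
  haveI : Fact (Nat.Prime 3) := ⟨Nat.prime_three⟩
  have hdis : D.Z ⊓ K.W0 = ⊥ := by
    rw [eq_bot_iff]
    rintro a ⟨haZ, haW⟩
    have h := haW.2
    rw [K.t_Z haZ] at h
    rw [Subgroup.mem_bot]
    have h2 : a ^ 2 = 1 := by rw [pow_two]; nth_rw 2 [h]; rw [mul_inv_cancel]
    have h3 := D.Je a (D.Z_le_J haZ)
    rwa [pow_succ, h2, one_mul] at h3
  have hsup : D.Z ⊔ K.W0 = D.A := le_antisymm (sup_le D.Z_le_A fun a ha => ha.1) fun a ha => by
    obtain ⟨c, hc, w, hw, rfl⟩ := K.A_split ha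
    exact mul_mem (Subgroup.mem_sup_left hc) (Subgroup.mem_sup_right hw)
  have h := Cfsg.Agent.Solv.card_sup_mul_card_inf' D.Z K.W0 (fun w hw => cent_le_norm _
    (Subgroup.mem_centralizer_iff.2 fun z hz => D.Jc z (D.Z_le_J hz) w hw.1.1))
  rw [hsup, hdis, Subgroup.card_bot, D.card_S.2.2, D.Z_eq.2] at h
  omega

end Norm

end Cfsg.Agent.MclThree
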