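import Cfsg.Agent.Lib.Recognition.MclThreeLocal.Acts

/-!
The Sylow subgroup acts as the group of transvections of an orthogonal geometry.
-/

set_option autoImplicit false
set_option linter.unusedSectionVars false
set_option synthInstance.maxSize 2000
set_option maxRecDepth 100000

namespace Cfsg.Agent.MclThree

universe u

/-- general shape of a generator -/
def gM (b c d : ZMod 3) (w : V4) : V4 := (w.1 + b * w.2.1 + c * w.2.2.1 + d * w.2.2.2, w.2.1 + w.2.2.2, w.2.2.1, w.2.2.2)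

theorem gM_add (b c d : ZMod 3) (x y : V4) : gM b c d (x + y) = gM b c d x + gM b c d y := by
  simp only [gM, Prod.fst_add, Prod.snd_add, Prod.mk_add_mk, Prod.mk.injEq]
  refine ⟨by ring, by ring, ?_⟩
  simp

theorem raw_one : ∀ b c d : ZMod 3,
    gM b c d (fM 1 (fM 1 (gM b c d (fM 1 (fM 1 (0, 0, 0, 1)))))) = (0, 0, 0, 1) →
    gM b c d (fM 1 (gM b c d (fMi 1 (0, 0, 0, 1)))) = fM 1 (gM b c d (fMi 1 (gM b c d (0, 0, 0, 1)))) →
    (∀ v, gM b c d v = pK b 1 0 v) ∧ ∀ v, fM 1 (gM b c d (fMi 1 v)) = pK b 0 1 v := by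
  decide +kernel

theorem raw_two : ∀ b c d : ZMod 3,
    gM b c d (fM (-1) (fM (-1) (gM b c d (fM (-1) (fM (-1) (0, 0, 0, 1)))))) = (0, 0, 0, 1) →
    gM b c d (fM (-1) (gM b c d (gM b c d (fMi (-1) (0, 0, 0, 1))))) =
      fM (-1) (gM b c d (gM b c d (fMi (-1) (gM b c d (0, 0, 0, 1))))) →
    (∀ v, gM b c d v = pK b 1 0 v) ∧ ∀ v, fM (-1) (gM b c d (gM b c d (fMi (-1) v))) = pK b 0 1 v := by
  decide +kernel

theorem pK_comp : ∀ k u v u' v' : ZMod 3, ∀ w : V4, pK k u v (pK k u' v' w) = pK k (u + u') (v + v') w := by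
  decide +kernel

theorem pK_facts : (∀ k : ZMod 3, ∀ w : V4, pK k 0 0 w = w) ∧
    ∀ u v : ZMod 3, pK 0 u v (0, 1, 0, 0) = (0, 1, 0, 0) := by
  decide +kernel

variable {G : Type u} [Group G] [Finite G] {D : Data G}

namespace Norm.Base

variable {K : Norm D} {z e1 : G} (b : K.Base z e1)
include b

theorem t_acts {l : ZMod 3} (hf : K.Acts z e1 K.f (fM l)) : K.Acts z e1 K.t (fun v => fM l (fM l v)) :=
  b.comp hf hf

theorem wp_eq {c w : G} (hc : c ∈ D.Z) (hw : w ∈ K.W0) : K.wp (c * w) = w := by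
  have hb : (K.t : G) * (c * w) * (K.t : G)⁻¹ = c * w⁻¹ := by
    rw [show (K.t : G) * (c * w) * (K.t : G)⁻¹ = ((K.t : G) * c * (K.t : G)⁻¹) * ((K.t : G) * w * (K.t : G)⁻¹) by group,
      K.t_Z hc, hw.2]
  rw [Norm.wp, hb, mul_inv_rev, inv_inv]
  calc (c * w * (w * c⁻¹)) ^ 2 = c * (w * w) ^ 2 * c⁻¹ := by rw [show c * w * (w * c⁻¹) = c * (w * w) * c⁻¹ by group, conj_pow]
    _ = c * (w ^ 3 * w) * c⁻¹ := by rw [← pow_two, ← pow_mul, show 2 * 2 = 3 + 1 from rfl, pow_succ]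
    _ = c * w * c⁻¹ := by rw [D.Je w hw.1.1, one_mul]
    _ = w := by rw [D.Jc c (D.Z_le_J hc) w hw.1.1, mul_inv_cancel_right]

theorem exists_pre : ∃ p : D.M, (p : G) ∈ (D.S : Subgroup G) ∧ ∃ c ∈ D.Z,
    (p : G) * K.z' z * (p : G)⁻¹ = c * e1 * K.z' z := by
  haveI : Fact (Nat.Prime 3) := ⟨Nat.prime_three⟩
  set d := K.z' z with hd
  have hdJ : d ∈ D.J := b.mems.2.2.2
  let θ : (D.S : Subgroup G) →* K.W0 :=
    { toFun := fun s => ⟨K.wp ((s : G) * d * (s : G)⁻¹ * d⁻¹), by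
        obtain ⟨c, hc, w, hw, e⟩ := K.A_split (Norm.S_z' s.2 hdJ)
        rw [e, b.wp_eq hc hw]; exact hw⟩
      map_one' := Subtype.ext (by simp [Norm.wp])
      map_mul' := fun s s' => Subtype.ext (by
        obtain ⟨c, hc, w, hw, e⟩ := K.A_split (Norm.S_z' s.2 hdJ)
        obtain ⟨c', hc', w', hw', e'⟩ := K.A_split (Norm.S_z' s'.2 hdJ)
        show K.wp ((s : G) * s' * d * ((s : G) * s')⁻¹ * d⁻¹) = K.wp _ * K.wp _
        obtain ⟨k, hk, ek⟩ : ∃ k ∈ D.Z, (s : G) * (c' * w') * (s : G)⁻¹ = k * w' := by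
          refine ⟨(s : G) * (c' * w') * (s : G)⁻¹ * w'⁻¹, ?_, by group⟩
          have h1 := Norm.S_split s.2 (a := c' * w') (mul_mem (D.Z_le_A hc') hw'.1)
          have h2 := mul_mem h1 hc'
          rw [show (s : G) * (c' * w') * (s : G)⁻¹ * (c' * w')⁻¹ * c' = (s : G) * (c' * w') * (s : G)⁻¹ * w'⁻¹ by group] at h2
          exact h2
        have e2 : (s : G) * s' * d * ((s : G) * s')⁻¹ * d⁻¹ = (c * k) * (w * w') := by
          calc (s : G) * s' * d * ((s : G) * s')⁻¹ * d⁻¹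
              = (s : G) * ((s' : G) * d * (s' : G)⁻¹ * d⁻¹) * (s : G)⁻¹ * ((s : G) * d * (s : G)⁻¹ * d⁻¹) := by group
            _ = k * w' * (c * w) := by rw [e', ek, e]
            _ = k * (w' * c) * w := by group
            _ = k * (c * w') * w := by rw [D.Jc w' hw'.1.1 c (D.Z_le_J hc)]
            _ = (k * c) * (w' * w) := by group
            _ = _ := by rw [D.Jc k (D.Z_le_J hk) c (D.Z_le_J hc), D.Jc w' hw'.1.1 w hw.1.1]
        rw [e2, e, e', b.wp_eq (mul_mem hc hk) (mul_mem hw hw'), b.wp_eq hc hw, b.wp_eq hc' hw']) }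
  have hk : Nat.card θ.ker ≤ 81 := by
    rw [← D.hJ]
    refine le_of_eq_of_le (Subgroup.card_map_of_injective (D.S : Subgroup G).subtype_injective).symm
      (Subgroup.card_le_of_le ?_)
    rintro _ ⟨x, hx, rfl⟩
    refine K.S_ker b.hz b.z1 x.2 ?_
    obtain ⟨c, hc, w, hw, e⟩ := K.A_split (Norm.S_z' x.2 hdJ)
    have h1 : K.wp ((x : G) * d * (x : G)⁻¹ * d⁻¹) = 1 := congrArg Subtype.val hx
    rw [e, b.wp_eq hc hw] at h1
    show (x : G) * d * (x : G)⁻¹ * d⁻¹ ∈ D.Z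
    rw [e, h1, mul_one]; exact hc
  have hsurj : θ.range = ⊤ := by
    refine Subgroup.eq_top_of_le_card _ ?_
    have := Subgroup.card_mul_index θ.ker
    rw [Subgroup.index_ker, D.card_S.1] at this
    rw [K.card_W0]
    nlinarith
  obtain ⟨s, hs⟩ : (⟨e1, b.he⟩ : K.W0) ∈ θ.range := hsurj ▸ Subgroup.mem_top _
  obtain ⟨c, hc, w, hw, e⟩ := K.A_split (Norm.S_z' s.2 hdJ)
  have h1 : K.wp ((s : G) * d * (s : G)⁻¹ * d⁻¹) = e1 := congrArg Subtype.val hs
  rw [e, b.wp_eq hc hw] at h1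
  refine ⟨⟨s, D.S_le_M s.2⟩, s.2, c, hc, ?_⟩
  rw [← h1, ← e]
  group

theorem exists_raw : ∃ l k : ZMod 3, (l = 1 ∨ l = -1) ∧ k ≠ 0 ∧ K.Acts z e1 K.f (fM l) ∧
    ∀ u v : ZMod 3, ∃ p : D.M, (p : G) ∈ (D.S : Subgroup G) ∧ K.Acts z e1 p (pK k u v) := by
  obtain ⟨l, hl, hf, hfi⟩ := b.exists_f
  obtain ⟨p, hp, c0, hc0, hpz'⟩ := b.exists_pre
  have toPw : ∀ {x : G}, x ∈ D.Z → ∃ a, x = pw z a := fun {x} hx => by
    rcases Norm.Z_gen b.hz b.z1 hx with h | h | h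
    · exact ⟨0, by rw [pw_zero]; exact h⟩
    · exact ⟨1, by rw [pw_one]; exact h⟩
    · refine ⟨-1, h.trans (inv_eq_of_mul_eq_one_right ?_)⟩
      nth_rw 1 [← pw_one z]
      rw [← pw_add (D.Je _ b.mems.1), add_neg_cancel, pw_zero]
  obtain ⟨d, rfl⟩ := toPw hc0
  obtain ⟨bb, hbb⟩ := toPw (Norm.S_split hp b.he.1)
  obtain ⟨cc, hcc⟩ := toPw (Norm.S_split hp (K.f_W0 b.he).1)
  have hpz : (p : G) * z * (p : G)⁻¹ = z := by rw [(D.mem_Z.1 b.hz).2 p hp, mul_inv_cancel_right]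
  have hp1 : K.Acts z e1 p (gM bb cc d) := by
    refine b.acts_of_basis _ _ (gM_add _ _ _) ?_ ?_ ?_ ?_
    · rw [hpz]; simp [Norm.ι, gM, pw_one, pw_zero]
    · simp [Norm.ι, gM, pw_one, pw_zero, ← hbb]
    · simp only [Norm.ι, gM, mul_zero, mul_one, add_zero, zero_add, pw_one, pw_zero, one_mul, ← hcc]
      group
    · rw [hpz']; simp [Norm.ι, gM, pw_one, pw_zero]
  have ht := b.t_acts hf
  have hone : K.Acts z e1 1 (fun v => v) := fun v => by simp
  have hp6 := (K.hS p).1 hp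
  have h1 : ∀ v, gM bb cc d (fM l (fM l (gM bb cc d (fM l (fM l v))))) = v := fun v => by
    refine b.eq (b.comp hp1 (b.comp ht (b.comp hp1 ht))) hone ?_ v
    have hf4 : f6 * f6 * (f6 * f6) = 1 := six_rel.2.2.2.2.2.1
    have hinv := six_f.2.1 _ hp6
    rw [map_mul, map_mul, map_mul, map_one, K.φ_t]
    generalize f6 * f6 = T at hf4 hinv ⊢
    calc K.φ p * (T * (K.φ p * T))
        = K.φ p * (T * K.φ p * T⁻¹) * (T * T) := by simp [mul_assoc]
      _ = 1 := by rw [hinv, hf4, mul_inv_cancel, mul_one]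
  have hcomm : ∀ q ∈ l6, ∀ q' ∈ l6, q * q' = q' * q := by decide +kernel
  have hfp : K.φ (K.f * p * K.f⁻¹) ∈ l6 := by
    rw [map_mul, map_mul, map_inv, K.hf]
    exact six_f.1 _ hp6
  have hq : (K.f * p * K.f⁻¹ : D.M).1 ∈ (D.S : Subgroup G) := (K.hS _).2 hfp
  -- the second generator
  obtain ⟨hk, q, hq', hq2, e1'⟩ : ((∀ v, gM bb cc d v = pK bb 1 0 v) ∧ ∃ q : D.M,
      (q : G) ∈ (D.S : Subgroup G) ∧ K.Acts z e1 q (pK bb 0 1) ∧ True) := by
    rcases hl with rfl | rfl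
    · have hact := b.comp (b.comp hf hp1) hfi
      have h2 : gM bb cc d (fM 1 (gM bb cc d (fMi 1 (0, 0, 0, 1)))) = fM 1 (gM bb cc d (fMi 1 (gM bb cc d (0, 0, 0, 1)))) := by
        refine b.eq (b.comp hp1 hact) (b.comp hact hp1) ?_ _
        rw [map_mul, map_mul _ (K.f * p * K.f⁻¹)]
        exact hcomm _ hp6 _ hfp
      obtain ⟨ha, hb⟩ := raw_one bb cc d (h1 _) h2
      exact ⟨ha, _, hq, fun v => by rw [← hb]; exact hact v, trivial⟩
    · have hact := b.comp (b.comp (b.comp hf hp1) hp1) hfi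
      have hfp2 : K.φ (K.f * p * p * K.f⁻¹) ∈ l6 := by
        rw [show K.f * p * p * K.f⁻¹ = (K.f * p * K.f⁻¹) * (K.f * p * K.f⁻¹) by group, map_mul]
        exact mem_syl6.1 (mul_mem (mem_syl6.2 hfp) (mem_syl6.2 hfp))
      have h2 : gM bb cc d (fM (-1) (gM bb cc d (gM bb cc d (fMi (-1) (0, 0, 0, 1))))) =
          fM (-1) (gM bb cc d (gM bb cc d (fMi (-1) (gM bb cc d (0, 0, 0, 1))))) := by
        refine b.eq (b.comp hp1 hact) (b.comp hact hp1) ?_ _
        rw [map_mul, map_mul _ (K.f * p * p * K.f⁻¹)]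
        exact hcomm _ hp6 _ hfp2
      obtain ⟨ha, hb⟩ := raw_two bb cc d (h1 _) h2
      exact ⟨ha, _, (K.hS _).2 hfp2, fun v => by rw [← hb]; exact hact v, trivial⟩
  clear e1'
  have hP : K.Acts z e1 p (pK bb 1 0) := fun v => by rw [← hk]; exact hp1 v
  have hmul : ∀ {m n : D.M} {u v u' v' : ZMod 3}, K.Acts z e1 m (pK bb u v) → K.Acts z e1 n (pK bb u' v') →
      K.Acts z e1 (m * n) (pK bb (u + u') (v + v')) := fun {m n u v u' v'} hm hn w => by
    rw [← pK_comp]; exact b.comp hm hn w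
  have hpow : ∀ (i j : ℕ), K.Acts z e1 (p ^ i * q ^ j) (pK bb (i : ZMod 3) (j : ZMod 3)) := by
    have h0 : K.Acts z e1 1 (pK bb 0 0) := fun v => by rw [pK_facts.1]; exact hone v
    have hi : ∀ i : ℕ, K.Acts z e1 (p ^ i) (pK bb (i : ZMod 3) 0) := by
      intro i
      induction i with
      | zero => rw [pow_zero, Nat.cast_zero]; exact h0
      | succ i ih =>
        have := hmul ih hP
        rw [add_zero] at this
        rw [pow_succ, Nat.cast_succ]; exact this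
    intro i j
    induction j with
    | zero => rw [pow_zero, mul_one, Nat.cast_zero]; exact hi i
    | succ j ih =>
      have := hmul ih hq2
      rw [add_zero] at this
      rw [pow_succ, ← mul_assoc, Nat.cast_succ]; exact this
  have hall : ∀ u v : ZMod 3, ∃ m : D.M, (m : G) ∈ (D.S : Subgroup G) ∧ K.Acts z e1 m (pK bb u v) := fun u v => by
    refine ⟨p ^ u.val * q ^ v.val, ?_, ?_⟩
    · simp only [Subgroup.coe_mul, Subgroup.coe_pow]
      exact mul_mem (pow_mem hp _) (pow_mem hq' _)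
    · have := hpow u.val v.val
      rwa [ZMod.natCast_zmod_val, ZMod.natCast_zmod_val] at this
  refine ⟨l, bb, hl, fun h0 => ?_, hf, hall⟩
  subst h0
  -- otherwise the basis vector would be central
  haveI : Fact (Nat.Prime 3) := ⟨Nat.prime_three⟩
  let C : Subgroup G := Subgroup.centralizer ({e1} : Set G) ⊓ D.S
  have hsub : (D.S : Subgroup G) ≤ Subgroup.centralizer ({e1} : Set G) := by
    intro s hs
    -- every element is a product
    have hx : ∃ u v : ZMod 3, K.φ ⟨s, D.S_le_M hs⟩ = K.φ p ^ u.val * K.φ q ^ v.val := by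
      have hinj : Function.Injective (fun uv : ZMod 3 × ZMod 3 =>
          (⟨K.φ p ^ uv.1.val * K.φ q ^ uv.2.val, mem_syl6.2 (mem_syl6.1 (mul_mem (pow_mem (mem_syl6.2 hp6) _)
            (pow_mem (mem_syl6.2 ((K.hS q).1 hq')) _)))⟩ : syl6)) := by
        rintro ⟨u, v⟩ ⟨u', v'⟩ e
        have e' : K.φ (p ^ u.val * q ^ v.val) = K.φ (p ^ u'.val * q ^ v'.val) := by
          rw [map_mul, map_mul, map_pow, map_pow, map_pow, map_pow]; exact congrArg Subtype.val e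
        have hE := b.eq (hpow u.val v.val) (hpow u'.val v'.val) e' (0, 0, 0, 1)
        rw [ZMod.natCast_zmod_val, ZMod.natCast_zmod_val, ZMod.natCast_zmod_val, ZMod.natCast_zmod_val] at hE
        simp only [pK, zero_add, mul_one, Prod.mk.injEq] at hE
        exact Prod.ext hE.2.1 hE.2.2.1
      have hb := (Nat.bijective_iff_injective_and_card _).2 ⟨hinj, by
        rw [card_syl6, Nat.card_eq_fintype_card]; rfl⟩
      obtain ⟨⟨u, v⟩, e⟩ := hb.2 ⟨_, (K.hS ⟨s, D.S_le_M hs⟩).1 hs⟩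
      exact ⟨u, v, (congrArg Subtype.val e).symm⟩
    obtain ⟨u, v, e⟩ := hx
    have he : K.ι z e1 (0, 1, 0, 0) = e1 := by simp [Norm.ι, pw_one, pw_zero]
    have h := K.act_congr (m := ⟨s, D.S_le_M hs⟩) (m' := p ^ u.val * q ^ v.val)
      (by rw [e, map_mul, map_pow, map_pow]) b.mems.2.1
    have h' := hpow u.val v.val (0, 1, 0, 0)
    rw [pK_facts.2, he] at h'
    rw [h'] at h
    exact Subgroup.mem_centralizer_singleton_iff.2 (mul_inv_eq_iff_eq_mul.1 h)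
  have hZ : e1 ∈ D.Z := D.mem_Z.2 ⟨D.hJS b.mems.2.1, fun s hs => Subgroup.mem_centralizer_singleton_iff.1 (hsub hs)⟩
  have h := b.he.2
  rw [K.t_Z hZ] at h
  refine b.e1ne ?_
  have h3 := D.Je _ b.mems.2.1
  rwa [pow_succ, pow_two, show e1 * e1 = 1 by nth_rw 2 [h]; rw [mul_inv_cancel], one_mul] at h3

end Norm.Base

end Cfsg.Agent.MclThree
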