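import Mathlib

/-!
Computations in the alternating group of degree six: a Sylow 3-subgroup, a four-cycle of its normaliser, an
involution moving it.
-/

set_option autoImplicit false
set_option maxRecDepth 100000

namespace Cfsg.Agent.MclThree

open Equiv

abbrev P6 := Equiv.Perm (Fin 6)

/-- first generator of the Sylow 3-subgroup -/
def a6 : P6 := swap 0 1 * swap 1 2

/-- second generator of the Sylow 3-subgroup -/
def b6 : P6 := swap 3 4 * swap 4 5

/-- an element of order four normalising the Sylow 3-subgroup -/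
def f6 : P6 := swap 0 3 * swap 3 1 * swap 1 5 * swap 2 4

/-- an involution inverting `f6` -/
def g6 : P6 := swap 2 4 * swap 0 1

/-- an element of order three permuting `f6 ^ 2`, `g6` and their product -/
def r6 : P6 := swap 0 2 * swap 2 3 * (swap 1 4 * swap 4 5)

/-- the elements of the Sylow 3-subgroup -/
def l6 : List P6 := [1, a6, a6 * a6, b6, a6 * b6, a6 * a6 * b6, b6 * b6, a6 * (b6 * b6), a6 * a6 * (b6 * b6)]

/-- normalising the Sylow 3-subgroup -/
def N6 (x : P6) : Prop := ∀ p ∈ l6, x * p * x⁻¹ ∈ l6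

instance (x : P6) : Decidable (N6 x) := by unfold N6; infer_instance

/-- the Sylow 3-subgroup -/
def syl6 : Subgroup P6 where
  carrier := {x | x ∈ l6}
  one_mem' := by decide
  mul_mem' := by
    have h : ∀ x ∈ l6, ∀ y ∈ l6, x * y ∈ l6 := by decide +kernel
    exact fun {x y} hx hy => h x hx y hy
  inv_mem' := by
    have h : ∀ x ∈ l6, x⁻¹ ∈ l6 := by decide +kernel
    exact fun {x} hx => h x hx

theorem mem_syl6 {x : P6} : x ∈ syl6 ↔ x ∈ l6 := Iff.rfl

theorem card_syl6 : Nat.card syl6 = 9 := by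
  have h : l6.Nodup := by decide +kernel
  rw [Nat.card_congr (Equiv.subtypeEquivRight (q := fun x => x ∈ l6.toFinset) fun x => by simp [mem_syl6]),
    Nat.card_eq_finsetCard, List.toFinset_card_of_nodup h]
  rfl

theorem six_rel : Perm.sign a6 = 1 ∧ Perm.sign b6 = 1 ∧ Perm.sign f6 = 1 ∧ Perm.sign g6 = 1 ∧ Perm.sign r6 = 1 ∧
    f6 * f6 * (f6 * f6) = 1 ∧ f6 * f6 ≠ 1 ∧ g6 * g6 = 1 ∧ g6 * f6 * g6⁻¹ = f6⁻¹ ∧ r6 * r6 * r6 = 1 ∧
    r6 * (f6 * f6) * r6⁻¹ = g6 ∧ r6 * g6 * r6⁻¹ = f6 * f6 * g6 ∧ ¬ N6 g6 ∧ g6 ≠ f6 * f6 := by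
  decide +kernel

theorem six_f : N6 f6 ∧ (∀ p ∈ l6, f6 * f6 * p * (f6 * f6)⁻¹ = p⁻¹) ∧
    ∀ p ∈ l6, p ≠ 1 → ∀ q ∈ l6, ∃ i < 3, ∃ j < 3, q = p ^ i * (f6 * p * f6⁻¹) ^ j := by
  decide +kernel

theorem N6_mul {x y : P6} (hx : N6 x) (hy : N6 y) : N6 (x * y) := fun p hp => by
  rw [show x * y * p * (x * y)⁻¹ = x * (y * p * y⁻¹) * x⁻¹ by group]
  exact hx _ (hy p hp)

theorem N6_syl {p : P6} (hp : p ∈ l6) : N6 p := fun q hq =>
  mem_syl6.1 (mul_mem (mul_mem (mem_syl6.2 hp) (mem_syl6.2 hq)) (inv_mem (mem_syl6.2 hp)))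

theorem N6_pow : ∀ i, N6 (f6 ^ i)
  | 0 => fun p hp => by simpa using hp
  | i + 1 => by rw [pow_succ]; exact N6_mul (N6_pow i) six_f.1

theorem N6_pow_f {x : P6} (hx : N6 x) (i : ℕ) : N6 (x * f6 ^ i) := N6_mul hx (N6_pow i)

/-- the two double cosets of the normaliser of the Sylow 3-subgroup -/
def cosets6 : List P6 :=
  (l6.flatMap fun p => (List.range 4).map fun i => p * f6 ^ i) ++
    (l6.flatMap fun p => l6.flatMap fun q => (List.range 4).map fun i => p * g6 * (q * f6 ^ i))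

theorem cosets6_facts : (cosets6.map fun x : P6 =>
    (x 0).val + 6 * ((x 1).val + 6 * ((x 2).val + 6 * ((x 3).val + 6 * (x 4).val)))).Nodup ∧
    cosets6.length = 360 := by
  decide +kernel

theorem cosets6_all {x : P6} (hx : Perm.sign x = 1) : x ∈ cosets6 := by
  have hs : ∀ y ∈ cosets6, Perm.sign y = 1 := by
    obtain ⟨ha, hb, hf, hg, -⟩ := six_rel
    have hl : ∀ p ∈ l6, Perm.sign p = 1 := by decide +kernel
    intro y hy
    simp only [cosets6, List.mem_append, List.mem_flatMap, List.mem_map] at hy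
    rcases hy with ⟨p, hp, i, -, rfl⟩ | ⟨p, hp, q, hq, i, -, rfl⟩ <;>
      simp only [map_mul, map_pow, hf, hg, hl p hp, one_pow, one_mul, mul_one]
    exact hl q hq
  have hnd : cosets6.toFinset.card = 360 := by
    rw [List.toFinset_card_of_nodup (List.Nodup.of_map _ cosets6_facts.1), cosets6_facts.2]
  have hc : (Finset.univ.filter fun y : P6 => Perm.sign y = 1).card = 360 := by
    have h := nat_card_alternatingGroup (α := Fin 6)
    rw [Nat.card_fin] at h
    rw [← Nat.card_eq_finsetCard]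
    exact (Nat.card_congr (Equiv.subtypeEquivRight fun y => by simp)).trans h
  have he := Finset.eq_of_subset_of_card_le (s := cosets6.toFinset)
    (t := Finset.univ.filter fun y : P6 => Perm.sign y = 1)
    (fun y hy => Finset.mem_filter.2 ⟨Finset.mem_univ _, hs y (List.mem_toFinset.1 hy)⟩) (by rw [hc, hnd])
  exact List.mem_toFinset.1 (he ▸ Finset.mem_filter.2 ⟨Finset.mem_univ _, hx⟩)

theorem six_norm {x : P6} (hx : Perm.sign x = 1) (hn : N6 x) : ∃ p ∈ l6, ∃ i < 4, x = p * f6 ^ i := by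
  have h := cosets6_all hx
  simp only [cosets6, List.mem_append, List.mem_flatMap, List.mem_map, List.mem_range] at h
  rcases h with ⟨p, hp, i, hi, rfl⟩ | ⟨p, hp, q, hq, i, hi, rfl⟩
  · exact ⟨p, hp, i, hi, rfl⟩
  · exfalso
    have hinv : N6 (q * f6 ^ i)⁻¹ := fun r hr => by
      obtain ⟨r', hr', rfl⟩ : ∃ r' ∈ l6, q * f6 ^ i * r' * (q * f6 ^ i)⁻¹ = r := by
        have hN := N6_pow_f (N6_syl hq) i
        have hb : Function.Bijective fun r : {r // r ∈ l6} => (⟨_, hN r.1 r.2⟩ : {r // r ∈ l6}) :=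
          Finite.injective_iff_bijective.1 fun a b e =>
            Subtype.ext (by simpa using congrArg Subtype.val e)
        obtain ⟨r', hr'⟩ := hb.2 ⟨r, hr⟩
        exact ⟨r'.1, r'.2, congrArg Subtype.val hr'⟩
      rwa [show (q * f6 ^ i)⁻¹ * (q * f6 ^ i * r' * (q * f6 ^ i)⁻¹) * ((q * f6 ^ i)⁻¹)⁻¹ = r' by group]
    refine six_rel.2.2.2.2.2.2.2.2.2.2.2.2.1 ?_
    have := N6_mul (N6_mul (N6_syl (mem_syl6.1 (inv_mem (mem_syl6.2 hp)))) hn) hinv
    rwa [show p⁻¹ * (p * g6 * (q * f6 ^ i)) * (q * f6 ^ i)⁻¹ = g6 by group] at this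

theorem six_coset {x : P6} (hx : Perm.sign x = 1) :
    N6 x ∨ ∃ p ∈ l6, ∃ q ∈ l6, ∃ i < 4, x = p * g6 * (q * f6 ^ i) := by
  have h := cosets6_all hx
  simp only [cosets6, List.mem_append, List.mem_flatMap, List.mem_map, List.mem_range] at h
  rcases h with ⟨p, hp, i, -, rfl⟩ | ⟨p, hp, q, hq, i, hi, rfl⟩
  · exact Or.inl (N6_pow_f (N6_syl hp) i)
  · exact Or.inr ⟨p, hp, q, hq, i, hi, rfl⟩

theorem six_reg : ∀ p ∈ l6, N6 (g6⁻¹ * p * g6) → p = 1 := by decide +kernel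

end Cfsg.Agent.MclThree
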