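import Cfsg.Agent.Lib.Recognition.MclThreeLocal.Aniso4

/-!
The centraliser of the involution modulo the involution.
-/

set_option autoImplicit false
set_option linter.unusedSectionVars false
set_option synthInstance.maxSize 2000
set_option maxRecDepth 100000

namespace Cfsg.Agent.MclThree

universe u

/-- two homomorphisms with the same kernel have isomorphic images -/
theorem range_equiv {X A B : Type*} [Group X] [Group A] [Group B] (φ : X →* A) (ψ : X →* B)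
    (h : ∀ x, φ x = 1 ↔ ψ x = 1) : Nonempty (φ.range ≃* ψ.range) :=
  ⟨(QuotientGroup.quotientKerEquivRange φ).symm.trans
    ((QuotientGroup.quotientMulEquivOfEq (show φ.ker = ψ.ker from Subgroup.ext h)).trans
      (QuotientGroup.quotientKerEquivRange ψ))⟩

theorem iso_axis : ∀ v : V4, nf v = 0 → v.2.1 = 0 → v.2.2.1 = 0 → v.1 = 0 ∨ v.2.2.2 = 0 := by
  decide +kernel

theorem g4_cube : ∀ v : V4, g4 (g4 (g4 v)) = g4 v := by decide +kernel

variable {G : Type u} [Group G] [Finite G] {D : Data G}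

namespace Ctx

variable (C : Ctx D)

/-- the centraliser of the involution -/
abbrev Ct : Subgroup G := Subgroup.centralizer ({(C.t : G)} : Set G)

/-- the subgroup of the involution in it -/
abbrev T : Subgroup C.Ct := (Subgroup.zpowers (C.t : G)).subgroupOf C.Ct

instance T_normal : C.T.Normal := ⟨fun n hn x => by
  obtain ⟨i, hi⟩ := Subgroup.mem_zpowers_iff.1 (Subgroup.mem_subgroupOf.1 hn)
  refine Subgroup.mem_subgroupOf.2 (Subgroup.mem_zpowers_iff.2 ⟨i, ?_⟩)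
  rw [Subgroup.coe_mul, Subgroup.coe_mul, Subgroup.coe_inv, ← hi,
    ((Commute.zpow_right (show Commute (x : G) C.t from Subgroup.mem_centralizer_singleton_iff.1 x.2) i)).eq,
    mul_inv_cancel_right]⟩

/-- the quotient by the involution -/
abbrev Hq : Type u := C.Ct ⧸ C.T

/-- the projection -/
abbrev πh : C.Ct →* C.Hq := QuotientGroup.mk' C.T

/-- image of a subgroup -/
abbrev imh (P : Subgroup G) : Subgroup C.Hq := (P.subgroupOf C.Ct).map C.πh

variable {C}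

theorem mem_Ct {x : G} : x ∈ C.Ct ↔ x * C.t = C.t * x := Subgroup.mem_centralizer_singleton_iff

theorem mem_t {x : G} (h : x ∈ Subgroup.zpowers (C.t : G)) : x = 1 ∨ x = C.t := by
  obtain ⟨i, rfl⟩ := Subgroup.mem_zpowers_iff.1 h
  rcases Int.even_or_odd i with ⟨j, rfl⟩ | ⟨j, rfl⟩
  · left; rw [← two_mul, zpow_mul, zpow_two, C.t_sq, one_zpow]
  · right; rw [zpow_add, zpow_mul, zpow_two, C.t_sq, one_zpow, one_mul, zpow_one]

theorem πh_one {x : C.Ct} : C.πh x = 1 ↔ (x : G) = 1 ∨ (x : G) = C.t := by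
  rw [QuotientGroup.mk'_apply, QuotientGroup.eq_one_iff, Subgroup.mem_subgroupOf]
  exact ⟨mem_t, fun h => h.elim (fun e => e ▸ one_mem _) fun e => e ▸ Subgroup.mem_zpowers _⟩

theorem πh_eq {x y : C.Ct} : C.πh x = C.πh y ↔ (x : G) = y ∨ (x : G) = y * C.t := by
  rw [← inv_mul_eq_one, ← map_inv, ← map_mul, πh_one]
  push_cast
  constructor
  · rintro (h | h)
    · exact Or.inl (inv_mul_eq_one.1 h)
    · right
      rw [inv_mul_eq_iff_eq_mul] at h
      rw [h, mul_assoc, C.t_sq, mul_one]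
  · rintro (h | h)
    · exact Or.inl (inv_mul_eq_one.2 h)
    · right
      rw [inv_mul_eq_iff_eq_mul, h, mul_assoc, C.t_sq, mul_one]

theorem mul_t_three {a : G} (ha : a ∈ C.Ct) (h : a ^ 3 = 1) : (a * C.t) ^ 3 = C.t := by
  rw [Commute.mul_pow (mem_Ct.1 ha) 3, h, one_mul, pow_succ, pow_two, C.t_sq, one_mul]

/-- conjugation modulo the involution is exact on elements of order three -/
theorem lift_conj3 {x a b : C.Ct} (ha : (a : G) ^ 3 = 1) (hb : (b : G) ^ 3 = 1)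
    (h : C.πh (x * a * x⁻¹) = C.πh b) : (x : G) * a * (x : G)⁻¹ = b := by
  rcases πh_eq.1 h with e | e
  · simpa using e
  · exfalso
    have h3 := congrArg (· ^ 3) e
    simp only [Subgroup.coe_mul, Subgroup.coe_inv, conj_pow, ha, mul_one, mul_inv_cancel, mul_t_three b.2 hb] at h3
    exact C.t_ne h3.symm

theorem mem_imh {P : Subgroup G} {q : C.Hq} : q ∈ C.imh P ↔ ∃ x : C.Ct, (x : G) ∈ P ∧ C.πh x = q := Iff.rfl

theorem card_imh {P : Subgroup G} (hP : P ≤ C.Ct) (ht : (C.t : G) ∈ P) : Nat.card (C.imh P) * 2 = Nat.card P := by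
  set ρ : P →* C.Hq := C.πh.comp (Subgroup.inclusion hP) with hρ
  have hr : ρ.range = C.imh P := by
    ext q
    constructor
    · rintro ⟨n, rfl⟩; exact ⟨_, n.2, rfl⟩
    · rintro ⟨n, hn, rfl⟩; exact ⟨⟨n, hn⟩, rfl⟩
  have hk : Nat.card ρ.ker = 2 := by
    rw [← C.order_t, ← Nat.card_zpowers,
      ← Nat.card_congr (Subgroup.subgroupOfEquivOfLe (Subgroup.zpowers_le.2 ht)).toEquiv]
    refine Nat.card_congr (Equiv.setCongr ?_)
    ext n
    show C.πh (Subgroup.inclusion hP n) = 1 ↔ _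
    rw [πh_one]
    exact ⟨fun h => h.elim (fun e => Subgroup.mem_subgroupOf.2 (by
        rw [show (n : G) = 1 from e]; exact one_mem _))
      (fun e => Subgroup.mem_subgroupOf.2 (by rw [show (n : G) = C.t from e]; exact Subgroup.mem_zpowers _)),
      fun h => mem_t (Subgroup.mem_subgroupOf.1 h)⟩
  have := ρ.ker.card_mul_index
  rw [Subgroup.index_ker, hr, hk] at this
  omega

theorem card_imh_odd {P : Subgroup G} (hP : P ≤ C.Ct) (h3 : ∀ a ∈ P, a ^ 3 = 1) :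
    Nat.card (C.imh P) = Nat.card P := by
  refine (Nat.card_eq_of_bijective (fun a : P => (⟨C.πh ⟨a, hP a.2⟩, _, a.2, rfl⟩ : C.imh P)) ⟨fun a b e => ?_, ?_⟩).symm
  · have e' := congrArg Subtype.val e
    rcases πh_eq.1 e' with h | h
    · exact Subtype.ext h
    · exfalso
      have h3' := congrArg (· ^ 3) (show (a : G) = b * C.t from h)
      simp only [h3 _ a.2, mul_t_three (hP b.2) (h3 _ b.2)] at h3'
      exact C.t_ne h3'.symm
  · rintro ⟨_, n, hn, rfl⟩; exact ⟨⟨n, hn⟩, rfl⟩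

theorem normalizer_imh {P : Subgroup G} (hP : P ≤ C.Ct) (h3 : ∀ a ∈ P, a ^ 3 = 1) :
    Subgroup.normalizer (C.imh P : Set C.Hq) = C.imh (C.Ct ⊓ Subgroup.normalizer (P : Set G)) := by
  ext q
  obtain ⟨x, rfl⟩ := QuotientGroup.mk'_surjective C.T q
  constructor
  · intro h
    refine ⟨x, ⟨x.2, ?_⟩, rfl⟩
    show (x : G) ∈ Subgroup.normalizer (P : Set G)
    rw [Subgroup.mem_normalizer_iff_map_conj_eq]
    refine Subgroup.eq_of_le_of_card_ge ?_ (le_of_eq (Subgroup.card_map_of_injective (MulEquiv.injective _)).symm)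
    rintro _ ⟨a, ha, rfl⟩
    have hm := mem_norm h (⟨⟨a, hP ha⟩, ha, rfl⟩ : C.πh ⟨a, hP ha⟩ ∈ C.imh P)
    obtain ⟨b, hb, e⟩ := hm
    show (x : G) * a * (x : G)⁻¹ ∈ P
    rw [lift_conj3 (x := x) (a := ⟨a, hP ha⟩) (b := b) (h3 a ha) (h3 _ hb)
      (by rw [map_mul, map_mul, map_inv]; exact e.symm)]
    exact hb
  · rintro ⟨y, hy, e⟩
    rw [← e, Subgroup.mem_normalizer_iff_map_conj_eq]
    refine Subgroup.eq_of_le_of_card_ge ?_ (le_of_eq (Subgroup.card_map_of_injective (MulEquiv.injective _)).symm)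
    rintro _ ⟨_, ⟨a, ha, rfl⟩, rfl⟩
    exact ⟨y * a * y⁻¹, (show ((y * a * y⁻¹ : C.Ct) : G) ∈ P from mem_norm (show (y : G) ∈ Subgroup.normalizer (P : Set G) from hy.2) ha), by simp⟩

theorem centralizer_imh {P : Subgroup G} (hP : P ≤ C.Ct) (h3 : ∀ a ∈ P, a ^ 3 = 1) :
    Subgroup.centralizer (C.imh P : Set C.Hq) = C.imh (C.Ct ⊓ Subgroup.centralizer (P : Set G)) := by
  ext q
  obtain ⟨x, rfl⟩ := QuotientGroup.mk'_surjective C.T q
  constructor
  · intro h
    refine ⟨x, ⟨x.2, Subgroup.mem_centralizer_iff.2 fun a ha => ?_⟩, rfl⟩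
    have hm := Subgroup.mem_centralizer_iff.1 h (C.πh ⟨a, hP ha⟩) ⟨⟨a, hP ha⟩, ha, rfl⟩
    refine (mul_inv_eq_iff_eq_mul.1 (lift_conj3 (x := x) (a := ⟨a, hP ha⟩) (b := ⟨a, hP ha⟩) (h3 a ha) (h3 a ha) ?_)).symm
    rw [map_mul, map_mul, map_inv]
    exact mul_inv_eq_iff_eq_mul.2 hm.symm
  · rintro ⟨y, hy, e⟩
    rw [← e, Subgroup.mem_centralizer_iff]
    rintro _ ⟨a, ha, rfl⟩
    rw [← map_mul, ← map_mul]
    congr 1
    exact Subtype.ext (Subgroup.mem_centralizer_iff.1 hy.2 _ ha)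

theorem centralizer_sing {a : C.Ct} (ha : (a : G) ^ 3 = 1) :
    Subgroup.centralizer ({C.πh a} : Set C.Hq) = C.imh (C.Ct ⊓ Subgroup.centralizer ({(a : G)} : Set G)) := by
  ext q
  obtain ⟨x, rfl⟩ := QuotientGroup.mk'_surjective C.T q
  rw [Subgroup.mem_centralizer_singleton_iff]
  constructor
  · intro h
    refine ⟨x, ⟨x.2, Subgroup.mem_centralizer_singleton_iff.2
      (mul_inv_eq_iff_eq_mul.1 (lift_conj3 (x := x) (a := a) (b := a) ha ha ?_))⟩, rfl⟩
    rw [map_mul, map_mul, map_inv]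
    exact mul_inv_eq_iff_eq_mul.2 h
  · rintro ⟨y, hy, e⟩
    rw [← e, ← map_mul, ← map_mul]
    congr 1
    exact Subtype.ext (Subgroup.mem_centralizer_singleton_iff.1 hy.2)

theorem imh_zpowers {a : C.Ct} : C.imh (Subgroup.zpowers (a : G)) = Subgroup.zpowers (C.πh a) := by
  rw [imh, show (Subgroup.zpowers (a : G)).subgroupOf C.Ct = Subgroup.zpowers a by
    rw [Subgroup.subgroupOf, show Subgroup.zpowers (a : G) = (Subgroup.zpowers a).map C.Ct.subtype from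
      (MonoidHom.map_zpowers C.Ct.subtype a).symm,
      Subgroup.comap_map_eq_self_of_injective C.Ct.subtype_injective], MonoidHom.map_zpowers]

theorem normalizer_sing {a : C.Ct} (ha : (a : G) ^ 3 = 1) :
    Subgroup.normalizer (Subgroup.zpowers (C.πh a) : Set C.Hq) =
      C.imh (C.Ct ⊓ Subgroup.normalizer (Subgroup.zpowers (a : G) : Set G)) := by
  rw [← imh_zpowers, normalizer_imh (Subgroup.zpowers_le.2 a.2)]
  rintro b hb
  obtain ⟨i, rfl⟩ := Subgroup.mem_zpowers_iff.1 hb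
  rw [← zpow_natCast, ← zpow_mul, mul_comm, zpow_mul, zpow_natCast, ha, one_zpow]

/-! ### The elements stabilising the pair of isotropic points -/

variable (C) in
/-- the fixed part of the elementary abelian subgroup -/
def D0 : Subgroup G where
  carrier := {g | ∃ a b : ZMod 3, g = C.vec (a, 0, 0, b)}
  one_mem' := ⟨0, 0, C.vec_zero.symm⟩
  mul_mem' := by
    rintro _ _ ⟨a, b, rfl⟩ ⟨a', b', rfl⟩
    exact ⟨a + a', b + b', by rw [← C.vec_add]; simp⟩
  inv_mem' := by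
    rintro _ ⟨a, b, rfl⟩
    exact ⟨-a, -b, by rw [← C.vec_neg]; simp⟩

theorem D0_J : C.D0 ≤ D.J := by rintro _ ⟨a, b, rfl⟩; exact C.vec_mem _

theorem D0_Ct : C.D0 ≤ C.Ct := by
  rintro _ ⟨a, b, rfl⟩
  refine mem_Ct.2 (mul_inv_eq_iff_eq_mul.1 ?_).symm
  rw [C.t_act]; simp

theorem D0_iff {g : G} : g ∈ C.D0 ↔ g ∈ D.J ∧ g ∈ C.Ct := by
  refine ⟨fun h => ⟨D0_J h, D0_Ct h⟩, fun ⟨hJ, ht⟩ => ?_⟩
  obtain ⟨⟨a, x, y, b⟩, rfl⟩ := C.vec_surj hJ
  obtain ⟨h1, h2⟩ := C.fixed_t (v := (a, x, y, b)) (by rw [← mem_Ct.1 ht, mul_inv_cancel_right])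
  simp only at h1 h2
  exact ⟨a, b, by rw [h1, h2]⟩

theorem card_D0 : Nat.card C.D0 = 9 := by
  have hb : Function.Bijective (fun p : ZMod 3 × ZMod 3 => (⟨C.vec (p.1, 0, 0, p.2), p.1, p.2, rfl⟩ : C.D0)) := by
    refine ⟨fun p q e => ?_, ?_⟩
    · have := C.vec_inj (congrArg Subtype.val e)
      simp only [Prod.mk.injEq] at this
      exact Prod.ext this.1 this.2.2.2
    · rintro ⟨_, a, b, rfl⟩; exact ⟨(a, b), rfl⟩
  rw [← Nat.card_eq_of_bijective _ hb, Nat.card_eq_fintype_card]; rfl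

theorem D0_three {a : G} (ha : a ∈ C.D0) : a ^ 3 = 1 := D.Je _ (D0_J ha)

theorem NJ_D0 {x : G} (hx : x ∈ C.Ct) (hJ : x ∈ Subgroup.normalizer (D.J : Set G)) :
    x ∈ Subgroup.normalizer (C.D0 : Set G) := by
  rw [Subgroup.mem_normalizer_iff_map_conj_eq]
  refine Subgroup.eq_of_le_of_card_ge ?_ (le_of_eq (Subgroup.card_map_of_injective (MulEquiv.injective _)).symm)
  rintro _ ⟨a, ha, rfl⟩
  exact D0_iff.2 ⟨mem_norm hJ (D0_J ha), mul_mem (mul_mem hx (D0_Ct ha)) (inv_mem hx)⟩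

/-- an involution commuting with the fixed one exchanging the two points -/
theorem exists_gg : ∃ gg : G, gg ∈ C.Ct ∧ gg ∈ Subgroup.normalizer (D.J : Set G) ∧ gg * gg = 1 ∧
    ∀ v, gg * C.vec v * gg⁻¹ = C.vec (g4 v) := by
  have hgJ : (C.g : G) ∈ Subgroup.normalizer (D.J : Set G) := D.M_norm C.g.2
  obtain ⟨j, hj, hjt, hja⟩ := C.adjust hgJ (fun v => by
    rw [C.t_act, C.g_act, C.g_act, C.t_act]
    simp [g4])
  have hN : j * C.g ∈ Subgroup.normalizer (D.J : Set G) := mul_mem (Subgroup.le_normalizer hj) hgJ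
  have hact : ∀ v, j * (C.g : G) * C.vec v * (j * C.g)⁻¹ = C.vec (g4 v) := fun v => by rw [hja, C.g_act]
  set x := j * (C.g : G) with hx
  refine ⟨x ^ 3, pow_mem (mem_Ct.2 hjt) 3, pow_mem hN 3, ?_, fun v => ?_⟩
  · have hsq : x * x ∈ C.D0 := D0_iff.2 ⟨D.cent_J (g := x * x) fun a ha => by
      obtain ⟨v, rfl⟩ := C.vec_surj ha
      refine (mul_inv_eq_iff_eq_mul.1 ?_).symm
      calc x * x * C.vec v * (x * x)⁻¹ = x * (x * C.vec v * x⁻¹) * x⁻¹ := by group
        _ = C.vec v := by rw [hact, hact]; simp [g4], mul_mem (mem_Ct.2 hjt) (mem_Ct.2 hjt)⟩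
    rw [← pow_add, show 3 + 3 = 2 * 3 from rfl, pow_mul, pow_two, D0_three hsq]
  · calc x ^ 3 * C.vec v * (x ^ 3)⁻¹ = x * (x * (x * C.vec v * x⁻¹) * x⁻¹) * x⁻¹ := by simp [pow_succ, mul_assoc]
      _ = _ := by rw [hact, hact, hact, g4_cube]

/-- an element of the centraliser normalising the fixed part normalises the elementary abelian subgroup -/
theorem Xn_NJ {x : G} (_hx : x ∈ C.Ct) (hn : x ∈ Subgroup.normalizer (C.D0 : Set G)) :
    x ∈ Subgroup.normalizer (D.J : Set G) := by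
  obtain ⟨gg, hggt, hggJ, hgg, hact⟩ := C.exists_gg
  have key : ∀ x : G, x ∈ Subgroup.normalizer (C.D0 : Set G) → ∀ a : ZMod 3,
      x * C.z * x⁻¹ = C.vec (a, 0, 0, 0) → x ∈ Subgroup.normalizer (D.J : Set G) := fun x hn a ha =>
    (C.NJ_of (C.mem_NZ ha) (D.hJS (D0_J (mem_norm hn (D0_iff.2 ⟨C.toNorm.z'_J C.base.hz,
      mem_Ct.2 (mul_inv_eq_iff_eq_mul.1 (C.toNorm.t_z' C.base.hz)).symm⟩))))).2
  obtain ⟨a, b, e⟩ : x * C.z * x⁻¹ ∈ C.D0 := mem_norm hn ⟨1, 0, C.vec_z.symm⟩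
  rcases iso_axis _ (C.z_fused e) rfl rfl with h | h <;> simp only at h <;> subst h
  · have e' : gg * x * C.z * (gg * x)⁻¹ = C.vec (b, 0, 0, 0) := by
      rw [show gg * x * C.z * (gg * x)⁻¹ = gg * (x * C.z * x⁻¹) * gg⁻¹ by group, e, hact]
      simp [g4]
    have := mul_mem (inv_mem hggJ) (key _ (mul_mem (NJ_D0 hggt hggJ) hn) b e')
    rwa [inv_mul_cancel_left] at this
  · exact key x hn a e

end Ctx

end Cfsg.Agent.MclThree
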