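import Cfsg.Agent.Lib.Recognition.MclThreeLocal.TopZ
import Cfsg.Agent.Lib.Recognition.MclThreeLocal.Dih

/-!
The normaliser of the pair of isotropic points in the centraliser of the involution.
-/

set_option autoImplicit false
set_option linter.unusedSectionVars false
set_option synthInstance.maxSize 2000
set_option maxRecDepth 100000
set_option maxHeartbeats 1000000

namespace Cfsg.Agent.MclThree

open DihedralGroup

universe u

variable {G : Type u} [Group G] [Finite G] {D : Data G}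

namespace Ctx

variable (C : Ctx D)

/-- the normaliser of the pair -/
abbrev Xn : Subgroup G := C.Ct ⊓ Subgroup.normalizer (C.D0 : Set G)

/-- the centraliser of the pair -/
abbrev Xc : Subgroup G := C.Ct ⊓ Subgroup.centralizer (C.D0 : Set G)

variable {C}

theorem Xc_Xn : C.Xc ≤ C.Xn := fun _ hx => ⟨hx.1, cent_le_norm _ hx.2⟩

theorem D0_Xc : C.D0 ≤ C.Xc := fun a ha => ⟨D0_Ct ha, Subgroup.mem_centralizer_iff.2 fun b hb =>
  D.Jc b (D0_J hb) a (D0_J ha)⟩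

theorem t_Xc : (C.t : G) ∈ C.Xc := ⟨mem_Ct.2 rfl, Subgroup.mem_centralizer_iff.2 fun _ hb => mem_Ct.1 (D0_Ct hb)⟩

theorem vec_axis (a b : ZMod 3) : C.vec (a, 0, 0, b) = pw C.z a * pw (C.toNorm.z' C.z) b := by
  simp [vec, Norm.ι, pw_zero]

theorem Xn_mem {x : G} (hx : x ∈ C.Ct) (hJ : x ∈ Subgroup.normalizer (D.J : Set G)) : x ∈ C.Xn :=
  ⟨hx, NJ_D0 hx hJ⟩

theorem z'_Ct : C.toNorm.z' C.z ∈ C.Ct := mem_Ct.2 (C.K_t C.z'_mem_K.1)

theorem Xc_iff {x : G} : x ∈ C.Xc ↔ x ∈ C.X1 ∧ x * C.toNorm.z' C.z * x⁻¹ = C.toNorm.z' C.z := by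
  constructor
  · intro hx
    refine ⟨⟨hx.1, cent_Z_of (C := C) (mul_inv_eq_iff_eq_mul.2
      (Subgroup.mem_centralizer_iff.1 hx.2 C.z ⟨1, 0, C.vec_z.symm⟩).symm)⟩, ?_⟩
    exact mul_inv_eq_iff_eq_mul.2 (Subgroup.mem_centralizer_iff.1 hx.2 _ ⟨0, 1, C.vec_z'.symm⟩).symm
  · rintro ⟨h1, h2⟩
    refine ⟨h1.1, Subgroup.mem_centralizer_iff.2 ?_⟩
    rintro _ ⟨a, b, rfl⟩
    rw [vec_axis]
    refine ((Commute.mul_right ?_ ?_).eq).symm
    · exact Commute.pow_right (show Commute x C.z from (Subgroup.mem_centralizer_iff.1 h1.2 _ C.base.hz).symm) _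
    · exact Commute.pow_right (show Commute x (C.toNorm.z' C.z) from mul_inv_eq_iff_eq_mul.1 h2) _

theorem exists_nu : ∃ ν : C.Xn →* DihedralGroup 4,
    ∀ (x : C.Xn) (i : ZMod 4), (x : G) * C.vec (pt i) * (x : G)⁻¹ = C.vec (pt (act (ν x) i)) := by
  obtain ⟨hneg, hinj, hpt, hex⟩ := pt_facts
  have hD0 : ∀ i, C.vec (pt i) ∈ C.D0 := fun i => ⟨(pt i).1, (pt i).2.2.2, congrArg C.vec (by
    obtain ⟨-, h1, h2, -⟩ := hpt i
    exact Prod.ext rfl (Prod.ext h1 (Prod.ext h2 rfl)))⟩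
  have himg : ∀ (x : C.Xn) (i : ZMod 4), ∃ j, (x : G) * C.vec (pt i) * (x : G)⁻¹ = C.vec (pt j) := by
    intro x i
    obtain ⟨a, b, e⟩ : (x : G) * C.vec (pt i) * (x : G)⁻¹ ∈ C.D0 := mem_norm x.2.2 (hD0 i)
    have hn : nf (a, 0, 0, b) = 0 := C.iso_perm (Xn_NJ x.2.1 x.2.2) (hpt i).2.2.2 e
    have hne : ((a, 0, 0, b) : V4) ≠ 0 := fun h => (hpt i).1 (C.vec_inj (by
      rw [h, C.vec_zero, conj_eq_one_iff] at e
      rw [e, C.vec_zero]))
    obtain ⟨j, hj⟩ := hex a b hn hne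
    exact ⟨j, by rw [e, hj]⟩
  choose σ hσ using himg
  have hd : ∀ x : C.Xn, ∃ d, ∀ i, act d i = σ x i := by
    intro x
    have h2 : ∀ i, σ x (i + 2) = σ x i + 2 := fun i => hinj _ _ (C.vec_inj (by
      rw [← hσ, hneg, hneg, C.vec_neg, C.vec_neg, ← hσ]; group))
    have hi : Function.Injective (σ x) := fun i j e => hinj _ _ (C.vec_inj (by
      have := (hσ x i).trans ((congrArg (fun k => C.vec (pt k)) e).trans (hσ x j).symm)
      exact mul_left_cancel (mul_right_cancel this)))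
    obtain ⟨d, h0', h1', h2', h3'⟩ := act_cases (σ x 0) (σ x 1) (σ x 2) (σ x 3)
      (by rw [← h2]; rfl) (by rw [← h2]; rfl) (fun e => absurd (hi e) (by decide)) (fun e => absurd (hi e) (by decide))
    refine ⟨d, fun i => ?_⟩
    rcases zmod4_cases i with rfl | rfl | rfl | rfl <;> assumption
  choose ν hν using hd
  have hspec : ∀ (x : C.Xn) (i : ZMod 4), (x : G) * C.vec (pt i) * (x : G)⁻¹ = C.vec (pt (act (ν x) i)) :=
    fun x i => by rw [hν, hσ]
  refine ⟨MonoidHom.mk' ν fun x y => act_inj _ _ fun i => hinj _ _ (C.vec_inj ?_), hspec⟩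
  rw [act_mul, ← hspec, ← hspec, ← hspec, Subgroup.coe_mul]
  group

/-- the action on the signed points -/
noncomputable def ν (C : Ctx D) : C.Xn →* DihedralGroup 4 := (exists_nu (C := C)).choose

theorem ν_spec (x : C.Xn) (i : ZMod 4) : (x : G) * C.vec (pt i) * (x : G)⁻¹ = C.vec (pt (act (C.ν x) i)) :=
  (exists_nu (C := C)).choose_spec x i

theorem ν_eq (x : C.Xn) (d : DihedralGroup 4)
    (h : ∀ i, (x : G) * C.vec (pt i) * (x : G)⁻¹ = C.vec (pt (act d i))) : C.ν x = d :=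
  act_inj _ _ fun i => pt_facts.2.1 _ _ (C.vec_inj ((ν_spec x i).symm.trans (h i)))

theorem ν_one (x : C.Xn) : C.ν x = 1 ↔ (x : G) ∈ C.Xc := by
  constructor
  · intro h
    refine Xc_iff.2 ?_
    have h0 := ν_spec x 0
    have h1 := ν_spec x 1
    rw [h, act_one] at h0 h1
    rw [show pt 0 = (1, 0, 0, 0) from rfl, C.vec_z] at h0
    rw [show pt 1 = (0, 0, 0, 1) from rfl, C.vec_z'] at h1
    exact ⟨⟨x.2.1, cent_Z_of h0⟩, h1⟩
  · intro h
    refine ν_eq x 1 fun i => ?_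
    rw [act_one]
    refine mul_inv_eq_iff_eq_mul.2 (Subgroup.mem_centralizer_iff.1 h.2 _ ⟨(pt i).1, (pt i).2.2.2, congrArg C.vec ?_⟩).symm
    obtain ⟨-, h1, h2, -⟩ := pt_facts.2.2.1 i
    exact Prod.ext rfl (Prod.ext h1 (Prod.ext h2 rfl))

theorem exists_gens : ∃ (a b : C.Xn) (U : Mt), Anti U ∧ C.ν a = sr 0 ∧ C.ν b = sr 3 ∧ (a : G) * a = C.t ∧ (b : G) * b = 1 ∧
    (∀ v, (a : G) * C.vec v * (a : G)⁻¹ = C.vec (lm 1 (-1) U v)) ∧
    ∀ v, (b : G) * C.vec v * (b : G)⁻¹ = C.vec (g4 v) := by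
  obtain ⟨u, U, hu, hut, hA, hU⟩ := C.exists_u
  obtain ⟨gg, hgt, hgJ, hgg, hgact⟩ := exists_gg (C := C)
  have huJ : u ∈ Subgroup.normalizer (D.J : Set G) := by
    refine (C.NJ_of (cent_le_norm _ (D.L_le (C.K_le_L hu))) ?_).2
    rw [← C.vec_z', hU]
    exact D.hJS (C.vec_mem _)
  refine ⟨⟨u, Xn_mem (mem_Ct.2 (C.K_t hu)) huJ⟩, ⟨gg, Xn_mem hgt hgJ⟩, U, hA, ?_, ?_, hut, hgg, hU, hgact⟩
  · exact ν_eq _ _ fun i => by rw [← act_u U i]; exact hU _
  · exact ν_eq _ _ fun i => by rw [← act_g i]; exact hgact _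

theorem ν_surj : Function.Surjective C.ν := by
  obtain ⟨a, b, U, -, ha, hb, -⟩ := exists_gens (C := C)
  intro d
  rcases dih_gen d with rfl | rfl | rfl | rfl | rfl | rfl | rfl | rfl
  exacts [⟨1, map_one _⟩, ⟨b * a, by simp [ha, hb]⟩, ⟨b * a * (b * a), by simp [ha, hb]⟩,
    ⟨b * a * (b * a * (b * a)), by simp [ha, hb]⟩, ⟨a, ha⟩, ⟨a * (b * a), by simp [ha, hb]⟩,
    ⟨a * (b * a * (b * a)), by simp [ha, hb]⟩, ⟨a * (b * a * (b * a * (b * a))), by simp [ha, hb]⟩]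

theorem card_Xc : (IsEven' C → Nat.card C.Xc = 18) ∧ (¬ IsEven' C → Nat.card C.Xc = 36) := by
  classical
  have hz' := C.z'_mem_K.1
  have hz3 : C.toNorm.z' C.z ^ 3 = 1 := D.Je _ (C.toNorm.z'_J C.base.hz)
  set σ := C.β1 ⟨_, K_X1 hz'⟩ with hσd
  have hσ3 : σ * σ * σ = 1 := by
    rw [hσd, ← map_mul, ← map_mul]
    refine (congrArg C.β1 (Subtype.ext ?_)).trans (map_one C.β1)
    rw [OneMemClass.coe_one, ← hz3]; simp [pow_succ]
  have hσ1 : σ ≠ 1 := fun e => by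
    have hne : C.toNorm.z' C.z ≠ 1 := fun e' => C.toNorm.zp_not_A C.base.hz C.base.z1 (by
      rw [show (C.g : G) * C.z * (C.g : G)⁻¹ = 1 from e']; exact one_mem _)
    rcases β_K_one (C := C) ⟨_, hz'⟩ e with h | h
    · exact hne h
    · have h2 : (C.t : G) ^ 3 = 1 := by rw [← show C.toNorm.z' C.z = C.t from h]; exact hz3
      rw [pow_succ, pow_two, C.t_sq, one_mul] at h2
      exact C.t_ne h2
  set ρ : C.Xc →* Equiv.Perm (Fin 5) := C.β1.comp (Subgroup.inclusion (fun x hx => (Xc_iff.1 hx).1)) with hρ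
  have hker : Nat.card ρ.ker = 6 := by
    rw [← card_β1_ker (C := C)]
    refine Nat.card_congr ⟨fun x => ⟨⟨x.1, (Xc_iff.1 x.1.2).1⟩, x.2⟩, fun x => ⟨⟨x.1, Xc_iff.2 ⟨x.1.2, ?_⟩⟩, x.2⟩,
      fun x => rfl, fun x => rfl⟩
    have hcomm := (β_ker (C := C) (Subgroup.inclusion X1_X2 x.1)).1 x.2 _ hz'
    exact mul_inv_eq_iff_eq_mul.2 hcomm
  have hr : ∀ p, p ∈ ρ.range ↔ p ∈ C.β1.range ∧ p * σ = σ * p := by
    intro p
    constructor
    · rintro ⟨x, rfl⟩
      refine ⟨⟨_, rfl⟩, ?_⟩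
      rw [hρ, MonoidHom.comp_apply, hσd, ← map_mul, ← map_mul]
      refine congrArg C.β1 (Subtype.ext ?_)
      exact mul_inv_eq_iff_eq_mul.1 (Xc_iff.1 x.2).2
    · rintro ⟨⟨x, rfl⟩, hc⟩
      refine ⟨⟨x, Xc_iff.2 ⟨x.2, ?_⟩⟩, rfl⟩
      have hk : (x : G) * C.toNorm.z' C.z * (x : G)⁻¹ * (C.toNorm.z' C.z)⁻¹ ∈ C.K :=
        mul_mem (C.mem_norm_K (mem_Ct.1 x.2.1) (cent_le_norm _ x.2.2) hz') (inv_mem hz')
      have h1 : C.β1 ⟨_, K_X1 hk⟩ = 1 := by
        rw [show (⟨_, K_X1 hk⟩ : C.X1) = x * ⟨_, K_X1 hz'⟩ * x⁻¹ * ⟨_, K_X1 hz'⟩⁻¹ from Subtype.ext (by simp),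
          map_mul, map_mul, map_mul, map_inv, map_inv, ← hσd, hc]
        group
      rcases β_K_one (C := C) ⟨_, hk⟩ h1 with h | h
      · exact mul_inv_eq_one.1 h
      · exfalso
        have e : (x : G) * C.toNorm.z' C.z * (x : G)⁻¹ = C.t * C.toNorm.z' C.z := mul_inv_eq_iff_eq_mul.1 h
        have e3 := congrArg (· ^ 3) e
        simp only [conj_pow, hz3, mul_one, mul_inv_cancel] at e3
        rw [← C.K_t hz', mul_t_three (z'_Ct) hz3] at e3
        exact C.t_ne e3.symm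
  obtain ⟨h6, h3⟩ := cent_three σ hσ3 hσ1
  have hcard := ρ.ker.card_mul_index
  rw [hker, Subgroup.index_ker] at hcard
  constructor <;> intro hc
  · have : Nat.card ρ.range = 3 := by
      rw [← h3, ← Fintype.card_subtype, ← Nat.card_eq_fintype_card]
      refine Nat.card_congr (Equiv.subtypeEquivRight fun p => ?_)
      rw [hr, range_even hc, Equiv.Perm.mem_alternatingGroup]
      exact and_comm
    rw [this] at hcard; omega
  · have : Nat.card ρ.range = 6 := by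
      rw [← h6, ← Fintype.card_subtype, ← Nat.card_eq_fintype_card]
      refine Nat.card_congr (Equiv.subtypeEquivRight fun p => ?_)
      rw [hr, range_odd hc]
      exact and_iff_right trivial
    rw [this] at hcard; omega

theorem card_comap (S : Subgroup (DihedralGroup 4)) :
    Nat.card ((S.comap C.ν).map C.Xn.subtype) = Nat.card C.Xc * Nat.card S := by
  rw [Subgroup.card_map_of_injective C.Xn.subtype_injective]
  set π : S.comap C.ν →* S := (C.ν.comp (S.comap C.ν).subtype).codRestrict S fun x => x.2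
  have hs : Function.Surjective π := fun d => by
    obtain ⟨x, hx⟩ := ν_surj (C := C) d
    exact ⟨⟨x, by rw [Subgroup.mem_comap, hx]; exact d.2⟩, Subtype.ext hx⟩
  have hk : Nat.card π.ker = Nat.card C.Xc := by
    refine Nat.card_congr ⟨fun x => ⟨(x.1.1 : G), (ν_one x.1.1).1 (congrArg Subtype.val x.2)⟩,
      fun x => ⟨⟨⟨x, Xc_Xn x.2⟩, ?_⟩, Subtype.ext ((ν_one _).2 x.2)⟩, fun x => rfl, fun x => rfl⟩
    rw [Subgroup.mem_comap, (ν_one ⟨_, Xc_Xn x.2⟩).2 x.2]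
    exact one_mem _
  rw [← π.ker.card_mul_index, hk, Subgroup.index_ker, MonoidHom.range_eq_top.2 hs, Subgroup.card_top]

theorem card_Xn : Nat.card C.Xn = Nat.card C.Xc * 8 := by
  have h := card_comap (C := C) ⊤
  rw [Subgroup.comap_top, ← MonoidHom.range_eq_map, Subgroup.range_subtype, Subgroup.card_top,
    DihedralGroup.nat_card] at h
  exact h

/-- the point sum -/
abbrev yv (C : Ctx D) : G := C.vec (1, 0, 0, 1)

theorem yv_pts (x : C.Xn) : (x : G) * C.yv * (x : G)⁻¹ = C.vec (pt (act (C.ν x) 0) + pt (act (C.ν x) 1)) := by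
  rw [C.vec_add, ← ν_spec, ← ν_spec, show C.yv = C.vec (pt 0) * C.vec (pt 1) by
    rw [← C.vec_add]; exact congrArg C.vec (by decide)]
  group

theorem yv_D0 : C.yv ∈ C.D0 := ⟨1, 1, rfl⟩

theorem cent_yv : C.Ct ⊓ Subgroup.centralizer ({C.yv} : Set G) =
    ((Subgroup.zpowers (sr 3 : DihedralGroup 4)).comap C.ν).map C.Xn.subtype := by
  ext g
  constructor
  · rintro ⟨h1, h2⟩
    have he := mul_inv_eq_iff_eq_mul.2 (Subgroup.mem_centralizer_singleton_iff.1 h2)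
    have hJ := C.cent_aniso (w := (1, 0, 0, 1)) (by decide) (Or.inl he)
    refine ⟨⟨g, Xn_mem h1 hJ⟩, ?_, rfl⟩
    rcases (act_plus _).1 (C.vec_inj ((yv_pts ⟨g, Xn_mem h1 hJ⟩).symm.trans he)) with e | e <;>
      rw [SetLike.mem_coe, Subgroup.mem_comap, e]
    exacts [one_mem _, Subgroup.mem_zpowers _]
  · rintro ⟨x, hx, rfl⟩
    refine ⟨x.2.1, Subgroup.mem_centralizer_singleton_iff.2 (mul_inv_eq_iff_eq_mul.1 ?_)⟩
    show (x : G) * C.yv * (x : G)⁻¹ = C.yv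
    rw [yv_pts, (act_plus _).2]
    obtain ⟨i, hi⟩ := Subgroup.mem_zpowers_iff.1 (show C.ν x ∈ Subgroup.zpowers (sr 3 : DihedralGroup 4) from hx)
    rw [← hi]
    have h2 : (sr 3 : DihedralGroup 4) ^ (2 : ℤ) = 1 := by rw [zpow_two]; decide
    rcases Int.even_or_odd i with ⟨j, rfl⟩ | ⟨j, rfl⟩
    · left; rw [← two_mul, zpow_mul, h2, one_zpow]
    · right; rw [zpow_add, zpow_mul, h2, one_zpow, one_mul, zpow_one]

theorem four_closed : ∀ a b : DihedralGroup 4, (a = 1 ∨ a = sr 3 ∨ a = r 2 ∨ a = sr 1) →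
    (b = 1 ∨ b = sr 3 ∨ b = r 2 ∨ b = sr 1) → (a * b = 1 ∨ a * b = sr 3 ∨ a * b = r 2 ∨ a * b = sr 1) := by
  decide +kernel

theorem four_inv : ∀ a : DihedralGroup 4, (a = 1 ∨ a = sr 3 ∨ a = r 2 ∨ a = sr 1) →
    (a⁻¹ = 1 ∨ a⁻¹ = sr 3 ∨ a⁻¹ = r 2 ∨ a⁻¹ = sr 1) := by
  decide +kernel

/-- the four-group -/
def four : Subgroup (DihedralGroup 4) where
  carrier := {a | a = 1 ∨ a = sr 3 ∨ a = r 2 ∨ a = sr 1}
  one_mem' := Or.inl rfl
  mul_mem' := four_closed _ _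
  inv_mem' := four_inv _

theorem card_four : Nat.card four = 4 := by
  classical
  rw [show Nat.card four = Nat.card {a : DihedralGroup 4 // a = 1 ∨ a = sr 3 ∨ a = r 2 ∨ a = sr 1} from rfl,
    Nat.card_eq_fintype_card, Fintype.card_subtype]
  decide +kernel

theorem norm_yv : C.Ct ⊓ Subgroup.normalizer (Subgroup.zpowers C.yv : Set G) =
    (four.comap C.ν).map C.Xn.subtype := by
  have h3 : C.yv ^ 3 = 1 := D.Je _ (C.vec_mem _)
  have hne : C.yv ≠ 1 := fun e => by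
    have := C.vec_inj (e.trans C.vec_zero.symm)
    exact absurd (congrArg Prod.fst this) (by decide)
  ext g
  constructor
  · rintro ⟨h1, h2⟩
    have he : g * C.yv * g⁻¹ = C.yv ∨ g * C.yv * g⁻¹ = C.yv⁻¹ := by
      rcases pow_three_cases h3 (mem_norm h2 (Subgroup.mem_zpowers _)) with e | e | e
      · exact absurd (conj_eq_one_iff.1 e) hne
      · exact Or.inl e
      · exact Or.inr e
    have hJ := C.cent_aniso (w := (1, 0, 0, 1)) (by decide) he
    refine ⟨⟨g, Xn_mem h1 hJ⟩, (act_line _).1 ?_, rfl⟩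
    rcases he with e | e
    · exact Or.inl (C.vec_inj ((yv_pts ⟨g, Xn_mem h1 hJ⟩).symm.trans e))
    · exact Or.inr (C.vec_inj ((yv_pts ⟨g, Xn_mem h1 hJ⟩).symm.trans (e.trans (C.vec_neg _).symm)))
  · rintro ⟨x, hx, rfl⟩
    refine ⟨x.2.1, ?_⟩
    show (x : G) ∈ Subgroup.normalizer (Subgroup.zpowers C.yv : Set G)
    rw [Subgroup.mem_normalizer_iff_map_conj_eq, MonoidHom.map_zpowers]
    rcases (act_line _).2 (show C.ν x = 1 ∨ C.ν x = sr 3 ∨ C.ν x = r 2 ∨ C.ν x = sr 1 from hx) with e | e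
    · exact congrArg Subgroup.zpowers (show (x : G) * C.yv * (x : G)⁻¹ = C.yv by rw [yv_pts, e])
    · exact (congrArg Subgroup.zpowers (show (x : G) * C.yv * (x : G)⁻¹ = C.yv⁻¹ by
        rw [yv_pts, e, C.vec_neg])).trans Subgroup.zpowers_inv

/-- the image of the pair -/
abbrev Db (C : Ctx D) : Subgroup C.Hq := C.imh C.D0

theorem normalizer_Db : Subgroup.normalizer (C.Db : Set C.Hq) = C.imh C.Xn :=
  normalizer_imh D0_Ct fun _ => D0_three

theorem centralizer_Db : Subgroup.centralizer (C.Db : Set C.Hq) = C.imh C.Xc :=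
  centralizer_imh D0_Ct fun _ => D0_three

theorem card_Db : Nat.card C.Db = 9 := by
  rw [card_imh_odd D0_Ct fun _ => D0_three, card_D0]

theorem D_Sylow : ∃ P : Sylow 3 C.Hq, C.Db = P := by
  haveI : Fact (Nat.Prime 3) := ⟨Nat.prime_three⟩
  obtain ⟨P, hP⟩ := (IsPGroup.of_card (G := C.Db) (p := 3) (n := 2) (by rw [card_Db]; norm_num)).exists_le_sylow
  refine ⟨P, Subgroup.eq_of_le_of_card_ge hP ?_⟩
  obtain ⟨m, hm⟩ := IsPGroup.iff_card.1 P.isPGroup'
  rw [card_Db, hm]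
  by_contra hlt
  have hm3 : 3 ≤ m := by
    by_contra h
    have := Nat.pow_le_pow_right (show 1 ≤ 3 by norm_num) (show m ≤ 2 by omega)
    omega
  have h27 : 3 ^ 3 ∣ Nat.card C.Hq :=
    (pow_dvd_pow 3 hm3).trans (hm ▸ Subgroup.card_subgroup_dvd_card (P : Subgroup C.Hq))
  have hq := Sylow.prime_dvd_card_quotient_normalizer (H := C.Db) h27 (by rw [card_Db]; norm_num)
  rw [← Subgroup.index_eq_card] at hq
  replace hq : 3 ∣ (C.Db.subgroupOf (Subgroup.normalizer (C.Db : Set C.Hq))).index := hq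
  have hN := (C.Db.subgroupOf (Subgroup.normalizer (C.Db : Set C.Hq))).card_mul_index
  rw [Nat.card_congr (Subgroup.subgroupOfEquivOfLe Subgroup.le_normalizer).toEquiv, card_Db] at hN
  have hX := card_imh (C := C) (P := C.Xn) inf_le_left (Xc_Xn t_Xc)
  rw [← normalizer_Db, card_Xn] at hX
  by_cases hc : IsEven' C
  · rw [card_Xc.1 hc] at hX
    obtain ⟨k, hk⟩ := hq
    rw [hk] at hN
    omega
  · rw [card_Xc.2 hc] at hX
    obtain ⟨k, hk⟩ := hq
    rw [hk] at hN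
    omega

/-- the surjection onto the quotient of the normaliser -/
noncomputable def ω (C : Ctx D) : C.Xn →*
    Subgroup.normalizer (C.Db : Set C.Hq) ⧸ C.Db.subgroupOf (Subgroup.normalizer (C.Db : Set C.Hq)) :=
  (QuotientGroup.mk' _).comp ((C.πh.comp (Subgroup.inclusion inf_le_left)).codRestrict _ fun x => by
    rw [normalizer_Db]; exact ⟨_, x.2, rfl⟩)

theorem ω_surj : Function.Surjective C.ω := by
  intro q
  obtain ⟨⟨n, hn⟩, rfl⟩ := QuotientGroup.mk'_surjective _ q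
  obtain ⟨x, hx, e⟩ : n ∈ C.imh C.Xn := normalizer_Db (C := C) ▸ hn
  exact ⟨⟨x, hx⟩, congrArg (QuotientGroup.mk' _) (Subtype.ext e)⟩

theorem ω_one {x : C.Xn} : C.ω x = 1 ↔ ∃ d ∈ C.D0, (x : G) = d ∨ (x : G) = d * C.t := by
  rw [ω, MonoidHom.comp_apply, QuotientGroup.mk'_apply, QuotientGroup.eq_one_iff, Subgroup.mem_subgroupOf]
  constructor
  · rintro ⟨d, hd, e⟩
    exact ⟨d, hd, (πh_eq.1 e.symm)⟩
  · rintro ⟨d, hd, e⟩
    exact ⟨⟨d, D0_Ct hd⟩, hd, (πh_eq.2 e).symm⟩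

theorem D0t_Xc {x : G} (h : ∃ d ∈ C.D0, x = d ∨ x = d * C.t) : x ∈ C.Xc := by
  obtain ⟨d, hd, rfl | rfl⟩ := h
  · exact D0_Xc hd
  · exact mul_mem (D0_Xc hd) t_Xc

/-- the quotient of the normaliser onto the dihedral group -/
theorem exists_nubar : ∃ νb : (Subgroup.normalizer (C.Db : Set C.Hq) ⧸ C.Db.subgroupOf (Subgroup.normalizer (C.Db : Set C.Hq)))
    →* DihedralGroup 4, ∀ x, νb (C.ω x) = C.ν x := by
  refine ⟨C.ω.liftOfSurjective ω_surj ⟨C.ν, fun x hx => (ν_one x).2 (D0t_Xc (ω_one.1 hx))⟩, fun x => ?_⟩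
  exact MonoidHom.liftOfRightInverse_comp_apply _ _ _ _ x

theorem exists_section : ∃ s : DihedralGroup 4 →*
    (Subgroup.normalizer (C.Db : Set C.Hq) ⧸ C.Db.subgroupOf (Subgroup.normalizer (C.Db : Set C.Hq))),
    ∀ νb : _ →* DihedralGroup 4, (∀ x, νb (C.ω x) = C.ν x) → ∀ d, νb (s d) = d := by
  obtain ⟨a, b, U, hA, ha, hb, haa, hbb, hAact, hBact⟩ := exists_gens (C := C)
  have hbb' : C.ω b * C.ω b = 1 := by rw [← map_mul, show b * b = 1 from Subtype.ext hbb, map_one]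
  have haa' : C.ω a * C.ω a = 1 := by
    rw [← map_mul, ω_one]
    exact ⟨1, one_mem _, Or.inr (by simp [haa])⟩
  have hword : ∀ v, ((b * a) * (b * a) * ((b * a) * (b * a)) : C.Xn).1 * C.vec v *
      (((b * a) * (b * a) * ((b * a) * (b * a)) : C.Xn).1)⁻¹ = C.vec (v.1, -v.2.1, -v.2.2.1, v.2.2.2) := fun v => by
    rw [← (word_four U hA v).2, ← hBact, ← hAact, ← hBact, ← hAact, ← hBact, ← hAact, ← hBact, ← hAact]
    simp [mul_assoc]
  have hp4 : (C.ω b * C.ω a) ^ 4 = 1 := by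
    rw [show (C.ω b * C.ω a) ^ 4 = C.ω ((b * a) * (b * a) * ((b * a) * (b * a))) by rw [← map_mul, ← map_pow]; exact congrArg _ (by simp [pow_succ, mul_assoc]), ω_one]
    set w := ((b * a) * (b * a) * ((b * a) * (b * a)) : C.Xn).1 with hw
    refine ⟨w * C.t, D0_iff.2 ⟨D.cent_J (g := w * C.t) fun j hj => ?_,
      mul_mem (show w ∈ C.Ct from ((b * a) * (b * a) * ((b * a) * (b * a)) : C.Xn).2.1) (mem_Ct.2 rfl)⟩,
      Or.inr (by rw [mul_assoc, C.t_sq, mul_one])⟩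
    obtain ⟨v, rfl⟩ := C.vec_surj hj
    refine (mul_inv_eq_iff_eq_mul.1 ?_).symm
    rw [show w * (C.t : G) * C.vec v * (w * C.t)⁻¹ = w * ((C.t : G) * C.vec v * (C.t : G)⁻¹) * w⁻¹ by group,
      C.t_act, hword]
    simp
  obtain ⟨s, hr, hs⟩ := exists_dihedral_hom haa' hp4 (by
    rw [mul_inv_rev, inv_eq_of_mul_eq_one_right haa', inv_eq_of_mul_eq_one_right hbb', mul_assoc, haa', mul_one,
      ← mul_assoc, haa', one_mul])
  refine ⟨s, fun νb hνb d => ?_⟩
  have key : ∀ i : ZMod 4, (sr 3 * sr 0 : DihedralGroup 4) ^ i.val = r i ∧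
      sr 0 * (sr 3 * sr 0 : DihedralGroup 4) ^ i.val = sr i := by decide +kernel
  cases d with
  | r i => rw [hr, map_pow, map_mul, hνb, hνb, ha, hb]; exact (key i).1
  | sr i => rw [hs, map_mul, map_pow, map_mul, hνb, hνb, ha, hb]; exact (key i).2

theorem card_NqD : Nat.card (Subgroup.normalizer (C.Db : Set C.Hq) ⧸
    C.Db.subgroupOf (Subgroup.normalizer (C.Db : Set C.Hq))) * 18 = Nat.card C.Xc * 8 := by
  have hN := (C.Db.subgroupOf (Subgroup.normalizer (C.Db : Set C.Hq))).card_mul_index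
  rw [Nat.card_congr (Subgroup.subgroupOfEquivOfLe Subgroup.le_normalizer).toEquiv, card_Db,
    Subgroup.index_eq_card] at hN
  have hX := card_imh (C := C) (P := C.Xn) inf_le_left (Xc_Xn t_Xc)
  rw [← normalizer_Db, card_Xn, ← hN] at hX
  omega

theorem exists_eN : (IsEven' C → Nonempty ((Subgroup.normalizer (C.Db : Set C.Hq) ⧸
      C.Db.subgroupOf (Subgroup.normalizer (C.Db : Set C.Hq))) ≃* DihedralGroup 4)) ∧
    (¬ IsEven' C → Nonempty ((Subgroup.normalizer (C.Db : Set C.Hq) ⧸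
      C.Db.subgroupOf (Subgroup.normalizer (C.Db : Set C.Hq))) ≃* DihedralGroup 4 × Multiplicative (ZMod 2))) := by
  obtain ⟨νb, hνb⟩ := exists_nubar (C := C)
  obtain ⟨s, hs⟩ := exists_section (C := C)
  have hsurj : Function.Surjective νb := fun d => ⟨s d, hs νb hνb d⟩
  constructor <;> intro hc
  · refine ⟨MulEquiv.ofBijective νb ((Nat.bijective_iff_surjective_and_card _).2 ⟨hsurj, ?_⟩)⟩
    have := card_NqD (C := C)
    rw [card_Xc.1 hc] at this
    rw [DihedralGroup.nat_card]; omega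
  · haveI : Fact (Nat.Prime 2) := ⟨Nat.prime_two⟩
    have hk : Nat.card νb.ker = 2 := by
      have h := νb.ker.card_mul_index
      rw [Subgroup.index_ker, MonoidHom.range_eq_top.2 hsurj, Subgroup.card_top, DihedralGroup.nat_card] at h
      have := card_NqD (C := C)
      rw [card_Xc.2 hc] at this
      omega
    obtain ⟨e2⟩ : Nonempty (νb.ker ≃* Multiplicative (ZMod 2)) :=
      ⟨mulEquivOfPrimeCardEq (p := 2) hk (by rw [Nat.card_eq_fintype_card]; rfl)⟩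
    obtain ⟨⟨k, hkm⟩, hk1, huniv⟩ := (Nat.card_eq_two_iff' (1 : νb.ker)).1 hk
    have hcen : ∀ x, x * k = k * x := fun x => by
      refine mul_inv_eq_iff_eq_mul.1 ?_
      have hm : x * k * x⁻¹ ∈ νb.ker := Subgroup.Normal.conj_mem inferInstance k hkm x
      refine congrArg Subtype.val (huniv ⟨_, hm⟩ fun e => hk1 (Subtype.ext ?_))
      exact conj_eq_one_iff.1 (congrArg Subtype.val e)
    have hcomm : ∀ (n : νb.ker) (x), x * νb.ker.subtype n = νb.ker.subtype n * x := fun n x => by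
      by_cases hn : n = 1
      · rw [hn, map_one, mul_one, one_mul]
      · rw [huniv n hn]; exact hcen x
    let F : DihedralGroup 4 × νb.ker →* _ :=
      { toFun := fun p => s p.1 * νb.ker.subtype p.2
        map_one' := by rw [Prod.fst_one, Prod.snd_one, map_one, map_one, mul_one]
        map_mul' := fun p q => by
          rw [Prod.fst_mul, Prod.snd_mul, map_mul, map_mul, mul_assoc, mul_assoc (s p.1), ← mul_assoc (s q.1),
            hcomm p.2 (s q.1), mul_assoc] }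
    have hF : Function.Bijective F := by
      refine ⟨fun p q e => ?_, fun x => ⟨(νb x, ⟨(s (νb x))⁻¹ * x, ?_⟩), mul_inv_cancel_left _ _⟩⟩
      · have h1 : νb (s p.1 * (p.2 : _)) = νb (s q.1 * (q.2 : _)) := congrArg νb e
        rw [map_mul, map_mul, hs νb hνb, hs νb hνb, MonoidHom.mem_ker.1 p.2.2, MonoidHom.mem_ker.1 q.2.2,
          mul_one, mul_one] at h1
        refine Prod.ext h1 (Subtype.ext ?_)
        replace e : s p.1 * (p.2 : _) = s q.1 * (q.2 : _) := e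
        rw [h1] at e
        exact mul_left_cancel e
      · rw [MonoidHom.mem_ker, map_mul, map_inv, hs νb hνb, inv_mul_cancel]
    exact ⟨(MulEquiv.ofBijective F hF).symm.trans (MulEquiv.prodCongr (MulEquiv.refl _) e2)⟩

end Ctx

end Cfsg.Agent.MclThree
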