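import Cfsg.Agent.Lib.Recognition.MclThreeLocal.TopD
import Cfsg.Agent.S3329
import Cfsg.Agent.S3330

/-!
The centraliser of the involution modulo the involution, identified by its local data at the prime three.
-/

set_option autoImplicit false
set_option linter.unusedSectionVars false
set_option synthInstance.maxSize 2000
set_option maxRecDepth 100000
set_option maxHeartbeats 1000000

namespace Cfsg.Agent.MclThree

open DihedralGroup

universe u

variable {G : Type u} [Group G] [Finite G] {D : Data G}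

namespace Ctx

variable {C : Ctx D}

theorem z_D0 : C.z ∈ C.D0 := ⟨1, 0, C.vec_z.symm⟩

theorem z'_D0 : C.toNorm.z' C.z ∈ C.D0 := ⟨0, 1, C.vec_z'.symm⟩

/-- image of the point sum -/
abbrev yq (C : Ctx D) : C.Hq := C.πh ⟨C.yv, D0_Ct (C := C) yv_D0⟩

/-- image of the point -/
abbrev zq (C : Ctx D) : C.Hq := C.πh ⟨C.z, (Z_X1 (C := C) C.base.hz).1⟩

theorem closure_yz : Subgroup.closure {C.yq, C.zq} = C.Db := by
  refine le_antisymm ((Subgroup.closure_le _).2 ?_) ?_
  · rintro x (rfl | rfl)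
    · exact ⟨⟨C.yv, D0_Ct yv_D0⟩, yv_D0, rfl⟩
    · exact ⟨⟨C.z, (Z_X1 C.base.hz).1⟩, z_D0, rfl⟩
  · rintro _ ⟨a, ha, rfl⟩
    have hy : C.yq ∈ Subgroup.closure {C.yq, C.zq} := Subgroup.subset_closure (Or.inl rfl)
    have hz : C.zq ∈ Subgroup.closure {C.yq, C.zq} := Subgroup.subset_closure (Or.inr rfl)
    obtain ⟨i, j, e⟩ := ha
    have : C.πh a = C.zq ^ i.val * ((C.zq)⁻¹ * C.yq) ^ j.val := by
      rw [yq, zq, ← map_inv, ← map_mul, ← map_pow, ← map_pow, ← map_mul]
      refine congrArg C.πh (Subtype.ext ?_)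
      rw [show (a : G) = _ from e, vec_axis]
      push_cast
      rw [show C.yv = pw C.z 1 * pw (C.toNorm.z' C.z) 1 from vec_axis 1 1,
        show pw C.z (1 : ZMod 3) = C.z from pow_one _, show pw (C.toNorm.z' C.z) (1 : ZMod 3) = C.toNorm.z' C.z from pow_one _,
        inv_mul_cancel_left]
      rfl
    rw [this]
    exact mul_mem (pow_mem hz _) (pow_mem (mul_mem (inv_mem hz) hy) _)

theorem Db_comm : IsMulCommutative C.Db := ⟨⟨by
  rintro ⟨_, a, ha, rfl⟩ ⟨_, b, hb, rfl⟩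
  refine Subtype.ext ?_
  show C.πh a * C.πh b = C.πh b * C.πh a
  rw [← map_mul, ← map_mul]
  exact congrArg C.πh (Subtype.ext (D.Jc _ (D0_J ha) _ (D0_J hb)))⟩⟩

theorem Db_exp : ∀ a ∈ C.Db, a ^ 3 = 1 := by
  rintro _ ⟨a, ha, rfl⟩
  rw [← map_pow, show a ^ 3 = 1 from Subtype.ext (D0_three ha), map_one]

theorem card_cent_Db : Nat.card (Subgroup.centralizer (C.Db : Set C.Hq)) * 2 = Nat.card C.Xc := by
  rw [centralizer_Db]; exact card_imh inf_le_left t_Xc

theorem comap_le (S : Subgroup (DihedralGroup 4)) : (S.comap C.ν).map C.Xn.subtype ≤ C.Xn := by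
  rintro _ ⟨x, -, rfl⟩; exact x.2

theorem t_comap (S : Subgroup (DihedralGroup 4)) : (C.t : G) ∈ (S.comap C.ν).map C.Xn.subtype := by
  refine ⟨⟨C.t, Xc_Xn t_Xc⟩, ?_, rfl⟩
  rw [SetLike.mem_coe, Subgroup.mem_comap, (ν_one ⟨_, Xc_Xn t_Xc⟩).2 t_Xc]
  exact one_mem _

theorem yv_three : ((⟨C.yv, D0_Ct yv_D0⟩ : C.Ct) : G) ^ 3 = 1 := D0_three yv_D0

theorem cent_yq : Subgroup.centralizer ({C.yq} : Set C.Hq) =
    C.imh (((Subgroup.zpowers (sr 3 : DihedralGroup 4)).comap C.ν).map C.Xn.subtype) := by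
  rw [← cent_yv]; exact centralizer_sing yv_three

theorem norm_yq : Subgroup.normalizer (Subgroup.zpowers C.yq : Set C.Hq) =
    C.imh ((four.comap C.ν).map C.Xn.subtype) := by
  rw [← norm_yv]; exact normalizer_sing yv_three

theorem imh_le_norm (S : Subgroup (DihedralGroup 4)) :
    C.imh ((S.comap C.ν).map C.Xn.subtype) ≤ Subgroup.normalizer (C.Db : Set C.Hq) := by
  rw [normalizer_Db]
  rintro _ ⟨a, ha, rfl⟩
  exact ⟨a, comap_le S ha, rfl⟩

theorem card_imh_comap (S : Subgroup (DihedralGroup 4)) :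
    Nat.card (C.imh ((S.comap C.ν).map C.Xn.subtype)) * 2 = Nat.card C.Xc * Nat.card S := by
  rw [card_imh ((comap_le S).trans inf_le_left) (t_comap S), card_comap]

theorem card_sr : Nat.card (Subgroup.zpowers (sr 3 : DihedralGroup 4)) = 2 := by
  rw [Nat.card_zpowers, orderOf_sr]

/-- squares of elements acting as involutions lie in the Sylow subgroup -/
theorem sq_Db (S : Subgroup (DihedralGroup 4)) (hS : ∀ d ∈ S, d * d = 1) :
    ∀ g ∈ C.imh ((S.comap C.ν).map C.Xn.subtype), g ^ 2 ∈ C.Db := by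
  rintro _ ⟨a, ⟨x, hx, e⟩, rfl⟩
  obtain ⟨νb, hνb⟩ := exists_nubar (C := C)
  obtain ⟨s, hs⟩ := exists_section (C := C)
  have hsurj : Function.Surjective νb := fun d => ⟨s d, hs νb hνb d⟩
  set k := (s (C.ν x))⁻¹ * C.ω x with hk
  have hkm : k ∈ νb.ker := by
    rw [MonoidHom.mem_ker, hk, map_mul, map_inv, hs νb hνb, hνb, inv_mul_cancel]
  have hkcard : Nat.card νb.ker = 1 ∨ Nat.card νb.ker = 2 := by
    have h := νb.ker.card_mul_index
    rw [Subgroup.index_ker, MonoidHom.range_eq_top.2 hsurj, Subgroup.card_top, DihedralGroup.nat_card] at h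
    have := card_NqD (C := C)
    by_cases hc : IsEven' C
    · rw [card_Xc.1 hc] at this; omega
    · rw [card_Xc.2 hc] at this; omega
  clear_value k
  have hcc : s (C.ν x) * k = k * s (C.ν x) ∧ k * k = 1 := by
    by_cases hk1 : k = 1
    · rw [hk1]; exact ⟨(mul_one _).trans (one_mul _).symm, one_mul _⟩
    rcases hkcard with h1 | h2
    · exact absurd ((Subgroup.eq_bot_iff_forall _).1 (Subgroup.card_eq_one.1 h1) k hkm) hk1
    · obtain ⟨⟨k', hk'⟩, -, huniv⟩ := (Nat.card_eq_two_iff' (1 : νb.ker)).1 h2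
      have hu : ∀ m ∈ νb.ker, m ≠ 1 → m = k' := fun m hm hne =>
        congrArg Subtype.val (huniv ⟨m, hm⟩ fun e => hne (congrArg Subtype.val e))
      refine ⟨mul_inv_eq_iff_eq_mul.1 ?_, ?_⟩
      · rw [hu k hkm hk1, hu _ (Subgroup.Normal.conj_mem inferInstance k' hk' _) fun e => hk1 ?_]
        rw [hu k hkm hk1]; exact conj_eq_one_iff.1 e
      · have := congrArg Subtype.val (pow_card_eq_one' (x := (⟨k, hkm⟩ : νb.ker)))
        rw [h2, pow_two] at this
        exact this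
  have hω : C.ω (x * x) = 1 := by
    rw [map_mul, show C.ω x = s (C.ν x) * k by rw [hk, mul_inv_cancel_left]]
    calc s (C.ν x) * k * (s (C.ν x) * k) = s (C.ν x) * (k * s (C.ν x)) * k := by group
      _ = s (C.ν x) * (s (C.ν x) * k) * k := by rw [hcc.1]
      _ = s (C.ν x) * s (C.ν x) * (k * k) := by group
      _ = 1 := by rw [← map_mul, hS _ hx, map_one, hcc.2, one_mul]
  obtain ⟨d, hd, hd'⟩ := ω_one.1 hω
  refine ⟨⟨d, D0_Ct hd⟩, hd, ?_⟩
  rw [pow_two, ← map_mul]
  refine (πh_eq.2 ?_).symm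
  rwa [Subgroup.coe_mul, ← show (x : G) = a from e]

theorem four_sq : ∀ d ∈ four, d * d = 1 := by
  rintro d (rfl | rfl | rfl | rfl) <;> decide

theorem sr_sq : ∀ d ∈ Subgroup.zpowers (sr 3 : DihedralGroup 4), d * d = 1 := by
  rintro _ ⟨i, rfl⟩
  show (sr 3 : DihedralGroup 4) ^ i * (sr 3) ^ i = 1
  rw [← (Commute.refl (sr 3 : DihedralGroup 4)).mul_zpow, sr_mul_self, one_zpow]

theorem Db_le_norm_yq : C.Db ≤ Subgroup.normalizer (Subgroup.zpowers C.yq : Set C.Hq) := by
  rw [norm_yq]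
  rintro _ ⟨a, ha, rfl⟩
  refine ⟨a, ⟨⟨a, Xc_Xn (D0_Xc ha)⟩, ?_, rfl⟩, rfl⟩
  show C.ν _ ∈ four
  rw [(ν_one _).2 (show (a : G) ∈ C.Xc from D0_Xc ha)]
  exact one_mem _

variable (C) in
/-- the exceptional configuration -/
def IsExc : Prop :=
  ∃ N : Subgroup C.Hq, N.Normal ∧ Cfsg.generalizedFittingSubgroup C.Hq = N ∧
    Nonempty (N ≃* alternatingGroup (Fin 5) × alternatingGroup (Fin 5)) ∧
    (∀ K : Subgroup C.Hq, K.Normal → K ≤ N → K = ⊥ ∨ K = N) ∧
    N.index = 4 ∧ ∀ g : C.Hq, g ^ 2 ∈ N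

theorem top_even (hc : IsEven' C) : Nonempty (C.Hq ≃* alternatingGroup (Fin 8)) := by
  obtain ⟨P, hP⟩ := D_Sylow (C := C)
  obtain ⟨eN⟩ := exists_eN.1 hc
  obtain ⟨eC⟩ := exists_eCz.1 hc
  obtain ⟨eL⟩ := exists_eLz.1 hc
  have hC : Subgroup.centralizer (C.Db : Set C.Hq) = C.Db := by
    refine (Subgroup.eq_of_le_of_card_ge ?_ ?_).symm
    · haveI := Db_comm (C := C)
      exact Subgroup.le_centralizer _
    · have := card_cent_Db (C := C)
      rw [card_Xc.1 hc] at this
      rw [card_Db]; omega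
  have hyn : (C.Db.subgroupOf (Subgroup.centralizer ({C.yq} : Set C.Hq))).Normal := by
    refine Subgroup.normal_subgroupOf_of_le_normalizer ?_
    rw [cent_yq]; exact imh_le_norm _
  have hycard : Nat.card (Subgroup.centralizer ({C.yq} : Set C.Hq)) = 18 := by
    have := card_imh_comap (C := C) (Subgroup.zpowers (sr 3))
    rw [card_Xc.1 hc, card_sr] at this
    rw [cent_yq]; omega
  haveI hn : (C.Db.subgroupOf (Subgroup.normalizer (Subgroup.zpowers C.yq : Set C.Hq))).Normal := by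
    refine Subgroup.normal_subgroupOf_of_le_normalizer ?_
    rw [norm_yq]; exact imh_le_norm _
  refine S3329.result P C.Db hP C.yq C.zq closure_yz Db_comm card_Db Db_exp hC eN hyn hycard _ rfl
    Db_le_norm_yq ?_ ?_ eC eL
  · have h := (C.Db.subgroupOf (Subgroup.normalizer (Subgroup.zpowers C.yq : Set C.Hq))).card_mul_index
    rw [Nat.card_congr (Subgroup.subgroupOfEquivOfLe Db_le_norm_yq).toEquiv, card_Db,
      Subgroup.index_eq_card] at h
    have h4 := card_imh_comap (C := C) four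
    rw [card_Xc.1 hc, card_four, ← norm_yq] at h4
    omega
  · intro g
    obtain ⟨⟨a, ha⟩, rfl⟩ := QuotientGroup.mk'_surjective _ g
    rw [← map_pow, QuotientGroup.mk'_apply, QuotientGroup.eq_one_iff, Subgroup.mem_subgroupOf]
    exact sq_Db four four_sq a (norm_yq (C := C) ▸ ha)

theorem top_odd (hc : ¬ IsEven' C) : Nonempty (C.Hq ≃* Equiv.Perm (Fin 8)) ∨ C.IsExc := by
  obtain ⟨P, hP⟩ := D_Sylow (C := C)
  obtain ⟨eN⟩ := exists_eN.2 hc
  obtain ⟨eC⟩ := exists_eCz.2 hc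
  obtain ⟨eL⟩ := exists_eLz.2 hc
  obtain ⟨νb, hνb⟩ := exists_nubar (C := C)
  obtain ⟨s, hs⟩ := exists_section (C := C)
  set φ := νb.comp (QuotientGroup.mk' (C.Db.subgroupOf (Subgroup.normalizer (C.Db : Set C.Hq)))) with hφ
  have hsurj : Function.Surjective φ := (show Function.Surjective νb from fun d => ⟨s d, hs νb hνb d⟩).comp
    (QuotientGroup.mk'_surjective _)
  have hker : φ.ker = (Subgroup.centralizer (C.Db : Set C.Hq)).subgroupOf (Subgroup.normalizer (C.Db : Set C.Hq)) := by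
    refine Subgroup.ext ?_
    rintro ⟨q, hq⟩
    obtain ⟨x, hx, e⟩ : q ∈ C.imh C.Xn := normalizer_Db (C := C) ▸ hq
    have hmk : φ ⟨q, hq⟩ = C.ν ⟨x, hx⟩ := by
      rw [← hνb]
      exact congrArg νb (congrArg (QuotientGroup.mk' _) (Subtype.ext e.symm))
    rw [MonoidHom.mem_ker, hmk, ν_one, Subgroup.mem_subgroupOf, centralizer_Db]
    constructor
    · exact fun h => ⟨x, h, e⟩
    · rintro ⟨x', hx', e'⟩
      show (x : G) ∈ C.Xc
      rcases πh_eq.1 (e.trans e'.symm) with h | h <;> rw [h]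
      · exact hx'
      · exact mul_mem hx' t_Xc
  haveI hcn : ((Subgroup.centralizer (C.Db : Set C.Hq)).subgroupOf (Subgroup.normalizer (C.Db : Set C.Hq))).Normal := by
    rw [← hker]; infer_instance
  have eNC := (QuotientGroup.quotientMulEquivOfEq hker.symm).trans (QuotientGroup.quotientKerEquivOfSurjective φ hsurj)
  have hC : Nat.card (Subgroup.centralizer (C.Db : Set C.Hq)) = 18 := by
    have := card_cent_Db (C := C)
    rw [card_Xc.2 hc] at this
    omega
  have hyn : (C.Db.subgroupOf (Subgroup.centralizer ({C.yq} : Set C.Hq))).Normal := by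
    refine Subgroup.normal_subgroupOf_of_le_normalizer ?_
    rw [cent_yq]; exact imh_le_norm _
  have hycard : Nat.card (Subgroup.centralizer ({C.yq} : Set C.Hq)) = 36 := by
    have := card_imh_comap (C := C) (Subgroup.zpowers (sr 3))
    rw [card_Xc.2 hc, card_sr] at this
    rw [cent_yq]; omega
  have hn : (C.Db.subgroupOf (Subgroup.normalizer (Subgroup.zpowers C.yq : Set C.Hq))).Normal := by
    refine Subgroup.normal_subgroupOf_of_le_normalizer ?_
    rw [norm_yq]; exact imh_le_norm _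
  have hcard : Nat.card (Subgroup.normalizer (Subgroup.zpowers C.yq : Set C.Hq)) = 72 := by
    have h4 := card_imh_comap (C := C) four
    rw [card_Xc.2 hc, card_four, ← norm_yq] at h4
    omega
  exact S3330.result P C.Db hP C.yq C.zq closure_yz Db_comm card_Db Db_exp hC eN eNC hyn hycard
    (fun g hg => sq_Db _ sr_sq g (cent_yq (C := C) ▸ hg)) _ rfl hn hcard
    (fun g hg => sq_Db _ four_sq g (norm_yq (C := C) ▸ hg)) eC eL

end Ctx

end Cfsg.Agent.MclThree
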