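import Cfsg.Agent.Lib.Recognition.MclThreeLocal.TopBase
import Cfsg.Agent.Lib.Perm.AltAut

/-!
The normaliser of the first point modulo the involution.
-/

set_option autoImplicit false
set_option linter.unusedSectionVars false
set_option synthInstance.maxSize 2000
set_option maxRecDepth 100000
set_option maxHeartbeats 1000000

namespace Cfsg.Agent.MclThree

open scoped commutatorElement
open Equiv

universe u

variable {G : Type u} [Group G] [Finite G] {D : Data G}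

namespace Ctx

variable (C : Ctx D)

/-- the centraliser of the centre and the involution -/
abbrev X1 : Subgroup G := C.Ct ⊓ Subgroup.centralizer (D.Z : Set G)

/-- the normaliser of the centre in the centraliser of the involution -/
abbrev X2 : Subgroup G := C.Ct ⊓ Subgroup.normalizer (D.Z : Set G)

variable {C}

theorem K_X1 : C.K ≤ C.X1 := fun _ hk => ⟨mem_Ct.2 (C.K_t hk), D.L_le (C.K_le_L hk)⟩

theorem X1_X2 : C.X1 ≤ C.X2 := fun _ hx => ⟨hx.1, cent_le_norm _ hx.2⟩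

theorem Z_X1 : D.Z ≤ C.X1 := fun z hz => ⟨D0_Ct (by
    obtain ⟨i, rfl⟩ := C.Z_mem hz
    exact ⟨i, 0, rfl⟩),
  Subgroup.mem_centralizer_iff.2 fun w hw => D.Jc w (D.Z_le_J hw) z (D.Z_le_J hz)⟩

theorem f_X2 : (C.f : G) ∈ C.X2 := ⟨mem_Ct.2 C.f_comm_t, C.f_NZ⟩

theorem t_X1 : (C.t : G) ∈ C.X1 := K_X1 C.t_mem_K

theorem f_z : (C.f : G) * C.z * (C.f : G)⁻¹ = C.z⁻¹ := by
  rw [← C.vec_z, C.f_act, ← C.vec_neg]
  simp [fM]

theorem cent_z_eq : C.Ct ⊓ Subgroup.centralizer ({C.z} : Set G) = C.X1 := by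
  ext x
  constructor
  · rintro ⟨h1, h2⟩
    refine ⟨h1, cent_Z_of (C := C) ?_⟩
    rw [Subgroup.mem_centralizer_singleton_iff.1 h2, mul_inv_cancel_right]
  · rintro ⟨h1, h2⟩
    exact ⟨h1, Subgroup.mem_centralizer_singleton_iff.2 (Subgroup.mem_centralizer_iff.1 h2 _ C.base.hz).symm⟩

theorem norm_z_eq : C.Ct ⊓ Subgroup.normalizer (Subgroup.zpowers C.z : Set G) = C.X2 := by
  haveI : Fact (Nat.Prime 3) := ⟨Nat.prime_three⟩
  rw [show Subgroup.zpowers C.z = D.Z from Subgroup.eq_of_le_of_card_ge (Subgroup.zpowers_le.2 C.base.hz) (by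
    rw [D.Z_eq.2, Nat.card_zpowers, orderOf_eq_prime (D.Je _ (D.Z_le_J C.base.hz)) C.base.z1])]

theorem X1_or {x : G} (hx : x ∈ C.X2) : x ∈ C.X1 ∨ (x * C.f ∈ C.X1 ∧ x * (C.f : G)⁻¹ ∈ C.X1) := by
  rcases Norm.Z_gen C.base.hz C.base.z1 (mem_norm hx.2 C.base.hz) with h | h | h
  · exact absurd (conj_eq_one_iff.1 h) C.base.z1
  · exact Or.inl ⟨hx.1, cent_Z_of h⟩
  · have h1 : x * C.f ∈ C.X1 := by
      refine ⟨mul_mem hx.1 f_X2.1, cent_Z_of (C := C) ?_⟩
      calc x * C.f * C.z * (x * C.f)⁻¹ = x * ((C.f : G) * C.z * (C.f : G)⁻¹) * x⁻¹ := by group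
        _ = (x * C.z * x⁻¹)⁻¹ := by rw [f_z]; group
        _ = _ := by rw [h, inv_inv]
    refine Or.inr ⟨h1, ?_⟩
    have h2 := mul_mem h1 (inv_mem (t_X1 (C := C)))
    rw [← C.f_sq] at h2
    rwa [show x * (C.f : G) * ((C.f : G) * C.f)⁻¹ = x * (C.f : G)⁻¹ by group] at h2

theorem f_not_X1 : (C.f : G) ∉ C.X1 := fun h => by
  have e : C.z = C.z⁻¹ := by
    rw [← f_z (C := C), ← Subgroup.mem_centralizer_iff.1 h.2 C.z C.base.hz, mul_inv_cancel_right]
  have h2 : C.z ^ 2 = 1 := by rw [pow_two]; nth_rw 1 [e]; rw [inv_mul_cancel]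
  have h3 := D.Je _ (D.Z_le_J C.base.hz)
  rw [pow_succ, h2, one_mul] at h3
  exact C.base.z1 h3

theorem K_perfect : _root_.commutator C.K = ⊤ := by
  refine Subgroup.map_injective C.χ_inj ?_
  rw [_root_.commutator_def, Subgroup.map_commutator, Subgroup.map_top_of_surjective _ C.χ_surj,
    ← _root_.commutator_def, sl_perfect]

theorem K_kill {A : Type*} [CommGroup A] (θ : C.K →* A) (k : C.K) : θ k = 1 :=
  Abelianization.commutator_subset_ker θ ((K_perfect (C := C)).symm ▸ Subgroup.mem_top k)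

/-- elements centralising the special linear group modulo the involution centralise it -/
theorem cent_mod {x : G} (hx : x ∈ C.Ct) (h : ∀ k ∈ C.K, x * k * x⁻¹ = k ∨ x * k * x⁻¹ = k * C.t) :
    ∀ k ∈ C.K, x * k = k * x := by
  haveI : IsMulCommutative (Subgroup.zpowers (C.t : G)) := inferInstance
  open scoped IsMulCommutative in
  let θ : C.K →* Subgroup.zpowers (C.t : G) :=
    { toFun := fun k => ⟨(k : G)⁻¹ * (x * k * x⁻¹), by
        rcases h k k.2 with e | e <;> rw [e]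
        · rw [inv_mul_cancel]; exact one_mem _
        · rw [inv_mul_cancel_left]; exact Subgroup.mem_zpowers _⟩
      map_one' := Subtype.ext (by simp)
      map_mul' := fun a b => Subtype.ext (by
        have hc : ((a : G)⁻¹ * (x * a * x⁻¹)) * (b : G)⁻¹ = (b : G)⁻¹ * ((a : G)⁻¹ * (x * a * x⁻¹)) := by
          rcases h a a.2 with e | e <;> rw [e]
          · simp
          · rw [inv_mul_cancel_left]
            exact ((show Commute (b : G) C.t from C.K_t b.2).inv_left).eq.symm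
        show ((a * b : C.K) : G)⁻¹ * (x * (a * b : C.K) * x⁻¹) =
          (a : G)⁻¹ * (x * a * x⁻¹) * ((b : G)⁻¹ * (x * b * x⁻¹))
        rw [← mul_assoc ((a : G)⁻¹ * (x * a * x⁻¹)), hc, Subgroup.coe_mul]
        group) }
  intro k hk
  open scoped IsMulCommutative in
  have e := congrArg Subtype.val (K_kill θ ⟨k, hk⟩)
  replace e : k⁻¹ * (x * k * x⁻¹) = 1 := e
  exact mul_inv_eq_iff_eq_mul.1 (inv_mul_eq_one.1 e).symm

/-- the action on the special linear group modulo the involution -/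
theorem exists_beta : ∃ β : C.X2 →* Perm (Fin 5),
    (∀ x : C.X2, β x = 1 ↔ ∀ k ∈ C.K, (x : G) * k = k * x) ∧
    (∀ k : C.K, Perm.sign (β ⟨k, X1_X2 (K_X1 k.2)⟩) = 1) ∧
    (∀ k : C.K, β ⟨k, X1_X2 (K_X1 k.2)⟩ = 1 → (k : G) = 1 ∨ (k : G) = C.t) ∧
    (∀ σ : Perm (Fin 5), Perm.sign σ = 1 → ∃ k : C.K, β ⟨k, X1_X2 (K_X1 k.2)⟩ = σ) ∧
    Perm.sign (β ⟨C.f, f_X2⟩) = -1 := by
  obtain ⟨π, hπ, hπk⟩ := exists_pi
  set ρ : C.K →* alternatingGroup (Fin 5) := π.comp C.χ with hρ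
  have hρs : Function.Surjective ρ := hπ.comp C.χ_surj
  have hρk : ∀ k : C.K, ρ k = 1 ↔ (k : G) = 1 ∨ (k : G) = C.t := fun k => by
    rw [hρ, MonoidHom.comp_apply, hπk]
    constructor
    · rintro (e | e)
      · exact Or.inl (congrArg Subtype.val (C.χ_inj (e.trans (map_one _).symm)))
      · exact Or.inr (congrArg Subtype.val (C.χ_inj (e.trans C.χ_t.symm)))
    · rintro (e | e)
      · left; rw [show k = 1 from Subtype.ext e, map_one]
      · right; rw [show k = ⟨C.t, C.t_mem_K⟩ from Subtype.ext e, C.χ_t]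
  have hcK : ∀ x : C.X2, ∀ k : C.K, (x : G) * k * (x : G)⁻¹ ∈ C.K := fun x k =>
    C.mem_norm_K (mem_Ct.1 x.2.1) x.2.2 k.2
  have hex : ∀ x : C.X2, ∃ p : Perm (Fin 5), ∀ k : C.K,
      (ρ ⟨_, hcK x k⟩ : Perm (Fin 5)) = p * (ρ k : Perm (Fin 5)) * p⁻¹ := by
    intro x
    let cj : C.K →* C.K :=
      { toFun := fun k => ⟨_, hcK x k⟩
        map_one' := Subtype.ext (by simp)
        map_mul' := fun a b => Subtype.ext (by simp [mul_assoc]) }
    have hker : ρ.ker ≤ (ρ.comp cj).ker := fun k hk => by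
      rcases (hρk k).1 hk with e | e
      · exact (hρk (cj k)).2 (Or.inl (by show (x : G) * k * (x : G)⁻¹ = 1; rw [e]; simp))
      · refine (hρk (cj k)).2 (Or.inr ?_)
        show (x : G) * k * (x : G)⁻¹ = C.t
        rw [e, mem_Ct.1 x.2.1, mul_inv_cancel_right]
    set σ := ρ.liftOfSurjective hρs ⟨ρ.comp cj, hker⟩ with hσ
    have hσρ : ∀ k, σ (ρ k) = ρ (cj k) := fun k => MonoidHom.liftOfRightInverse_comp_apply _ _ _ _ k
    have hσs : Function.Surjective σ := fun a => by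
      obtain ⟨k, rfl⟩ := hρs a
      refine ⟨ρ ⟨(x : G)⁻¹ * k * x, by
        have := hcK x⁻¹ k
        simpa using this⟩, ?_⟩
      rw [hσρ]; congr 1; exact Subtype.ext (by show (x : G) * ((x : G)⁻¹ * k * x) * (x : G)⁻¹ = k; group)
    obtain ⟨p, hp⟩ := Cfsg.Agent.Perm.AltAut.exists_perm_of_ne_six (n := 5) (by norm_num) (by norm_num)
      (MulEquiv.ofBijective σ (Finite.surjective_iff_bijective.1 hσs))
    refine ⟨p, fun k => ?_⟩
    have e := congrArg (fun s : MulAut (alternatingGroup (Fin 5)) => (s (ρ k) : Perm (Fin 5))) hp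
    simp only [MulEquiv.ofBijective_apply, MulAut.conjNormal_apply] at e
    rw [hσρ] at e
    exact e
  choose p hp using hex
  have huniq : ∀ q q' : Perm (Fin 5), (∀ k : C.K, q * (ρ k : Perm (Fin 5)) * q⁻¹ = q' * (ρ k : Perm (Fin 5)) * q'⁻¹) →
      q = q' := fun q q' h => Cfsg.Agent.Perm.AltAut.conjNormal_injective (n := 5) (by norm_num) (MulEquiv.ext fun a => by
    obtain ⟨k, rfl⟩ := hρs a
    exact Subtype.ext (by simp only [MulAut.conjNormal_apply]; exact h k))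
  have hmul : ∀ x y : C.X2, p (x * y) = p x * p y := fun x y => huniq _ _ fun k => by
    rw [← hp, mul_inv_rev,
      show p x * p y * (ρ k : Perm (Fin 5)) * ((p y)⁻¹ * (p x)⁻¹) = p x * (p y * (ρ k : Perm (Fin 5)) * (p y)⁻¹) * (p x)⁻¹ by group,
      ← hp, ← hp]
    refine congrArg (fun a : alternatingGroup (Fin 5) => (a : Perm (Fin 5))) (congrArg ρ (Subtype.ext ?_))
    simp [mul_assoc]
  set β := MonoidHom.mk' p hmul with hβ
  have hβK : ∀ k : C.K, β ⟨k, X1_X2 (K_X1 k.2)⟩ = (ρ k : Perm (Fin 5)) := fun k => huniq _ _ fun k' => by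
    show p _ * (ρ k' : Perm (Fin 5)) * (p _)⁻¹ = _
    rw [← hp]
    show _ = (ρ k : Perm (Fin 5)) * ρ k' * (ρ k : Perm (Fin 5))⁻¹
    refine congrArg (fun a : alternatingGroup (Fin 5) => (a : Perm (Fin 5))) (?_ : _ = ρ k * ρ k' * (ρ k)⁻¹)
    rw [← map_inv, ← map_mul, ← map_mul]
    rfl
  have hker : ∀ x : C.X2, β x = 1 ↔ ∀ k ∈ C.K, (x : G) * k = k * x := by
    intro x
    constructor
    · intro h
      refine cent_mod x.2.1 fun k hk => ?_
      have e := hp x ⟨k, hk⟩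
      rw [show p x = 1 from h, one_mul, inv_one, mul_one] at e
      have e' : ρ ⟨_, hcK x ⟨k, hk⟩⟩ = ρ ⟨k, hk⟩ := Subtype.ext e
      rw [← inv_mul_eq_one, ← map_inv, ← map_mul, hρk] at e'
      simp only [Subgroup.coe_mul, Subgroup.coe_inv] at e'
      rcases e' with e' | e'
      · exact Or.inl (inv_mul_eq_one.1 e')
      · right
        rw [inv_mul_eq_iff_eq_mul] at e'
        calc (x : G) * k * (x : G)⁻¹ = (x : G) * k * (x : G)⁻¹ * C.t * C.t := by rw [mul_assoc _ (C.t : G), C.t_sq, mul_one]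
          _ = _ := by rw [← e']
    · intro h
      refine (huniq _ 1 fun k => ?_)
      show p x * (ρ k : Perm (Fin 5)) * (p x)⁻¹ = _
      rw [← hp, one_mul, inv_one, mul_one]
      refine congrArg (fun a : alternatingGroup (Fin 5) => (a : Perm (Fin 5))) (congrArg ρ (Subtype.ext ?_))
      show (x : G) * k * (x : G)⁻¹ = k
      rw [h k k.2, mul_inv_cancel_right]
  refine ⟨β, hker, fun k => ?_, fun k hk => ?_, fun σ hσ => ?_, ?_⟩
  · rw [hβK]; exact (ρ k).2
  · rw [hβK] at hk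
    exact (hρk k).1 (Subtype.ext hk)
  · obtain ⟨k, hk⟩ := hρs ⟨σ, hσ⟩
    exact ⟨k, by rw [hβK, hk]⟩
  · refine (Int.units_eq_one_or (Perm.sign (β ⟨C.f, f_X2⟩))).resolve_left fun hs => ?_
    obtain ⟨k, hk⟩ := hρs ⟨_, hs⟩
    have hk' : β ⟨k, X1_X2 (K_X1 k.2)⟩ = β ⟨C.f, f_X2⟩ := by rw [hβK, hk]
    have hc := (hker (⟨C.f, f_X2⟩ * ⟨k, X1_X2 (K_X1 k.2)⟩⁻¹)).1 (by rw [map_mul, map_inv, hk', mul_inv_cancel])
    refine C.f_outer k.2 fun k' hk'' => ?_
    have e := hc _ (mul_mem (mul_mem k.2 hk'') (inv_mem k.2))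
    simp only [Subgroup.coe_mul, Subgroup.coe_inv] at e
    calc (C.f : G) * k' * (C.f : G)⁻¹ = (C.f : G) * (k : G)⁻¹ * ((k : G) * k' * (k : G)⁻¹) * ((C.f : G) * (k : G)⁻¹)⁻¹ := by group
      _ = _ := by rw [e, mul_inv_cancel_right]

/-- the chosen action -/
noncomputable def β (C : Ctx D) : C.X2 →* Perm (Fin 5) := (exists_beta (C := C)).choose

theorem β_ker (x : C.X2) : C.β x = 1 ↔ ∀ k ∈ C.K, (x : G) * k = k * x := (exists_beta (C := C)).choose_spec.1 x

theorem β_K_sign (k : C.K) : Perm.sign (C.β ⟨k, X1_X2 (K_X1 k.2)⟩) = 1 := (exists_beta (C := C)).choose_spec.2.1 k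

theorem β_K_one (k : C.K) (h : C.β ⟨k, X1_X2 (K_X1 k.2)⟩ = 1) : (k : G) = 1 ∨ (k : G) = C.t :=
  (exists_beta (C := C)).choose_spec.2.2.1 k h

theorem β_K_surj {σ : Perm (Fin 5)} (h : Perm.sign σ = 1) : ∃ k : C.K, C.β ⟨k, X1_X2 (K_X1 k.2)⟩ = σ :=
  (exists_beta (C := C)).choose_spec.2.2.2.1 σ h

theorem β_f : Perm.sign (C.β ⟨C.f, f_X2⟩) = -1 := (exists_beta (C := C)).choose_spec.2.2.2.2

/-- its restriction to the centraliser of the centre -/
noncomputable def β1 (C : Ctx D) : C.X1 →* Perm (Fin 5) := C.β.comp (Subgroup.inclusion X1_X2)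

/-- the even case -/
def IsEven' (C : Ctx D) : Prop := ∀ x : C.X1, Perm.sign (C.β1 x) = 1

theorem β1_ker (x : C.X1) (h : C.β1 x = 1) : (x : G) ∈ D.Z ∨ (x : G) * C.t ∈ D.Z :=
  C.cent_K x.2.2 (mem_Ct.1 x.2.1) ((β_ker _).1 h)

theorem β1_Z (x : C.X1) (h : (x : G) ∈ D.Z) : C.β1 x = 1 :=
  (β_ker _).2 fun _ hk => (Subgroup.mem_centralizer_iff.1 (K_X1 hk).2 _ h)

theorem β1_t : C.β1 ⟨C.t, t_X1⟩ = 1 := (β_ker _).2 fun _ hk => (C.K_t hk).symm

theorem card_β1_ker : Nat.card C.β1.ker = 6 := by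
  have e : C.β1.ker.map C.X1.subtype = D.Z ⊔ Subgroup.zpowers (C.t : G) := by
    refine le_antisymm ?_ (sup_le (fun z hz => ⟨⟨z, Z_X1 hz⟩, β1_Z _ hz, rfl⟩) (Subgroup.zpowers_le.2 ⟨_, β1_t, rfl⟩))
    rintro _ ⟨x, hx, rfl⟩
    rcases β1_ker x hx with h | h
    · exact Subgroup.mem_sup_left h
    · rw [Subgroup.coe_subtype, show (x : G) = x * C.t * C.t by rw [mul_assoc, C.t_sq, mul_one]]
      exact mul_mem (Subgroup.mem_sup_left h) (Subgroup.mem_sup_right (Subgroup.mem_zpowers _))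
  rw [← Subgroup.card_map_of_injective C.X1.subtype_injective, e]
  have h := Cfsg.Agent.Solv.card_sup_mul_card_inf' D.Z (Subgroup.zpowers (C.t : G))
    (Subgroup.zpowers_le.2 (cent_le_norm _ t_X1.2))
  rw [Subgroup.inf_eq_bot_of_coprime (by rw [D.Z_eq.2, Nat.card_zpowers, C.order_t]; norm_num), Subgroup.card_bot,
    D.Z_eq.2, Nat.card_zpowers, C.order_t] at h
  omega

theorem alt_le_β1 : alternatingGroup (Fin 5) ≤ C.β1.range := fun σ hσ => by
  obtain ⟨k, hk⟩ := β_K_surj (C := C) (Perm.mem_alternatingGroup.1 hσ)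
  exact ⟨⟨k, K_X1 k.2⟩, hk⟩

theorem range_even (h : IsEven' C) : C.β1.range = alternatingGroup (Fin 5) :=
  le_antisymm (by rintro _ ⟨x, rfl⟩; exact Perm.mem_alternatingGroup.2 (h x)) alt_le_β1

theorem range_odd (h : ¬ IsEven' C) : C.β1.range = ⊤ := by
  simp only [IsEven', not_forall] at h
  obtain ⟨x, hx⟩ := h
  refine eq_top_iff.2 fun σ _ => ?_
  rcases Int.units_eq_one_or (Perm.sign σ) with e | e
  · exact alt_le_β1 (Perm.mem_alternatingGroup.2 e)
  · have h' : σ * (C.β1 x)⁻¹ ∈ C.β1.range := alt_le_β1 (Perm.mem_alternatingGroup.2 (by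
      rw [map_mul, map_inv, e, (Int.units_eq_one_or _).resolve_left hx]; rfl))
    simpa using mul_mem h' ⟨x, rfl⟩

theorem card_X1 : (IsEven' C → Nat.card C.X1 = 360) ∧ (¬ IsEven' C → Nat.card C.X1 = 720) := by
  have h := C.β1.ker.card_mul_index
  rw [card_β1_ker, Subgroup.index_ker] at h
  constructor <;> intro hc
  · rw [range_even hc, nat_card_alternatingGroup, Nat.card_fin] at h
    rw [← h]; rfl
  · rw [range_odd hc, Subgroup.card_top, Nat.card_perm, Nat.card_fin] at h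
    rw [← h]; rfl

theorem X1_square (x : C.X1) : ∃ w ∈ D.Z, ∃ k ∈ C.K, (x : G) * x = w * k := by
  obtain ⟨k, hk⟩ := β_K_surj (C := C) (σ := C.β1 x * C.β1 x) (by rw [map_mul, Int.units_mul_self])
  have h1 : C.β1 (x * x * ⟨k, K_X1 k.2⟩⁻¹) = 1 := by
    rw [map_mul, map_mul, map_inv, show C.β1 ⟨k, K_X1 k.2⟩ = _ from hk, mul_inv_cancel]
  rcases β1_ker _ h1 with h | h
  · exact ⟨_, h, k, k.2, by simp⟩
  · refine ⟨_, h, (C.t : G) * k, mul_mem C.t_mem_K k.2, ?_⟩
    simp only [Subgroup.coe_mul, Subgroup.coe_inv, mul_assoc]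
    rw [← mul_assoc (C.t : G) (C.t : G), C.t_sq, one_mul, inv_mul_cancel, mul_one]

theorem three_sq {a b : G} (ha : a ^ 3 = 1) (hb : b ^ 3 = 1) (h : a * a = b * b) : a = b := by
  rw [pow_succ, pow_two] at ha hb
  calc a = a * a * (a * a) := by rw [← mul_assoc, ha, one_mul]
    _ = b * b * (b * b) := by rw [h]
    _ = b := by rw [← mul_assoc, hb, one_mul]

/-- the component in the centre -/
theorem exists_tau : ∃ τ : C.X1 →* G, (∀ x, τ x ∈ D.Z) ∧ (∀ x : C.X1, (x : G) ∈ C.K → τ x = 1) ∧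
    (∀ x : C.X1, (x : G) ∈ D.Z → τ x = 1 → x = 1) ∧
    ∀ (x : C.X1) (hx : (C.f : G) * x * (C.f : G)⁻¹ ∈ C.X1), τ ⟨_, hx⟩ = (C.f : G) * τ x * (C.f : G)⁻¹ := by
  haveI : Fact (Nat.Prime 3) := ⟨Nat.prime_three⟩
  obtain ⟨P⟩ : Nonempty (Sylow 3 C.X1) := inferInstance
  have hP : Nat.card (P : Subgroup C.X1) = 3 ^ 2 := by
    rw [P.card_eq_multiplicity]
    by_cases hc : IsEven' C
    · rw [card_X1.1 hc, show (360 : ℕ) = 3 ^ 2 * 40 from rfl,
        Nat.factorization_mul (by norm_num) (by norm_num), Nat.Prime.factorization_pow Nat.prime_three]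
      simp [Nat.factorization_eq_zero_of_not_dvd (show ¬ 3 ∣ 40 by norm_num)]
    · rw [card_X1.2 hc, show (720 : ℕ) = 3 ^ 2 * 80 from rfl,
        Nat.factorization_mul (by norm_num) (by norm_num), Nat.Prime.factorization_pow Nat.prime_three]
      simp [Nat.factorization_eq_zero_of_not_dvd (show ¬ 3 ∣ 80 by norm_num)]
  haveI : IsMulCommutative (P : Subgroup C.X1) := ⟨⟨IsPGroup.commutative_of_card_eq_prime_sq hP⟩⟩
  open scoped IsMulCommutative in
  let τP : C.X1 →* (P : Subgroup C.X1) := MonoidHom.transfer (MonoidHom.id (P : Subgroup C.X1))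
  set τ : C.X1 →* G := (C.X1.subtype.comp (P : Subgroup C.X1).subtype).comp τP with hτd
  have hK : ∀ x : C.X1, (x : G) ∈ C.K → τP x = 1 := fun x hx => by
    open scoped IsMulCommutative in
    exact K_kill (τP.comp (Subgroup.inclusion K_X1)) ⟨x, hx⟩
  have hZc : ∀ x : C.X1, (x : G) ∈ D.Z → ∀ g : C.X1, g * x = x * g := fun x hx g =>
    Subtype.ext (Subgroup.mem_centralizer_iff.1 g.2.2 _ hx).symm
  have hZv : ∀ x : C.X1, (x : G) ∈ D.Z → τ x = (x : G) ^ (P : Subgroup C.X1).index := fun x hx => by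
    have key : ∀ (k : ℕ) (g₀ : C.X1), g₀⁻¹ * x ^ k * g₀ ∈ (P : Subgroup C.X1) → g₀⁻¹ * x ^ k * g₀ = x ^ k :=
      fun k g₀ _ => by
        rw [mul_assoc, ← (Commute.pow_right (show Commute g₀ x from hZc x hx g₀) k).eq, inv_mul_cancel_left]
    have h := MonoidHom.transfer_eq_pow (MonoidHom.id (P : Subgroup C.X1)) x key
    show ((τP x : C.X1) : G) = _
    rw [show τP x = _ from h]
    rfl
  have hτK : ∀ x : C.X1, (x : G) ∈ C.K → τ x = 1 := fun x hx => by
    show ((τP x : C.X1) : G) = 1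
    rw [hK x hx]; rfl
  have h3 : ∀ x : C.X1, τ x ^ 3 = 1 := fun x => by
    obtain ⟨w, hw, k, hk, e⟩ := X1_square x
    have h9 : (τP x) ^ (3 ^ 2) = 1 := by
      rw [← hP]; exact pow_card_eq_one'
    have h1 : τ x * τ x = w ^ (P : Subgroup C.X1).index := by
      rw [← map_mul, show x * x = ⟨w, Z_X1 hw⟩ * ⟨k, K_X1 hk⟩ from Subtype.ext e, map_mul, hτK ⟨k, K_X1 hk⟩ hk, mul_one, hZv _ hw]
    have h2 : τ x ^ 6 = 1 := by
      rw [show 6 = 2 * 3 from rfl, pow_mul, pow_two, h1, ← pow_mul, mul_comm, pow_mul, D.Je _ (D.Z_le_J hw), one_pow]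
    have h9' : τ x ^ 9 = 1 := congrArg (fun a : (P : Subgroup C.X1) => ((a : C.X1) : G)) h9
    simpa using pow_gcd_eq_one.2 ⟨h2, h9'⟩
  have hmem : ∀ x, τ x ∈ D.Z := fun x => by
    obtain ⟨w, hw, k, hk, e⟩ := X1_square x
    have h1 : τ x * τ x = w ^ (P : Subgroup C.X1).index := by
      rw [← map_mul, show x * x = ⟨w, Z_X1 hw⟩ * ⟨k, K_X1 hk⟩ from Subtype.ext e, map_mul, hτK ⟨k, K_X1 hk⟩ hk, mul_one, hZv _ hw]
    have h4 : τ x = (τ x * τ x) * (τ x * τ x) := by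
      calc τ x = τ x ^ 3 * τ x := by rw [h3, one_mul]
        _ = _ := by simp [pow_succ, mul_assoc]
    rw [h4, h1]
    exact mul_mem (pow_mem hw _) (pow_mem hw _)
  refine ⟨τ, hmem, hτK, fun x hx h => ?_, fun x hx => ?_⟩
  · rw [hZv x hx] at h
    have := pow_gcd_eq_one.2 ⟨h, D.Je _ (D.Z_le_J hx)⟩
    rw [(Nat.prime_three.coprime_iff_not_dvd.2 P.not_dvd_index).symm.gcd_eq_one, pow_one] at this
    exact Subtype.ext this
  · refine three_sq (D.Je _ (D.Z_le_J (hmem _))) (by rw [conj_pow, h3]; simp) ?_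
    obtain ⟨w, hw, k, hk, e⟩ := X1_square x
    have hfw : (C.f : G) * w * (C.f : G)⁻¹ ∈ D.Z := mem_norm C.f_NZ hw
    have hfk : (C.f : G) * k * (C.f : G)⁻¹ ∈ C.K := C.mem_norm_K C.f_comm_t C.f_NZ hk
    have hl : τ ⟨_, hx⟩ * τ ⟨_, hx⟩ = ((C.f : G) * w * (C.f : G)⁻¹) ^ (P : Subgroup C.X1).index := by
      rw [← map_mul, show (⟨_, hx⟩ : C.X1) * ⟨_, hx⟩ = ⟨_, Z_X1 hfw⟩ * ⟨_, K_X1 hfk⟩ from Subtype.ext (by
        show (C.f : G) * x * (C.f : G)⁻¹ * ((C.f : G) * x * (C.f : G)⁻¹) = (C.f : G) * w * (C.f : G)⁻¹ * ((C.f : G) * k * (C.f : G)⁻¹)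
        calc _ = (C.f : G) * ((x : G) * x) * (C.f : G)⁻¹ := by group
          _ = _ := by rw [e]; group), map_mul, hτK ⟨_, K_X1 hfk⟩ hfk, mul_one, hZv _ hfw]
    have hr : τ x * τ x = w ^ (P : Subgroup C.X1).index := by
      rw [← map_mul, show x * x = ⟨w, Z_X1 hw⟩ * ⟨k, K_X1 hk⟩ from Subtype.ext e, map_mul, hτK ⟨k, K_X1 hk⟩ hk, mul_one, hZv _ hw]
    rw [hl, conj_pow, ← hr]
    group

/-- the chosen component -/
noncomputable def τ (C : Ctx D) : C.X1 →* D.Z :=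
  (exists_tau (C := C)).choose.codRestrict D.Z (exists_tau (C := C)).choose_spec.1

theorem τ_K (x : C.X1) (h : (x : G) ∈ C.K) : C.τ x = 1 := Subtype.ext ((exists_tau (C := C)).choose_spec.2.1 x h)

theorem τ_Z (x : C.X1) (h : (x : G) ∈ D.Z) (e : C.τ x = 1) : x = 1 :=
  (exists_tau (C := C)).choose_spec.2.2.1 x h (congrArg Subtype.val e)

theorem τ_f (x : C.X1) (hx : (C.f : G) * x * (C.f : G)⁻¹ ∈ C.X1) :
    (C.τ ⟨_, hx⟩ : G) = (C.f : G) * C.τ x * (C.f : G)⁻¹ := (exists_tau (C := C)).choose_spec.2.2.2 x hx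

theorem τβ_one (x : C.X1) (hτ : C.τ x = 1) (hβ : C.β1 x = 1) : (x : G) = 1 ∨ (x : G) = C.t := by
  rcases β1_ker x hβ with h | h
  · exact Or.inl (congrArg Subtype.val (τ_Z x h hτ))
  · right
    have h1 : (x * ⟨C.t, t_X1⟩ : C.X1) = 1 :=
      τ_Z _ h (by rw [map_mul, hτ, τ_K (C := C) ⟨C.t, t_X1⟩ C.t_mem_K, one_mul])
    have h2 : (x : G) * C.t = 1 := congrArg Subtype.val h1
    rw [eq_inv_of_mul_eq_one_left h2, inv_eq_of_mul_eq_one_right C.t_sq]

theorem z_three : ((⟨C.z, Z_X1 C.base.hz |>.1⟩ : C.Ct) : G) ^ 3 = 1 := D.Je _ (D.Z_le_J C.base.hz)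

/-- the centraliser of the first point -/
theorem exists_eCz : (IsEven' C → Nonempty (Subgroup.centralizer ({C.πh ⟨C.z, (Z_X1 C.base.hz).1⟩} : Set C.Hq) ≃*
      Multiplicative (ZMod 3) × alternatingGroup (Fin 5))) ∧
    (¬ IsEven' C → Nonempty (Subgroup.centralizer ({C.πh ⟨C.z, (Z_X1 C.base.hz).1⟩} : Set C.Hq) ≃*
      Multiplicative (ZMod 3) × Perm (Fin 5))) := by
  haveI : Fact (Nat.Prime 3) := ⟨Nat.prime_three⟩
  obtain ⟨e3⟩ : Nonempty (D.Z ≃* Multiplicative (ZMod 3)) :=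
    ⟨mulEquivOfPrimeCardEq (p := 3) D.Z_eq.2 (by rw [Nat.card_eq_fintype_card]; rfl)⟩
  set φ : C.X1 →* C.Hq := C.πh.comp (Subgroup.inclusion inf_le_left) with hφ
  have hr : φ.range = Subgroup.centralizer ({C.πh ⟨C.z, (Z_X1 C.base.hz).1⟩} : Set C.Hq) := by
    rw [centralizer_sing z_three, show C.Ct ⊓ Subgroup.centralizer ({C.z} : Set G) = C.X1 from cent_z_eq]
    ext q
    constructor
    · rintro ⟨n, rfl⟩; exact ⟨_, n.2, rfl⟩
    · rintro ⟨n, hn, rfl⟩; exact ⟨⟨n, hn⟩, rfl⟩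
  set ψ : C.X1 →* Multiplicative (ZMod 3) × Perm (Fin 5) := (e3.toMonoidHom.comp C.τ).prod C.β1 with hψ
  have hker : ∀ x, φ x = 1 ↔ ψ x = 1 := fun x => by
    rw [hφ, MonoidHom.comp_apply, πh_one, hψ, MonoidHom.prod_apply, Prod.mk_eq_one, MonoidHom.comp_apply,
      MulEquiv.coe_toMonoidHom, e3.map_eq_one_iff]
    constructor
    · rintro (h | h)
      · rw [show x = 1 from Subtype.ext h]; simp
      · rw [show x = ⟨C.t, t_X1⟩ from Subtype.ext h]; exact ⟨τ_K _ C.t_mem_K, β1_t⟩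
    · exact fun h => τβ_one x h.1 h.2
  have hk2 : Nat.card ψ.ker = 2 := by
    rw [← C.order_t, ← Nat.card_zpowers,
      ← Nat.card_congr (Subgroup.subgroupOfEquivOfLe (Subgroup.zpowers_le.2 (t_X1 (C := C)))).toEquiv]
    refine Nat.card_congr (Equiv.setCongr (Set.ext fun x => ?_))
    show ψ x = 1 ↔ _
    rw [← hker, hφ, MonoidHom.comp_apply, πh_one]
    exact ⟨fun h => Subgroup.mem_subgroupOf.2 (h.elim (fun e => by rw [show (x : G) = 1 from e]; exact one_mem _)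
      (fun e => by rw [show (x : G) = C.t from e]; exact Subgroup.mem_zpowers _)), fun h => mem_t (Subgroup.mem_subgroupOf.1 h)⟩
  have hcard := ψ.ker.card_mul_index
  rw [hk2, Subgroup.index_ker] at hcard
  obtain ⟨er⟩ := range_equiv φ ψ hker
  constructor <;> intro hc
  · have hle : ψ.range = (⊤ : Subgroup (Multiplicative (ZMod 3))).prod (alternatingGroup (Fin 5)) := by
      refine Subgroup.eq_of_le_of_card_ge ?_ ?_
      · rintro _ ⟨x, rfl⟩; exact ⟨trivial, Perm.mem_alternatingGroup.2 (hc x)⟩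
      · rw [Nat.card_congr (Subgroup.prodEquiv _ _).toEquiv, Nat.card_prod, Subgroup.card_top, nat_card_alternatingGroup,
          Nat.card_fin, Nat.card_eq_fintype_card, show Fintype.card (Multiplicative (ZMod 3)) = 3 from rfl,
          show (Nat.factorial 5) / 2 = 60 from rfl]
        rw [card_X1.1 hc] at hcard
        omega
    exact ⟨(MulEquiv.subgroupCongr hr.symm).trans (er.trans ((MulEquiv.subgroupCongr hle).trans
      ((Subgroup.prodEquiv _ _).trans (MulEquiv.prodCongr Subgroup.topEquiv (MulEquiv.refl _)))))⟩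
  · have hle : ψ.range = ⊤ := by
      refine Subgroup.eq_top_of_card_eq _ ?_
      rw [Nat.card_prod, Nat.card_eq_fintype_card (α := Multiplicative (ZMod 3)),
        show Fintype.card (Multiplicative (ZMod 3)) = 3 from rfl, Nat.card_perm, Nat.card_fin,
        show Nat.factorial 5 = 120 from rfl]
      rw [card_X1.2 hc] at hcard
      omega
    exact ⟨(MulEquiv.subgroupCongr hr.symm).trans (er.trans ((MulEquiv.subgroupCongr hle).trans Subgroup.topEquiv))⟩

theorem card_X2 : Nat.card C.X2 = 2 * Nat.card C.X1 := by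
  have h := (C.X1.subgroupOf C.X2).card_mul_index
  rw [Nat.card_congr (Subgroup.subgroupOfEquivOfLe (X1_X2 (C := C))).toEquiv] at h
  rw [← h, mul_comm]
  congr 1
  refine Subgroup.index_eq_two_iff.2 ⟨⟨C.f, f_X2⟩, fun x => ?_⟩
  show Xor ((x : G) * C.f ∈ C.X1) ((x : G) ∈ C.X1)
  rcases X1_or x.2 with h | ⟨h, -⟩
  · refine Or.inr ⟨h, fun h' => f_not_X1 (C := C) ?_⟩
    have := mul_mem (inv_mem h) h'
    rwa [inv_mul_cancel_left] at this
  · refine Or.inl ⟨h, fun h' => f_not_X1 (C := C) ?_⟩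
    have := mul_mem (inv_mem h') h
    rwa [inv_mul_cancel_left] at this

attribute [local instance] _root_.Classical.propDecidable

/-- the translation part -/
noncomputable def η (C : Ctx D) (x : C.X2) : G :=
  if h : (x : G) ∈ C.X1 then (C.τ ⟨x, h⟩ : G) else (C.τ ⟨(x : G) * (C.f : G)⁻¹, ((X1_or x.2).resolve_left h).2⟩ : G)

theorem η_mem (x : C.X2) : C.η x ∈ D.Z := by
  unfold η; split <;> exact SetLike.coe_mem _

theorem η_cocycle (x y : C.X2) : C.η (x * y) = (x : G) * C.η y * (x : G)⁻¹ * C.η x := by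
  have hfix : ∀ a ∈ C.X1, ∀ w ∈ D.Z, a * w * a⁻¹ = w := fun a ha w hw => cZ ha.2 hw
  have hcw : ∀ a ∈ D.Z, ∀ b ∈ D.Z, a * b = b * a := fun a ha b hb => D.Jc a (D.Z_le_J ha) b (D.Z_le_J hb)
  by_cases hx : (x : G) ∈ C.X1 <;> by_cases hy : (y : G) ∈ C.X1
  · have hxy : ((x * y : C.X2) : G) ∈ C.X1 := mul_mem hx hy
    rw [η, η, η, dif_pos hxy, dif_pos hx, dif_pos hy, hfix _ hx _ (SetLike.coe_mem _),
      hcw _ (SetLike.coe_mem _) _ (SetLike.coe_mem _), ← Subgroup.coe_mul, ← map_mul]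
    rfl
  · have hxy : ((x * y : C.X2) : G) ∉ C.X1 := fun h => hy (by simpa using mul_mem (inv_mem hx) h)
    rw [η, η, η, dif_neg hxy, dif_pos hx, dif_neg hy, hfix _ hx _ (SetLike.coe_mem _),
      hcw _ (SetLike.coe_mem _) _ (SetLike.coe_mem _), ← Subgroup.coe_mul, ← map_mul]
    congr 2
    exact Subtype.ext (by simp [mul_assoc])
  · have hxy : ((x * y : C.X2) : G) ∉ C.X1 := fun h => hx (by simpa using mul_mem h (show (y : G)⁻¹ ∈ C.X1 from inv_mem hy))
    have hxf := ((X1_or x.2).resolve_left hx).2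
    have hfy : (C.f : G) * y * (C.f : G)⁻¹ ∈ C.X1 := by
      have hfC : (C.f : G) ∈ C.Ct := mem_Ct.2 C.f_comm_t
      refine ⟨(show (C.f : G) * y * (C.f : G)⁻¹ ∈ C.Ct from mul_mem (mul_mem hfC (show (y : G) ∈ C.Ct from hy.1)) (inv_mem hfC)), cent_Z_of (C := C) ?_⟩
      calc (C.f : G) * y * (C.f : G)⁻¹ * C.z * ((C.f : G) * y * (C.f : G)⁻¹)⁻¹
          = (C.f : G) * ((y : G) * ((C.f : G)⁻¹ * C.z * C.f) * (y : G)⁻¹) * (C.f : G)⁻¹ := by group
        _ = (C.f : G) * ((C.f : G)⁻¹ * C.z * C.f) * (C.f : G)⁻¹ := by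
            rw [hfix _ hy _ (by simpa using mem_norm (inv_mem C.f_NZ) C.base.hz)]
        _ = C.z := by group
    rw [η, η, η, dif_neg hxy, dif_neg hx, dif_pos hy]
    have e : (x : G) * (C.τ ⟨y, hy⟩ : G) * (x : G)⁻¹ = (C.τ ⟨_, hfy⟩ : G) := by
      rw [τ_f (C := C) ⟨y, hy⟩ hfy]
      calc (x : G) * (C.τ ⟨y, hy⟩ : G) * (x : G)⁻¹
          = ((x : G) * (C.f : G)⁻¹) * ((C.f : G) * (C.τ ⟨y, hy⟩ : G) * (C.f : G)⁻¹) * ((x : G) * (C.f : G)⁻¹)⁻¹ := by group
        _ = _ := hfix _ hxf _ (mem_norm C.f_NZ (SetLike.coe_mem _))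
    rw [e, hcw _ (SetLike.coe_mem _) _ (SetLike.coe_mem _), ← Subgroup.coe_mul, ← map_mul]
    congr 2
    exact Subtype.ext (by simp [mul_assoc])
  · have hxy : ((x * y : C.X2) : G) ∈ C.X1 := by
      have hxf := ((X1_or x.2).resolve_left hx).1
      have hyf := ((X1_or y.2).resolve_left hy).2
      rcases X1_or (x * y : C.X2).2 with h | ⟨h, -⟩
      · exact h
      · exfalso
        refine hx ?_
        have e1 : (x : G) * (C.f : G) ∈ C.X1 := hxf
        have hq : (y : G) * C.f ∈ C.X1 := ((X1_or y.2).resolve_left hy).1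
        have := mul_mem h (inv_mem hq)
        simpa [mul_assoc] using this
    have hxf := ((X1_or x.2).resolve_left hx).2
    have hyf := ((X1_or y.2).resolve_left hy).2
    have hfy : (C.f : G) * ((y : G) * (C.f : G)⁻¹) * (C.f : G)⁻¹ ∈ C.X1 := by
      have h := mul_mem (mul_mem (inv_mem hxf) hxy) (inv_mem (t_X1 (C := C)))
      rw [← C.f_sq] at h
      simpa [mul_assoc] using h
    rw [η, η, η, dif_pos hxy, dif_neg hx, dif_neg hy]
    have e : (x : G) * (C.τ ⟨_, hyf⟩ : G) * (x : G)⁻¹ = (C.τ ⟨_, hfy⟩ : G) := by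
      rw [τ_f (C := C) ⟨_, hyf⟩ hfy]
      calc (x : G) * (C.τ ⟨_, hyf⟩ : G) * (x : G)⁻¹
          = ((x : G) * (C.f : G)⁻¹) * ((C.f : G) * (C.τ ⟨_, hyf⟩ : G) * (C.f : G)⁻¹) * ((x : G) * (C.f : G)⁻¹)⁻¹ := by group
        _ = _ := hfix _ hxf _ (mem_norm C.f_NZ (SetLike.coe_mem _))
    have ht : C.τ ⟨C.t, t_X1⟩ = 1 := τ_K _ C.t_mem_K
    rw [e, hcw _ (SetLike.coe_mem _) _ (SetLike.coe_mem _), ← Subgroup.coe_mul, ← map_mul,
      ← mul_one (C.τ (_ * _)), ← ht, ← map_mul]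
    congr 2
    refine Subtype.ext ?_
    simp only [Subgroup.coe_mul, ← C.f_sq]
    group

theorem Z_equiv : Nonempty (D.Z ≃ Fin 3) := ⟨Finite.equivFinOfCardEq D.Z_eq.2⟩

/-- the affine action on the centre -/
noncomputable def δ' (C : Ctx D) (x : C.X2) : Perm D.Z where
  toFun w := ⟨(x : G) * w * (x : G)⁻¹ * C.η x, mul_mem (mem_norm x.2.2 w.2) (η_mem x)⟩
  invFun w := ⟨(x : G)⁻¹ * ((w : G) * (C.η x)⁻¹) * x, by
    have := mem_norm (inv_mem x.2.2) (mul_mem w.2 (inv_mem (η_mem x)))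
    rwa [inv_inv] at this⟩
  left_inv w := Subtype.ext (by simp [mul_assoc])
  right_inv w := Subtype.ext (by simp [mul_assoc])

/-- the affine action as a homomorphism -/
noncomputable def δ (C : Ctx D) : C.X2 →* Perm D.Z :=
  MonoidHom.mk' C.δ' fun x y => Equiv.ext fun w => Subtype.ext (by
    show ((x * y : C.X2) : G) * w * ((x * y : C.X2) : G)⁻¹ * C.η (x * y) =
      (x : G) * ((y : G) * w * (y : G)⁻¹ * C.η y) * (x : G)⁻¹ * C.η x
    rw [η_cocycle]; simp [mul_assoc])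

theorem δ_apply (x : C.X2) (w : D.Z) : ((C.δ x w : D.Z) : G) = (x : G) * w * (x : G)⁻¹ * C.η x := rfl

theorem sign_δ (x : C.X2) : Perm.sign ((Equiv.permCongr (Z_equiv (D := D)).some) (C.δ x)) = 1 ↔ (x : G) ∈ C.X1 := by
  classical
  haveI : Fintype D.Z := Fintype.ofFinite _
  have hpos : ∀ y : C.X2, (y : G) ∈ C.X1 → Perm.sign (C.δ y) = 1 := fun y hy => by
    have h3 : C.δ y ^ 3 = 1 := by
      refine Equiv.ext fun w => Subtype.ext ?_
      simp only [pow_succ, pow_zero, one_mul, Perm.mul_apply, δ_apply, Perm.coe_one, id_eq]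
      have hη := η_mem (C := C) y
      rw [cZ hy.2 w.2, cZ hy.2 (mul_mem w.2 hη), cZ hy.2 (mul_mem (mul_mem w.2 hη) hη), mul_assoc, mul_assoc,
        show C.η y * (C.η y * C.η y) = C.η y ^ 3 by simp [pow_succ, mul_assoc], D.Je _ (D.Z_le_J hη), mul_one]
    have := congrArg Perm.sign h3
    rw [map_pow, map_one, pow_succ, Int.units_sq, one_mul] at this
    exact this
  have hf : Perm.sign (C.δ ⟨C.f, f_X2⟩) = -1 := by
    have hη : C.η ⟨C.f, f_X2⟩ = 1 := by
      rw [η, dif_neg (f_not_X1 (C := C))]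
      simp only [mul_inv_cancel]
      exact congrArg Subtype.val (map_one C.τ)
    have hzi : (⟨C.z, C.base.hz⟩ : D.Z) ≠ ⟨C.z⁻¹, inv_mem C.base.hz⟩ := fun e => f_not_X1 (C := C) ⟨f_X2.1,
      cent_Z_of (C := C) (by rw [f_z]; exact (congrArg Subtype.val e).symm)⟩
    rw [show C.δ ⟨C.f, f_X2⟩ = Equiv.swap ⟨C.z, C.base.hz⟩ ⟨C.z⁻¹, inv_mem C.base.hz⟩ from ?_, Perm.sign_swap hzi]
    refine Equiv.ext fun w => ?_
    rcases Norm.Z_gen C.base.hz C.base.z1 w.2 with e | e | e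
    · rw [show w = 1 from Subtype.ext e, Equiv.swap_apply_of_ne_of_ne
        (fun e' => C.base.z1 (congrArg Subtype.val e').symm)
        (fun e' => C.base.z1 (inv_eq_one.1 (congrArg Subtype.val e').symm))]
      exact Subtype.ext (by rw [δ_apply, hη]; simp)
    · rw [show w = ⟨C.z, C.base.hz⟩ from Subtype.ext e, Equiv.swap_apply_left]
      exact Subtype.ext (by rw [δ_apply, hη, mul_one]; exact f_z)
    · rw [show w = ⟨C.z⁻¹, inv_mem C.base.hz⟩ from Subtype.ext e, Equiv.swap_apply_right]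
      refine Subtype.ext ?_
      rw [δ_apply, hη, mul_one]
      show (C.f : G) * C.z⁻¹ * (C.f : G)⁻¹ = C.z
      rw [← conj_inv, f_z, inv_inv]
  rw [Perm.sign_permCongr]
  refine ⟨fun h => ?_, fun h => hpos x h⟩
  rcases X1_or x.2 with e | ⟨e, -⟩
  · exact e
  · exfalso
    have := hpos (x * ⟨C.f, f_X2⟩) e
    rw [map_mul, map_mul, h, hf] at this
    exact absurd this (by decide)

/-- the normaliser of the first point -/
theorem exists_eLz : (IsEven' C → Nonempty (Subgroup.normalizer (Subgroup.zpowers (C.πh ⟨C.z, (Z_X1 C.base.hz).1⟩) : Set C.Hq) ≃*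
      (((Perm.sign).comp (MonoidHom.fst (Perm (Fin 3)) (Perm (Fin 5)))) *
        ((Perm.sign).comp (MonoidHom.snd (Perm (Fin 3)) (Perm (Fin 5))))).ker)) ∧
    (¬ IsEven' C → Nonempty (Subgroup.normalizer (Subgroup.zpowers (C.πh ⟨C.z, (Z_X1 C.base.hz).1⟩) : Set C.Hq) ≃*
      Perm (Fin 3) × Perm (Fin 5))) := by
  set φ : C.X2 →* C.Hq := C.πh.comp (Subgroup.inclusion inf_le_left) with hφ
  have hr : φ.range = Subgroup.normalizer (Subgroup.zpowers (C.πh ⟨C.z, (Z_X1 C.base.hz).1⟩) : Set C.Hq) := by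
    rw [normalizer_sing z_three, show C.Ct ⊓ Subgroup.normalizer (Subgroup.zpowers C.z : Set G) = C.X2 from norm_z_eq]
    ext q
    constructor
    · rintro ⟨n, rfl⟩; exact ⟨_, n.2, rfl⟩
    · rintro ⟨n, hn, rfl⟩; exact ⟨⟨n, hn⟩, rfl⟩
  set δ3 : C.X2 →* Perm (Fin 3) := MonoidHom.mk' (fun x => (Equiv.permCongr (Z_equiv (D := D)).some) (C.δ x))
    (fun x y => by rw [map_mul]; exact ((Equiv.permCongrHom (Z_equiv (D := D)).some).map_mul _ _)) with hδ3
  set ψ : C.X2 →* Perm (Fin 3) × Perm (Fin 5) := δ3.prod C.β with hψ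
  have hd : ∀ x, δ3 x = 1 ↔ C.δ x = 1 := fun x => (Equiv.permCongrHom (Z_equiv (D := D)).some).map_eq_one_iff
  have hker : ∀ x, φ x = 1 ↔ ψ x = 1 := fun x => by
    rw [hφ, MonoidHom.comp_apply, πh_one, hψ, MonoidHom.prod_apply, Prod.mk_eq_one, hd]
    constructor
    · intro h
      have hK : (x : G) ∈ C.K := h.elim (fun e => e ▸ one_mem _) fun e => e ▸ C.t_mem_K
      refine ⟨Equiv.ext fun w => Subtype.ext ?_, (β_ker x).2 fun k hk => ?_⟩
      · rw [δ_apply, cZ (K_X1 hK).2 w.2, η, dif_pos (K_X1 hK), τ_K (C := C) ⟨x, K_X1 hK⟩ hK]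
        simp
      · rcases h with e | e
        · rw [show ((Subgroup.inclusion inf_le_left x : C.Ct) : G) = x from rfl] at e
          simp [e]
        · rw [show ((Subgroup.inclusion inf_le_left x : C.Ct) : G) = x from rfl] at e
          rw [e]; exact (C.K_t hk).symm
    · rintro ⟨h1, h2⟩
      have hη : C.η x = 1 := by
        have := congrArg (fun p : Perm D.Z => ((p 1 : D.Z) : G)) h1
        simpa [δ_apply] using this
      have hc : (x : G) * C.z * (x : G)⁻¹ = C.z := by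
        have := congrArg (fun p : Perm D.Z => ((p ⟨C.z, C.base.hz⟩ : D.Z) : G)) h1
        simpa [δ_apply, hη] using this
      have hx : (x : G) ∈ C.X1 := ⟨x.2.1, cent_Z_of hc⟩
      rw [η, dif_pos hx] at hη
      exact τβ_one (C := C) ⟨x, hx⟩ (Subtype.ext hη) h2
  have hk2 : Nat.card ψ.ker = 2 := by
    rw [← C.order_t, ← Nat.card_zpowers,
      ← Nat.card_congr (Subgroup.subgroupOfEquivOfLe (Subgroup.zpowers_le.2 (X1_X2 (t_X1 (C := C))))).toEquiv]
    refine Nat.card_congr (Equiv.setCongr (Set.ext fun x => ?_))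
    show ψ x = 1 ↔ _
    rw [← hker, hφ, MonoidHom.comp_apply, πh_one]
    exact ⟨fun h => Subgroup.mem_subgroupOf.2 (h.elim (fun e => by rw [show (x : G) = 1 from e]; exact one_mem _)
      (fun e => by rw [show (x : G) = C.t from e]; exact Subgroup.mem_zpowers _)), fun h => mem_t (Subgroup.mem_subgroupOf.1 h)⟩
  have hcard := ψ.ker.card_mul_index
  rw [hk2, Subgroup.index_ker, card_X2] at hcard
  obtain ⟨er⟩ := range_equiv φ ψ hker
  constructor <;> intro hc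
  · set s := ((Perm.sign).comp (MonoidHom.fst (Perm (Fin 3)) (Perm (Fin 5)))) *
        ((Perm.sign).comp (MonoidHom.snd (Perm (Fin 3)) (Perm (Fin 5)))) with hs
    have hle : ψ.range = s.ker := by
      refine Subgroup.eq_of_le_of_card_ge ?_ ?_
      · rintro _ ⟨x, rfl⟩
        show Perm.sign (δ3 x) * Perm.sign (C.β x) = 1
        rcases X1_or x.2 with h | ⟨h, -⟩
        · rw [show Perm.sign (δ3 x) = 1 from (sign_δ x).2 h,
            show Perm.sign (C.β x) = 1 from hc ⟨x, h⟩, mul_one]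
        · have h1 : Perm.sign (δ3 x) = -1 := (Int.units_eq_one_or _).resolve_left fun e => f_not_X1 (C := C) (by
            have := mul_mem (inv_mem ((sign_δ x).1 e)) h
            rwa [inv_mul_cancel_left] at this)
          have h2 := hc ⟨_, h⟩
          rw [show C.β1 ⟨(x : G) * C.f, h⟩ = C.β x * C.β ⟨C.f, f_X2⟩ from map_mul C.β x ⟨C.f, f_X2⟩, map_mul, β_f] at h2
          rw [h1, mul_comm]
          exact h2
      · have hs2 := s.ker.card_mul_index
        rw [Subgroup.index_ker, show s.range = ⊤ from eq_top_iff.2 fun a _ => by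
          rcases Int.units_eq_one_or a with rfl | rfl
          · exact one_mem _
          · exact ⟨(Equiv.swap 0 1, 1), by rw [hs]; decide⟩, Subgroup.card_top, Nat.card_prod, Nat.card_perm,
          Nat.card_perm, Nat.card_fin, Nat.card_fin, Nat.card_eq_fintype_card (α := ℤˣ), Fintype.card_units_int,
          show Nat.factorial 3 * Nat.factorial 5 = 720 from rfl] at hs2
        rw [card_X1.1 hc] at hcard
        omega
    exact ⟨(MulEquiv.subgroupCongr hr.symm).trans (er.trans (MulEquiv.subgroupCongr hle))⟩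
  · have hle : ψ.range = ⊤ := by
      refine Subgroup.eq_top_of_card_eq _ ?_
      rw [Nat.card_prod, Nat.card_perm, Nat.card_perm, Nat.card_fin, Nat.card_fin,
        show Nat.factorial 3 * Nat.factorial 5 = 720 from rfl]
      rw [card_X1.2 hc] at hcard
      omega
    exact ⟨(MulEquiv.subgroupCongr hr.symm).trans (er.trans ((MulEquiv.subgroupCongr hle).trans Subgroup.topEquiv))⟩

end Ctx

end Cfsg.Agent.MclThree
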