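import Cfsg.Agent.S0111
import Mathlib.GroupTheory.SpecificGroups.Alternating
import Mathlib.GroupTheory.Perm.Cycle.Type

/-!
# Transfer in a group with an involution centralizer `2 · S₈`

An involution whose centralizer is a double cover of `S₈` in which double transpositions lift to
elements of order four, with two classes of involutions: the group has a subgroup of index `2`.
-/

set_option autoImplicit false

namespace Cfsg.Agent.MclThree

open Equiv

theorem cycleType_of_sq {σ : Perm (Fin 8)} (hsq : σ * σ = 1) :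
    ∃ n, n ≤ 4 ∧ 2 * n = σ.support.card ∧ σ.cycleType = Multiset.replicate n 2 := by
  have h2 : ∀ b ∈ σ.cycleType, b = 2 := fun b hb => le_antisymm
    (Nat.le_of_dvd two_pos ((Perm.dvd_of_mem_cycleType hb).trans (orderOf_dvd_of_pow_eq_one (by rw [sq, hsq]))))
    (Perm.two_le_of_mem_cycleType hb)
  have hs := σ.sum_cycleType
  rw [Multiset.eq_replicate_card.2 h2, Multiset.sum_replicate, smul_eq_mul] at hs
  have hle : σ.support.card ≤ 8 := le_trans (Finset.card_le_univ _) (by simp)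
  exact ⟨Multiset.card σ.cycleType, by omega, by omega, Multiset.eq_replicate_card.2 h2⟩

theorem cycleType_eq_replicate {σ : Perm (Fin 8)} {n : ℕ} (hsq : σ * σ = 1) (hn : σ.support.card = 2 * n) :
    σ.cycleType = Multiset.replicate n 2 := by
  obtain ⟨m, -, hm, hc⟩ := cycleType_of_sq hsq
  rw [hc, show m = n by omega]

theorem exists_pair {σ σ₀ : Perm (Fin 8)} (h : σ.cycleType = σ₀.cycleType) (τ₀ : Perm (Fin 8)) :
    ∃ τ, τ.cycleType = τ₀.cycleType ∧ (σ * τ).cycleType = (σ₀ * τ₀).cycleType := by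
  obtain ⟨π, hπ⟩ := isConj_iff.1 (Perm.isConj_iff_cycleType_eq.2 h.symm)
  refine ⟨π * τ₀ * π⁻¹, Perm.cycleType_conj, ?_⟩
  rw [← hπ, show π * σ₀ * π⁻¹ * (π * τ₀ * π⁻¹) = π * (σ₀ * τ₀) * π⁻¹ by group, Perm.cycleType_conj]

/-- the three kinds of involutions other than double transpositions -/
def Kind (σ : Perm (Fin 8)) : Prop :=
  σ.cycleType = {2} ∨ σ.cycleType = {2, 2, 2} ∨ σ.cycleType = {2, 2, 2, 2}

theorem exists_partner {σ : Perm (Fin 8)} (h : Kind σ) :
    ∃ τ, τ.cycleType = σ.cycleType ∧ (σ * τ).cycleType = {2, 2} := by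
  have key : ∀ σ₀ τ₀ : Perm (Fin 8), σ₀ * σ₀ = 1 → τ₀ * τ₀ = 1 → σ₀ * τ₀ * (σ₀ * τ₀) = 1 →
      τ₀.support.card = σ₀.support.card → (σ₀ * τ₀).support.card = 2 * 2 → σ.cycleType = σ₀.cycleType →
      ∃ τ, τ.cycleType = σ.cycleType ∧ (σ * τ).cycleType = {2, 2} := by
    intro σ₀ τ₀ h1 h2 h3 h4 h5 hσ
    obtain ⟨τ, hτ, hστ⟩ := exists_pair hσ τ₀
    obtain ⟨n, -, hn, hc⟩ := cycleType_of_sq h1
    refine ⟨τ, ?_, ?_⟩
    · rw [hτ, hσ, hc, cycleType_eq_replicate h2 (h4.trans hn.symm)]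
    · rw [hστ, cycleType_eq_replicate h3 h5]
      rfl
  rcases h with h | h | h
  · exact key (swap 0 1) (swap 2 3) (by decide) (by decide) (by decide) (by decide) (by decide)
      (by rw [h, cycleType_eq_replicate (n := 1) (by decide) (by decide)]; rfl)
  · exact key (swap 0 1 * swap 2 3 * swap 4 5) (swap 0 1 * swap 2 4 * swap 3 5) (by decide) (by decide)
      (by decide) (by decide) (by decide) (by rw [h, cycleType_eq_replicate (n := 3) (by decide) (by decide)]; rfl)
  · exact key (swap 0 1 * swap 2 3 * swap 4 5 * swap 6 7) (swap 0 1 * swap 2 3 * swap 4 6 * swap 5 7)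
      (by decide) (by decide) (by decide) (by decide) (by decide)
      (by rw [h, cycleType_eq_replicate (n := 4) (by decide) (by decide)]; rfl)

theorem exists_triple_partner {σ : Perm (Fin 8)} (h : σ.cycleType = {2, 2, 2}) :
    ∃ τ, τ.cycleType = {2, 2, 2} ∧ (σ * τ).cycleType = {2, 2, 2, 2} := by
  obtain ⟨τ, hτ, hστ⟩ := exists_pair (σ₀ := swap 0 1 * swap 2 3 * swap 4 5)
    (by rw [h, cycleType_eq_replicate (n := 3) (by decide) (by decide)]; rfl)
    (swap 0 2 * swap 1 3 * swap 6 7)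
  refine ⟨τ, ?_, ?_⟩
  · rw [hτ, cycleType_eq_replicate (n := 3) (by decide) (by decide)]; rfl
  · rw [hστ, cycleType_eq_replicate (n := 4) (by decide) (by decide)]; rfl

variable {G : Type*} [Group G] {t : G}


/-- the common setting -/
structure Cover (t : G) (φ : Subgroup.centralizer ({t} : Set G) →* Perm (Fin 8)) : Prop where
  tt : t * t = 1
  ne_one : t ≠ 1
  surj : Function.Surjective φ
  ker : ∀ x, φ x = 1 ↔ (x : G) = 1 ∨ (x : G) = t
  double : ∀ x, (φ x).cycleType = {2, 2} → (x : G) * x = t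
  three : ∀ x, (φ x).cycleType = {2, 2, 2} → (x : G) * x = 1
  four : ∀ x, (φ x).cycleType = {2, 2, 2, 2} → (x : G) * x = 1

variable {φ : Subgroup.centralizer ({t} : Set G) →* Perm (Fin 8)}

theorem coe_comm (x : ↥(Subgroup.centralizer ({t} : Set G))) : (x : G) * t = t * x := Subgroup.mem_centralizer_singleton_iff.1 x.2

theorem lift_conj (hC : ∀ x : ↥(Subgroup.centralizer ({t} : Set G)), φ x = 1 ↔ (x : G) = 1 ∨ (x : G) = t) (hs : Function.Surjective φ)
    {x y : ↥(Subgroup.centralizer ({t} : Set G))} (h : (φ x).cycleType = (φ y).cycleType) :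
    ∃ a : ↥(Subgroup.centralizer ({t} : Set G)), (x : G) = a * y * (a : G)⁻¹ ∨ (x : G) = a * y * (a : G)⁻¹ * t := by
  obtain ⟨π, hπ⟩ := isConj_iff.1 (Perm.isConj_iff_cycleType_eq.2 h.symm)
  obtain ⟨a, rfl⟩ := hs π
  obtain ⟨z, hz⟩ : ∃ z, z = (a * y * a⁻¹)⁻¹ * x := ⟨_, rfl⟩
  have hz1 : φ z = 1 := by rw [hz, map_mul, map_inv, map_mul, map_mul, map_inv, hπ, inv_mul_cancel]
  refine ⟨a, ?_⟩
  have he : (x : G) = a * y * (a : G)⁻¹ * z := by rw [hz]; push_cast; group
  rcases (hC z).1 hz1 with h1 | h1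
  · left; rw [he, h1, mul_one]
  · right; rw [he, h1]

theorem sq_eq (hC : ∀ x : ↥(Subgroup.centralizer ({t} : Set G)), φ x = 1 ↔ (x : G) = 1 ∨ (x : G) = t) (hs : Function.Surjective φ) (htt : t * t = 1)
    {x y : ↥(Subgroup.centralizer ({t} : Set G))} (h : (φ x).cycleType = (φ y).cycleType) (hy : (y : G) * y = 1 ∨ (y : G) * y = t) :
    (x : G) * x = (y : G) * y := by
  obtain ⟨a, ha⟩ := lift_conj hC hs h
  have h1 : (a : G) * ((y : G) * y) * (a : G)⁻¹ = (y : G) * y := by
    rcases hy with e | e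
    · rw [e]; group
    · rw [e, coe_comm, mul_inv_cancel_right]
  rcases ha with e | e
  · rw [e, ← h1]; group
  · have hc : Commute ((a : G) * y * (a : G)⁻¹) t := coe_comm (a * y * a⁻¹)
    rw [e, ← h1]
    calc (a : G) * y * (a : G)⁻¹ * t * (a * y * (a : G)⁻¹ * t)
        = a * y * (a : G)⁻¹ * (a * y * (a : G)⁻¹) * (t * t) := by rw [hc.symm.mul_mul_mul_comm]
      _ = _ := by rw [htt]; group

theorem eq_one_or (hC : Cover t φ) {x : ↥(Subgroup.centralizer ({t} : Set G))} (h : φ x * φ x = 1) : (x : G) * x = 1 ∨ (x : G) * x = t := by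
  simpa using (hC.ker (x * x)).1 (by rw [map_mul, h])

theorem sq_one_of_kind {σ : Perm (Fin 8)} (h : Kind σ) : σ * σ = 1 := by
  rw [← sq, ← orderOf_dvd_iff_pow_eq_one, ← Perm.lcm_cycleType]
  rcases h with h | h | h <;> rw [h] <;> decide

/-- every element of one of the three kinds is conjugate to its product with `t` -/
theorem conj_mul_t (hC : Cover t φ) {x : ↥(Subgroup.centralizer ({t} : Set G))} (hx : Kind (φ x)) :
    ∃ a : ↥(Subgroup.centralizer ({t} : Set G)), (a : G) * x * (a : G)⁻¹ = x * t := by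
  obtain ⟨τ, hτ, hστ⟩ := exists_partner hx
  obtain ⟨a, rfl⟩ := hC.surj τ
  have hsq := eq_one_or hC (sq_one_of_kind hx)
  have hax := sq_eq hC.ker hC.surj hC.tt hτ hsq
  have hd : (x : G) * a * (x * a) = t := by simpa using hC.double (x * a) (by rw [map_mul, hστ])
  refine ⟨a, ?_⟩
  have hxx : (x : G) * x * (x * x) = 1 := by
    rcases hsq with e | e <;> rw [e]
    · simp
    · exact hC.tt
  calc (a : G) * x * (a : G)⁻¹ = (x : G)⁻¹ * (x * a * (x * a)) * ((a : G) * a)⁻¹ := by group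
    _ = (x : G)⁻¹ * t * ((x : G) * x)⁻¹ := by rw [hd, hax]
    _ = (x : G)⁻¹ * ((x : G) * x)⁻¹ * t := by
      have hc : Commute t ((x : G) * x)⁻¹ :=
        ((Commute.mul_left (coe_comm x) (coe_comm x)).symm).inv_right
      rw [mul_assoc, hc.eq, mul_assoc]
    _ = x * ((x : G) * x * (x * x))⁻¹ * t := by group
    _ = x * t := by rw [hxx, inv_one, mul_one]

theorem isConj_of_kind (hC : Cover t φ) {x y : ↥(Subgroup.centralizer ({t} : Set G))} (hy : Kind (φ y))
    (h : (φ x).cycleType = (φ y).cycleType) : IsConj (y : G) (x : G) := by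
  obtain ⟨a, ha⟩ := lift_conj hC.ker hC.surj h
  rcases ha with e | e
  · exact isConj_iff.2 ⟨a, e.symm⟩
  · obtain ⟨b, hb⟩ := conj_mul_t hC hy
    refine isConj_iff.2 ⟨a * b, ?_⟩
    rw [e, show (a : G) * b * y * ((a : G) * b)⁻¹ = a * (b * y * (b : G)⁻¹) * (a : G)⁻¹ by group, hb]
    have hc : t * (a : G)⁻¹ = (a : G)⁻¹ * t := by simpa using (coe_comm a⁻¹).symm
    simp only [mul_assoc, hc]

/-- the image of an involution of the centralizer other than `t` -/
theorem involution_kind (hC : Cover t φ) {x : ↥(Subgroup.centralizer ({t} : Set G))} (hx : (x : G) * x = 1) (h1 : (x : G) ≠ 1)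
    (ht : (x : G) ≠ t) : Kind (φ x) := by
  have hsq : φ x * φ x = 1 := by
    rw [← map_mul, hC.ker]; exact Or.inl (by simpa using hx)
  obtain ⟨n, hn4, -, hc⟩ := cycleType_of_sq hsq
  interval_cases n
  · rw [Multiset.replicate_zero, Perm.cycleType_eq_zero] at hc
    exact absurd ((hC.ker x).1 hc) (by simp [h1, ht])
  · exact Or.inl (hc.trans rfl)
  · exact absurd ((hC.double x (hc.trans rfl)).symm.trans hx) hC.ne_one
  · exact Or.inr (Or.inl (hc.trans rfl))
  · exact Or.inr (Or.inr (hc.trans rfl))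

theorem sign_three {σ : Perm (Fin 8)} (h : σ.cycleType = {2, 2, 2}) : Perm.sign σ = -1 := by
  rw [Perm.sign_of_cycleType, h]; decide

theorem sign_four {σ : Perm (Fin 8)} (h : σ.cycleType = {2, 2, 2, 2}) : Perm.sign σ = 1 := by
  rw [Perm.sign_of_cycleType, h]; decide

theorem sign_one {σ : Perm (Fin 8)} (h : σ.cycleType = {2}) : Perm.sign σ = -1 := by
  rw [Perm.sign_of_cycleType, h]; decide

/-- the involutions fused to `t` are the lifts of quadruple transpositions -/
theorem not_three_fused (hC : Cover t φ) {g u : ↥(Subgroup.centralizer ({t} : Set G))} (hg3 : (φ g).cycleType = {2, 2, 2})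
    (hu4 : (φ u).cycleType = {2, 2, 2, 2}) (hgt : IsConj (g : G) t) (hut : ¬ IsConj (u : G) t) : False := by
  have htt := hC.tt
  obtain ⟨τ, hτ, hστ⟩ := exists_triple_partner hg3
  obtain ⟨e, rfl⟩ := hC.surj τ
  have hgg := hC.three g hg3
  have hee := hC.three e hτ
  have hge : (g : G) * e * (g * e) = 1 := by simpa using hC.four (g * e) (by rw [map_mul, hστ])
  have hcomm : (g : G) * e = e * g :=
    calc (g : G) * e = (g : G) * e * (g * e) * ((e : G)⁻¹ * (g : G)⁻¹) := by group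
      _ = e * g := by
        rw [hge, one_mul, inv_eq_of_mul_eq_one_right hgg, inv_eq_of_mul_eq_one_right hee]
  obtain ⟨h, hh⟩ := isConj_iff.1 hgt
  have htC : t ∈ Subgroup.centralizer ({t} : Set G) := Subgroup.mem_centralizer_singleton_iff.2 rfl
  obtain ⟨t', ht'⟩ : ∃ t' : ↥(Subgroup.centralizer ({t} : Set G)), t' = ⟨t, htC⟩ := ⟨_, rfl⟩
  have hval : (t' : G) = t := by rw [ht']
  have hφt : φ t' = 1 := (hC.ker t').2 (Or.inr hval)
  -- the three involutions
  have he_conj : IsConj t (e : G) := hgt.symm.trans (isConj_of_kind hC (Or.inr (Or.inl hg3)) (hτ.trans hg3.symm))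
  have het_conj : IsConj t ((t' * e : ↥(Subgroup.centralizer ({t} : Set G))) : G) :=
    hgt.symm.trans (isConj_of_kind hC (Or.inr (Or.inl hg3)) (by rw [map_mul, hφt, one_mul]; exact hτ.trans hg3.symm))
  have key : ∀ y : ↥(Subgroup.centralizer ({t} : Set G)), IsConj t (y : G) → (g : G) * y = y * g → (y : G) ≠ g →
      ∃ w : ↥(Subgroup.centralizer ({t} : Set G)), (w : G) = h * y * h⁻¹ ∧ Perm.sign (φ w) = -1 := by
    intro y hy hgy hne
    have hyy : (y : G) * y = 1 := by
      obtain ⟨c, hc⟩ := isConj_iff.1 hy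
      rw [← hc, show c * t * c⁻¹ * (c * t * c⁻¹) = c * (t * t) * c⁻¹ by group, htt]; group
    have hy1 : (y : G) ≠ 1 := fun e1 => hC.ne_one (isConj_one_left.1 ((e1 ▸ hy : IsConj t 1)))
    have hm : h * (y : G) * h⁻¹ ∈ Subgroup.centralizer ({t} : Set G) := by
      rw [Subgroup.mem_centralizer_singleton_iff]
      calc h * y * h⁻¹ * t = h * y * h⁻¹ * (h * g * h⁻¹) := congrArg (_ * ·) hh.symm
        _ = h * (y * g) * h⁻¹ := by group
        _ = h * (g * y) * h⁻¹ := by rw [hgy]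
        _ = h * g * h⁻¹ * (h * y * h⁻¹) := by group
        _ = t * (h * y * h⁻¹) := congrArg (· * _) hh
    refine ⟨⟨_, hm⟩, rfl, ?_⟩
    have hk := involution_kind hC (x := ⟨_, hm⟩)
      (show h * (y : G) * h⁻¹ * (h * y * h⁻¹) = 1 by
        rw [show h * (y : G) * h⁻¹ * (h * y * h⁻¹) = h * (y * y) * h⁻¹ by group, hyy]; group)
      (show h * (y : G) * h⁻¹ ≠ 1 from fun e1 => hy1 (conj_eq_one_iff.1 e1))
      (show h * (y : G) * h⁻¹ ≠ t from fun e1 => hne
        (mul_left_cancel (mul_right_cancel (e1.trans hh.symm))))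
    rcases hk with hk | hk | hk
    · exact sign_one hk
    · exact sign_three hk
    · exact absurd ((isConj_of_kind hC (Or.inr (Or.inr hu4)) (hk.trans hu4.symm)).trans
        ((isConj_iff.2 ⟨h, rfl⟩ : IsConj (y : G) (h * y * h⁻¹)).symm.trans hy.symm)) hut
  have hne3 : ({2, 2, 2} : Multiset ℕ) ≠ 0 := by decide
  have hg4 : (g : G) ≠ e := by
    intro he
    rw [show e = g from Subtype.ext he.symm, ← map_mul, (hC.ker (g * g)).2 (Or.inl (by simpa using hgg)),
      Perm.cycleType_one] at hστ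
    exact absurd hστ (by decide)
  obtain ⟨w1, hw1, hs1⟩ := key t' (by rw [hval]) (by rw [hval]; exact coe_comm g) (by
    rw [hval]
    intro e1
    exact hne3 (by rw [← hg3, show g = t' from Subtype.ext (e1.symm.trans hval.symm), hφt, Perm.cycleType_one]))
  obtain ⟨w2, hw2, hs2⟩ := key e he_conj hcomm (Ne.symm hg4)
  have hte : ((t' * e : ↥(Subgroup.centralizer ({t} : Set G))) : G) = t * e := by push_cast; rw [hval]
  obtain ⟨w3, hw3, hs3⟩ := key (t' * e) het_conj
    (by rw [hte, ← mul_assoc, coe_comm g, mul_assoc, hcomm, mul_assoc]) (by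
    intro e1
    have e2 : t' * e = g := Subtype.ext e1
    rw [← e2, map_mul, hφt, one_mul, ← map_mul, (hC.ker (e * e)).2 (Or.inl (by simpa using hee)),
      Perm.cycleType_one] at hστ
    exact absurd hστ (by decide))
  have h3 : w3 = w1 * w2 := Subtype.ext (by
    rw [Subgroup.coe_mul, hw1, hw2, hw3, hte, hval]; group)
  rw [h3, map_mul, map_mul, hs1, hs2] at hs3
  exact absurd hs3 (by decide)

/-- a Sylow subgroup of the centralizer is a Sylow subgroup of the group -/
theorem exists_sylow_le [Finite G] (hC : Cover t φ) {u : ↥(Subgroup.centralizer ({t} : Set G))} (hu : (u : G) * u = 1) :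
    ∃ P : Sylow 2 G, (u : G) ∈ P ∧ (P : Subgroup G) ≤ Subgroup.centralizer ({t} : Set G) := by
  have : Fact (Nat.Prime 2) := ⟨Nat.prime_two⟩
  have htC : t ∈ Subgroup.centralizer ({t} : Set G) := Subgroup.mem_centralizer_singleton_iff.2 rfl
  obtain ⟨t', ht'⟩ : ∃ t' : ↥(Subgroup.centralizer ({t} : Set G)), t' = ⟨t, htC⟩ := ⟨_, rfl⟩
  have htp : IsPGroup 2 (Subgroup.zpowers t') := by
    obtain ⟨i, -, hi⟩ := (Nat.dvd_prime_pow Nat.prime_two).1 (show orderOf t' ∣ 2 ^ 1 from
      orderOf_dvd_of_pow_eq_one (by rw [pow_one, sq, ht']; exact Subtype.ext hC.tt))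
    exact IsPGroup.of_card (n := i) (by rw [Nat.card_zpowers, hi])
  have hup : IsPGroup 2 (Subgroup.zpowers u) := by
    obtain ⟨i, -, hi⟩ := (Nat.dvd_prime_pow Nat.prime_two).1 (show orderOf u ∣ 2 ^ 1 from
      orderOf_dvd_of_pow_eq_one (by rw [pow_one, sq]; exact Subtype.ext (by simpa using hu)))
    exact IsPGroup.of_card (n := i) (by rw [Nat.card_zpowers, hi])
  have hzle : Subgroup.zpowers t' ≤ Subgroup.center ↥(Subgroup.centralizer ({t} : Set G)) :=
    Subgroup.zpowers_le.2 (Subgroup.mem_center_iff.2 fun x => Subtype.ext (by rw [ht']; exact coe_comm x))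
  have : (Subgroup.zpowers t').Normal := ⟨fun n hn x => by
    rwa [Subgroup.mem_center_iff.1 (hzle hn) x, mul_inv_cancel_right]⟩
  obtain ⟨Q, hQ⟩ := (hup.to_sup_of_normal_right htp).exists_le_sylow
  obtain ⟨P, hP⟩ := (Q.isPGroup'.map (Subgroup.centralizer ({t} : Set G)).subtype).exists_le_sylow
  have huP : (u : G) ∈ P := hP ⟨u, hQ (Subgroup.mem_sup_left (Subgroup.mem_zpowers u)), rfl⟩
  have htP : t ∈ P := hP ⟨t', hQ (Subgroup.mem_sup_right (Subgroup.mem_zpowers t')), by rw [ht']; rfl⟩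
  have : Nontrivial (P : Subgroup G) := ⟨⟨⟨t, htP⟩, 1, fun e => hC.ne_one (congrArg Subtype.val e)⟩⟩
  have := P.isPGroup'.center_nontrivial
  obtain ⟨z, hz⟩ := exists_prime_orderOf_dvd_card' 2 (show 2 ∣ Nat.card (Subgroup.center (P : Subgroup G)) by
    obtain ⟨n, hn, hcard⟩ := (P.isPGroup'.to_subgroup _).nontrivial_iff_card.1 this
    rw [hcard]; exact dvd_pow_self 2 hn.ne')
  obtain ⟨z₀, hz₀⟩ : ∃ z₀ : G, z₀ = ((z : (P : Subgroup G)) : G) := ⟨_, rfl⟩
  have hzc : ∀ x ∈ (P : Subgroup G), x * z₀ = z₀ * x := fun x hx => hz₀ ▸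
    congrArg Subtype.val (Subgroup.mem_center_iff.1 z.2 ⟨x, hx⟩)
  refine ⟨P, huP, fun x hx => ?_⟩
  suffices hzt : z₀ = t by
    rw [Subgroup.mem_centralizer_singleton_iff, ← hzt]; exact hzc x hx
  have hzC : z₀ ∈ Subgroup.centralizer ({t} : Set G) :=
    Subgroup.mem_centralizer_singleton_iff.2 (hzc t htP).symm
  have hz1 : z₀ ≠ 1 := by
    intro e
    have : z = 1 := Subtype.ext (Subtype.ext (hz₀.symm.trans e))
    rw [this, orderOf_one] at hz; omega
  have hz2 : z₀ * z₀ = 1 := by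
    have := pow_orderOf_eq_one z
    rw [hz, sq] at this
    rw [hz₀]
    exact congrArg (fun w : Subgroup.center (P : Subgroup G) => ((w : (P : Subgroup G)) : G)) this
  by_contra hne
  obtain ⟨a, ha⟩ := conj_mul_t hC (involution_kind hC (x := ⟨z₀, hzC⟩) hz2 hz1 hne)
  obtain ⟨D, hD⟩ : ∃ D, D = Subgroup.centralizer ({⟨z₀, hzC⟩} : Set ↥(Subgroup.centralizer ({t} : Set G))) := ⟨_, rfl⟩
  have hQD : (Q : Subgroup ↥(Subgroup.centralizer ({t} : Set G))) ≤ D := fun y hy => hD ▸ Subgroup.mem_centralizer_singleton_iff.2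
    (Subtype.ext (hzc (y : G) (hP ⟨y, hy, rfl⟩)))
  have hodd : ¬ 2 ∣ D.index := fun h2 => Q.not_dvd_index (h2.trans (Subgroup.index_dvd_of_le hQD))
  have hmemD : ∀ y : ↥(Subgroup.centralizer ({t} : Set G)), y ∈ D ↔ (y : G) * z₀ = z₀ * y := fun y => by
    rw [hD, Subgroup.mem_centralizer_singleton_iff, Subtype.ext_iff]; rfl
  have haN : a ∈ Subgroup.normalizer (D : Set ↥(Subgroup.centralizer ({t} : Set G))) := by
    rw [Subgroup.mem_normalizer_iff]
    intro y
    rw [hmemD, hmemD]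
    push_cast
    have e1 : (a : G)⁻¹ * z₀ * a = z₀ * t := by
      have e2 : z₀ = a * z₀ * (a : G)⁻¹ * t := by rw [ha, mul_assoc, hC.tt, mul_one]
      calc (a : G)⁻¹ * z₀ * a = (a : G)⁻¹ * (a * z₀ * (a : G)⁻¹ * t) * a := by rw [← e2]
        _ = z₀ * (a : G)⁻¹ * (t * a) := by group
        _ = z₀ * (a : G)⁻¹ * (a * t) := by rw [coe_comm a]
        _ = z₀ * t := by group
    constructor
    · intro hy
      have hyt : (y : G) * (z₀ * t) = z₀ * t * y := by
        rw [← mul_assoc, hy, mul_assoc, coe_comm y, ← mul_assoc]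
      calc (a : G) * y * (a : G)⁻¹ * z₀ = a * (y * ((a : G)⁻¹ * z₀ * a)) * (a : G)⁻¹ := by group
        _ = a * ((a : G)⁻¹ * z₀ * a * y) * (a : G)⁻¹ := by rw [e1, hyt]
        _ = z₀ * (a * y * (a : G)⁻¹) := by group
    · intro hy
      have hyt : (y : G) * (z₀ * t) = z₀ * t * y := by
        rw [← e1]
        calc (y : G) * ((a : G)⁻¹ * z₀ * a) = (a : G)⁻¹ * (a * y * (a : G)⁻¹ * z₀) * a := by group
          _ = (a : G)⁻¹ * (z₀ * (a * y * (a : G)⁻¹)) * a := by rw [hy]
          _ = (a : G)⁻¹ * z₀ * a * y := by group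
      rw [← mul_assoc, mul_assoc z₀ t, ← coe_comm y, ← mul_assoc] at hyt
      exact mul_right_cancel hyt
  have : (D.subgroupOf (Subgroup.normalizer (D : Set ↥(Subgroup.centralizer ({t} : Set G))))).Normal := Subgroup.normal_in_normalizer
  obtain ⟨b, hb⟩ : ∃ b, b = (QuotientGroup.mk (⟨a, haN⟩ : Subgroup.normalizer (D : Set ↥(Subgroup.centralizer ({t} : Set G)))) :
      Subgroup.normalizer (D : Set ↥(Subgroup.centralizer ({t} : Set G))) ⧸ D.subgroupOf (Subgroup.normalizer (D : Set ↥(Subgroup.centralizer ({t} : Set G))))) := ⟨_, rfl⟩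
  have hb1 : b ≠ 1 := by
    rw [hb, Ne, QuotientGroup.eq_one_iff, Subgroup.mem_subgroupOf, hmemD]
    intro e
    refine hC.ne_one ?_
    have e3 : z₀ * t = z₀ := ha ▸ (by rw [show (a : G) * z₀ = z₀ * a from e, mul_inv_cancel_right])
    exact mul_eq_left.1 e3
  have hb2 : b ^ 2 = 1 := by
    rw [hb, ← QuotientGroup.mk_pow, QuotientGroup.eq_one_iff, Subgroup.mem_subgroupOf, hmemD, sq]
    push_cast
    have e4 : (a : G) * z₀ = z₀ * t * a := by rw [← ha]; group
    calc (a : G) * a * z₀ = a * (z₀ * t * a) := by rw [mul_assoc, e4]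
      _ = (a * z₀) * (t * a) := by group
      _ = z₀ * t * a * (a * t) := by rw [e4, coe_comm a]
      _ = z₀ * (t * (a * a)) * t := by group
      _ = z₀ * (a * a) * (t * t) := by
        rw [show t * ((a : G) * a) = a * a * t from (Commute.mul_left (coe_comm a) (coe_comm a)).symm.eq]; group
      _ = z₀ * (a * a) := by rw [hC.tt, mul_one]
  refine hodd (dvd_trans ?_ (Subgroup.relIndex_dvd_index_of_le (H := D) (K := Subgroup.normalizer (D : Set ↥(Subgroup.centralizer ({t} : Set G)))) Subgroup.le_normalizer))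
  rw [Subgroup.relIndex, Subgroup.index_eq_card, ← orderOf_eq_prime hb2 hb1]
  exact orderOf_dvd_natCard b

theorem exists_index_two [Finite G] (ht : orderOf t = 2)
    (φ : Subgroup.centralizer ({t} : Set G) →* Perm (Fin 8)) (hs : Function.Surjective φ)
    (hk : ∀ x, φ x = 1 ↔ (x : G) ∈ Subgroup.zpowers t)
    (k : Subgroup.centralizer ({t} : Set G)) (hk2 : (k : G) ^ 2 = t) (hkc : (φ k).cycleType = {2, 2})
    (g u : Subgroup.centralizer ({t} : Set G)) (hg : (g : G) ^ 2 = 1) (hu : (u : G) ^ 2 = 1)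
    (hgt : IsConj (g : G) t) (hut : ¬ IsConj (u : G) t)
    (hc : (φ g).cycleType = {2, 2, 2} ∧ (φ u).cycleType = {2, 2, 2, 2} ∨
          (φ g).cycleType = {2, 2, 2, 2} ∧ (φ u).cycleType = {2, 2, 2}) :
    ∃ N : Subgroup G, N.index = 2 ∧
      ∀ x : Subgroup.centralizer ({t} : Set G), (x : G) ∈ N ↔ Perm.sign (φ x) = 1 := by
  classical
  rw [sq] at hk2 hg hu
  have htt : t * t = 1 := by rw [← sq, ← ht, pow_orderOf_eq_one]
  have ht1 : t ≠ 1 := fun e => by rw [e, orderOf_one] at ht; omega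
  have hker : ∀ x, φ x = 1 ↔ (x : G) = 1 ∨ (x : G) = t := fun x => by
    rw [hk, Subgroup.mem_zpowers_iff]
    constructor
    · rintro ⟨i, hi⟩
      rw [← hi]
      rcases Int.even_or_odd i with ⟨j, rfl⟩ | ⟨j, rfl⟩
      · left; rw [← two_mul, zpow_mul, zpow_two, htt, one_zpow]
      · right; rw [zpow_add, zpow_mul, zpow_two, htt, one_zpow, one_mul, zpow_one]
    · rintro (e | e) <;> rw [e]
      exacts [⟨0, zpow_zero t⟩, ⟨1, zpow_one t⟩]
  have hC : Cover t φ := by
    refine ⟨htt, ht1, hs, hker, fun x hx => (sq_eq hker hs htt (hx.trans hkc.symm) (Or.inr hk2)).trans hk2,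
      fun x hx => ?_, fun x hx => ?_⟩
    · rcases hc with ⟨h3, -⟩ | ⟨-, h3⟩
      · exact (sq_eq hker hs htt (hx.trans h3.symm) (Or.inl hg)).trans hg
      · exact (sq_eq hker hs htt (hx.trans h3.symm) (Or.inl hu)).trans hu
    · rcases hc with ⟨-, h4⟩ | ⟨h4, -⟩
      · exact (sq_eq hker hs htt (hx.trans h4.symm) (Or.inl hu)).trans hu
      · exact (sq_eq hker hs htt (hx.trans h4.symm) (Or.inl hg)).trans hg
  rcases hc with ⟨h3, h4⟩ | ⟨h4, h3⟩
  · exact (not_three_fused hC h3 h4 hgt hut).elim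
  obtain ⟨P, huP, hPC⟩ := exists_sylow_le hC hu
  obtain ⟨ψ, hψ⟩ : ∃ ψ, ψ = (Perm.sign.comp φ).comp (Subgroup.inclusion hPC) := ⟨_, rfl⟩
  obtain ⟨Q, hQdef⟩ : ∃ Q, Q = ψ.ker.map (P : Subgroup G).subtype := ⟨_, rfl⟩
  have hQP : Q ≤ P := hQdef ▸ Subgroup.map_subtype_le _
  have hψu : ψ ⟨u, huP⟩ = -1 := by rw [hψ]; exact sign_three h3
  have hQi : Q.relIndex (P : Subgroup G) = 2 := by
    show (Q.subgroupOf (P : Subgroup G)).index = 2
    rw [hQdef, Subgroup.subgroupOf, Subgroup.comap_map_eq_self_of_injective (P : Subgroup G).subtype_injective,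
      Subgroup.index_ker, MonoidHom.range_eq_top.2, Subgroup.card_top, Nat.card_eq_fintype_card,
      Fintype.card_units_int]
    intro v
    rcases Int.units_eq_one_or v with rfl | rfl
    exacts [⟨1, map_one _⟩, ⟨_, hψu⟩]
  have hmemQ : ∀ x ∈ Q, ∃ w : ↥(Subgroup.centralizer ({t} : Set G)), (w : G) = x ∧ Perm.sign (φ w) = 1 := by
    intro x hx
    obtain ⟨y, hy, rfl⟩ := hQdef ▸ hx
    exact ⟨⟨y, hPC y.2⟩, rfl, by rw [SetLike.mem_coe, MonoidHom.mem_ker, hψ] at hy; exact hy⟩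
  have huQ : (u : G) ∉ Q := by
    intro h
    obtain ⟨w, hw, hws⟩ := hmemQ _ h
    rw [show w = u from Subtype.ext hw, sign_three h3] at hws
    exact absurd hws (by decide)
  have hu1 : (u : G) ≠ 1 := fun e => by
    rw [(hker u).2 (Or.inl e), Perm.cycleType_one] at h3
    exact absurd h3 (by decide)
  rcases Cfsg.Agent.S0111.result P Q hQP hQi u (orderOf_eq_prime (by rw [sq, hu]) hu1) huP huQ with
    ⟨M, hM, hMi, huM⟩ | ⟨c, hcQ⟩
  swap
  · exfalso
    obtain ⟨w, hw, hws⟩ := hmemQ _ hcQ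
    have hconj : IsConj (u : G) (w : G) := isConj_iff.2 ⟨c, hw.symm⟩
    have hwt : (w : G) ≠ t := fun e => hut (hconj.trans (by rw [e]))
    have hk' := involution_kind hC (x := w)
      (by rw [hw, show c * (u : G) * c⁻¹ * (c * u * c⁻¹) = c * (u * u) * c⁻¹ by group, hu]; group)
      (fun e => hu1 (conj_eq_one_iff.1 (hw.symm.trans e))) hwt
    rcases hk' with hk' | hk' | hk'
    · rw [sign_one hk'] at hws; exact absurd hws (by decide)
    · rw [sign_three hk'] at hws; exact absurd hws (by decide)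
    · exact hut (hconj.trans ((isConj_of_kind hC (Or.inr (Or.inr h4)) (hk'.trans h4.symm)).symm.trans hgt))
  refine ⟨M, hMi, ?_⟩
  obtain ⟨M', hM'⟩ : ∃ M', M' = M.subgroupOf (Subgroup.centralizer ({t} : Set G)) := ⟨_, rfl⟩
  have hM'i : M'.index = 2 := by
    rw [hM']
    refine ((Nat.dvd_prime Nat.prime_two).1 (hMi ▸ Subgroup.relIndex_dvd_index_of_normal (H := M)
      (K := Subgroup.centralizer ({t} : Set G)))).resolve_left fun h1 => huM ?_
    exact Subgroup.mem_subgroupOf.1 (by rw [Subgroup.index_eq_one.1 h1]; trivial)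
  have hkerM : φ.ker ≤ M' := by
    intro x hx
    rw [hM', Subgroup.mem_subgroupOf]
    rcases (hker x).1 hx with e | e <;> rw [e]
    · exact one_mem M
    · rw [← hk2]; exact (Subgroup.mul_mem_iff_of_index_two hMi).2 Iff.rfl
  have hmap : M'.map φ = alternatingGroup (Fin 8) := Perm.eq_alternatingGroup_of_index_eq_two (by
    rw [Subgroup.index_map_eq _ hs hkerM, hM'i])
  intro x
  rw [← Perm.mem_alternatingGroup, ← hmap, ← Subgroup.mem_subgroupOf, ← hM']
  constructor
  · exact Subgroup.mem_map_of_mem φ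
  · rintro ⟨y, hy, hxy⟩
    have : y⁻¹ * x ∈ M' := hkerM (by rw [MonoidHom.mem_ker, map_mul, map_inv, hxy, inv_mul_cancel])
    simpa using M'.mul_mem hy this

end Cfsg.Agent.MclThree
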