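import Cfsg.Agent.Lib.Recognition.MclThreeLocal.TopMain
import Cfsg.Agent.Lib.Recognition.MclThreeLocal.Transfer

/-!
The double cover of the symmetric group of degree eight: classes of involutions and the subgroup of index two.
-/

set_option autoImplicit false
set_option linter.unusedSectionVars false
set_option synthInstance.maxSize 2000
set_option maxRecDepth 100000
set_option maxHeartbeats 1000000

namespace Cfsg.Agent.MclThree

open Equiv

universe u

theorem six_conj : (swap 3 2 * swap 5 4 : P6) * (f6 * f6) * (swap 3 2 * swap 5 4 : P6)⁻¹ = g6 ∧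
    Perm.sign (swap 3 2 * swap 5 4 : P6) = 1 := by decide +kernel

theorem refl_fix : ∀ H : Mt, (H = (0, -1, 1, 0) ∨ H = (0, 1, -1, 0)) →
    (∀ v : V4, g4 (lm 1 1 H (g4 (lm 1 1 H v))) = v) ∧
    (∀ v : V4, g4 (lm 1 1 H v) = v → v ≠ 0 → nf v ≠ 0) ∧
    g4 (lm 1 1 H (1, 0, 0, 0)) = (0, 0, 0, 1) ∧
    ∃ e : ZMod 3, ∀ k l : ZMod 3, g4 (lm 1 1 H (k, l, e * l, k)) = (k, l, e * l, k) := by
  decide +kernel

theorem three_disjoint {σ τ : Perm (Fin 8)} (hσ : σ.IsCycle) (h3 : σ.support.card = τ.support.card)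
    (hc : σ * τ = τ * σ) {a : Fin 8} (h1 : σ a ≠ a) (h2 : τ a ≠ a) : ∃ i : ℤ, τ = σ ^ i := by
  have hb : σ (τ a) ≠ τ a := fun e => h1 (τ.injective (by
    rw [← Perm.mul_apply τ σ, ← hc, Perm.mul_apply, e]))
  obtain ⟨i, hi⟩ := hσ.sameCycle h1 hb
  have hsupp : ∀ x, σ x ≠ x → τ x = (σ ^ i) x ∧ τ x ≠ x := fun x hx => by
    obtain ⟨j, rfl⟩ := hσ.sameCycle h1 hx
    have hcomm : Commute τ (σ ^ j) := (Commute.zpow_right (show Commute τ σ from hc.symm) j)
    have e1 : τ ((σ ^ j) a) = (σ ^ j) (τ a) := by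
      rw [← Perm.mul_apply τ (σ ^ j), hcomm.eq, Perm.mul_apply]
    refine ⟨?_, fun e => h2 ((σ ^ j).injective (e1.symm.trans e))⟩
    rw [e1, ← hi, ← Perm.mul_apply (σ ^ j), ← zpow_add, add_comm, zpow_add, Perm.mul_apply]
  have heq : σ.support = τ.support := Finset.eq_of_subset_of_card_le
    (fun x hx => Perm.mem_support.2 (hsupp x (Perm.mem_support.1 hx)).2) h3.ge
  refine ⟨i, Equiv.ext fun x => ?_⟩
  by_cases hx : σ x = x
  · have : x ∉ τ.support := heq ▸ fun h => Perm.mem_support.1 h hx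
    rw [Perm.notMem_support.1 this, Perm.zpow_apply_eq_self_of_apply_eq_self hx]
  · exact (hsupp x hx).1

theorem free_three {π σ : Perm (Fin 8)} (hπ : π * π = 1) (hσ : σ.support.card = 3) (hc : π * σ = σ * π) :
    ∃ a, π a = a := by
  haveI : Fact (Nat.Prime 2) := ⟨Nat.prime_two⟩
  have hinv : ∀ x, π x ∈ σ.support ↔ x ∈ σ.support := fun x => by
    rw [Perm.mem_support, Perm.mem_support, ← Perm.mul_apply σ π, ← hc, Perm.mul_apply, π.injective.ne_iff]
  have hcard : Fintype.card {x // x ∈ σ.support} = 3 := by rw [Fintype.card_coe, hσ]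
  obtain ⟨a, ha⟩ := Perm.exists_fixed_point_of_prime (p := 2) (n := 1) (σ := π.subtypePerm hinv)
    (by rw [hcard]; norm_num) (by rw [pow_one, pow_two]; exact Equiv.ext fun x => Subtype.ext (by
      show π (π x) = x
      rw [← Perm.mul_apply, hπ, Perm.one_apply]))
  exact ⟨a, congrArg Subtype.val ha⟩

theorem exists_swap {σ τ : Perm (Fin 8)} (h1 : σ.support.card = 3) (h2 : τ.support.card = 3) :
    ∃ s : Perm (Fin 8), Perm.sign s = -1 ∧ Commute s σ ∧ Commute s τ := by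
  obtain ⟨a, ha, b, hb, hab⟩ := Finset.one_lt_card.1 (show 1 < (σ.support ∪ τ.support)ᶜ.card by
    rw [Finset.card_compl, Fintype.card_fin]
    have := Finset.card_union_le σ.support τ.support
    omega)
  rw [Finset.mem_compl, Finset.mem_union, not_or] at ha hb
  refine ⟨swap a b, Perm.sign_swap hab, ?_, ?_⟩ <;>
    refine (Perm.disjoint_iff_disjoint_support.2 ?_).commute <;>
    rw [Perm.support_swap hab, Finset.disjoint_insert_left, Finset.disjoint_singleton_left]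
  exacts [⟨ha.1, hb.1⟩, ⟨ha.2, hb.2⟩]

variable {G : Type u} [Group G] [Finite G] {D : Data G}

namespace Ctx

variable {C : Ctx D}

theorem gg_conj {gg : G} (hJ : gg ∈ Subgroup.normalizer (D.J : Set G)) (hgg : gg * gg = 1)
    (hact : ∀ v, gg * C.vec v * gg⁻¹ = C.vec (g4 v)) : IsConj gg (C.t : G) := by
  have hj : (C.g : G)⁻¹ * gg ∈ D.J := D.cent_J fun a ha => by
    obtain ⟨v, rfl⟩ := C.vec_surj ha
    refine (mul_inv_eq_iff_eq_mul.1 ?_).symm
    calc (C.g : G)⁻¹ * gg * C.vec v * ((C.g : G)⁻¹ * gg)⁻¹ = (C.g : G)⁻¹ * (gg * C.vec v * gg⁻¹) * C.g := by group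
      _ = C.vec v := by rw [hact, ← C.g_act]; group
  have hgM : gg ∈ D.M := by
    have := mul_mem C.g.2 (D.S_le_M (D.hJS hj))
    rwa [mul_inv_cancel_left] at this
  obtain ⟨m, hm⟩ := C.toNorm.exists_lift six_conj.2
  set y : G := (m : G) * C.t * (m : G)⁻¹ with hy
  have hyy : y * y = 1 := by
    rw [hy, show (m : G) * C.t * (m : G)⁻¹ * ((m : G) * C.t * (m : G)⁻¹) = (m : G) * (C.t * C.t) * (m : G)⁻¹ by group,
      C.t_sq]; group
  have hd : gg⁻¹ * y ∈ D.J := by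
    have h := (C.ker ((⟨gg, hgM⟩ : D.M)⁻¹ * (m * C.t * m⁻¹))).1 ?_
    · simpa [hy] using h
    have hφg : C.φ ⟨gg, hgM⟩ = g6 := by
      rw [← C.hg, show (⟨gg, hgM⟩ : D.M) = C.g * ⟨_, D.S_le_M (D.hJS hj)⟩ from Subtype.ext (by simp), map_mul,
        (C.ker ⟨_, D.S_le_M (D.hJS hj)⟩).2 hj, mul_one]
    rw [map_mul, map_inv, hφg, map_mul, map_mul, map_inv, hm, Norm.φ_t, six_conj.1, inv_mul_cancel]
  set d := gg⁻¹ * y with hd'
  have hgi : gg⁻¹ = gg := inv_eq_of_mul_eq_one_right hgg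
  have hyd : y = gg * d := by rw [hd', mul_inv_cancel_left]
  have hconj : gg * d * gg⁻¹ = d⁻¹ := by
    refine eq_inv_of_mul_eq_one_left ?_
    rw [hgi, ← hyy, hyd]; group
  have h3 := D.Je d hd
  have e1 : gg * (d * d) = (d * d)⁻¹ * gg := by
    calc gg * (d * d) = (gg * d * gg⁻¹) * (gg * d * gg⁻¹) * gg := by group
      _ = (d * d)⁻¹ * gg := by rw [hconj]; group
  refine isConj_iff.2 ⟨(m : G)⁻¹ * (d * d)⁻¹, ?_⟩
  have e2 : (d * d)⁻¹ * gg * ((d * d)⁻¹)⁻¹ = y := by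
    rw [inv_inv, ← e1, hyd]
    calc gg * (d * d) * (d * d) = gg * (d ^ 3 * d) := by simp [pow_succ, mul_assoc]
      _ = gg * d := by rw [h3, one_mul]
  calc (m : G)⁻¹ * (d * d)⁻¹ * gg * ((m : G)⁻¹ * (d * d)⁻¹)⁻¹ = (m : G)⁻¹ * ((d * d)⁻¹ * gg * ((d * d)⁻¹)⁻¹) * m := by group
    _ = C.t := by rw [e2, hy]; group

theorem not_conj {x : G} {H : Mt} (hH : H = (0, -1, 1, 0) ∨ H = (0, 1, -1, 0))
    (hx : ∀ v, x * C.vec v * x⁻¹ = C.vec (g4 (lm 1 1 H v))) : ¬ IsConj x (C.t : G) := by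
  haveI : Fact (Nat.Prime 3) := ⟨Nat.prime_three⟩
  intro hconj
  obtain ⟨w, hw⟩ := isConj_iff.1 hconj
  obtain ⟨-, hfix, -, ε, hε⟩ := refl_fix H hH
  set B := (D.J ⊓ Subgroup.centralizer ({x} : Set G)).map (MulAut.conj w).toMonoidHom with hB
  have hBC : B ≤ C.Ct := by
    rintro _ ⟨b, hb, rfl⟩
    refine mem_Ct.2 ?_
    show w * b * w⁻¹ * C.t = C.t * (w * b * w⁻¹)
    calc w * b * w⁻¹ * C.t = w * (b * x) * w⁻¹ := by rw [← hw]; group
      _ = w * (x * b) * w⁻¹ := by rw [Subgroup.mem_centralizer_singleton_iff.1 hb.2]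
      _ = _ := by rw [← hw]; group
  have hB3 : ∀ b ∈ B, b ^ 3 = 1 := by
    rintro _ ⟨b, hb, rfl⟩
    rw [← map_pow, D.Je b hb.1, map_one]
  have hB9 : 9 ≤ Nat.card B := by
    rw [hB, Subgroup.card_map_of_injective (MulEquiv.injective _),
      show 9 = Nat.card (ZMod 3 × ZMod 3) by rw [Nat.card_eq_fintype_card]; rfl]
    refine Nat.card_le_card_of_injective (fun p : ZMod 3 × ZMod 3 =>
      (⟨C.vec (p.1, p.2, ε * p.2, p.1), C.vec_mem _, Subgroup.mem_centralizer_singleton_iff.2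
        (mul_inv_eq_iff_eq_mul.1 (by rw [hx, hε])).symm⟩ : (D.J ⊓ Subgroup.centralizer ({x} : Set G) : Subgroup G))) fun p q e => ?_
    have h := C.vec_inj (congrArg Subtype.val e)
    simp only [Prod.mk.injEq] at h
    exact Prod.ext h.1 h.2.1
  have hBp : IsPGroup 3 (C.imh B) := fun q => ⟨1, by
    obtain ⟨_, b, hb, rfl⟩ := q
    refine Subtype.ext ?_
    show C.πh b ^ 3 ^ 1 = 1
    rw [pow_one, ← map_pow, show b ^ 3 = 1 from Subtype.ext (hB3 _ hb), map_one]⟩
  obtain ⟨P, hP⟩ := D_Sylow (C := C)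
  obtain ⟨Q, hQ⟩ := hBp.exists_le_sylow
  obtain ⟨h, hh⟩ := MulAction.exists_smul_eq C.Hq P Q
  have hQc : Nat.card (Q : Subgroup C.Hq) = 9 := by
    rw [← hh, Sylow.coe_subgroup_smul]
    rw [← card_Db (C := C), hP]
    exact Subgroup.card_map_of_injective (MulEquiv.injective _)
  have heq : C.imh B = Q := Subgroup.eq_of_le_of_card_ge hQ (by rw [hQc, card_imh_odd hBC hB3]; exact hB9)
  have hm : h * C.zq * h⁻¹ ∈ C.imh B := by
    rw [heq, ← hh, Sylow.coe_subgroup_smul]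
    exact ⟨C.zq, hP ▸ (⟨⟨C.z, (Z_X1 C.base.hz).1⟩, z_D0, rfl⟩ : C.zq ∈ C.Db), rfl⟩
  obtain ⟨b, hb, e⟩ := hm
  obtain ⟨h', rfl⟩ := QuotientGroup.mk'_surjective C.T h
  have e' := lift_conj3 (x := h') (a := ⟨C.z, (Z_X1 C.base.hz).1⟩) (b := b) z_three (hB3 _ hb)
    (by rw [map_mul, map_mul, map_inv]; exact e.symm)
  obtain ⟨b0, hb0, eb⟩ : (b : G) ∈ B := hb
  obtain ⟨v, rfl⟩ := C.vec_surj hb0.1
  have hzf : w⁻¹ * h' * C.z * (w⁻¹ * h')⁻¹ = C.vec v := by
    have eb' : w * C.vec v * w⁻¹ = b := eb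
    calc w⁻¹ * h' * C.z * (w⁻¹ * h')⁻¹ = w⁻¹ * ((h' : G) * C.z * (h' : G)⁻¹) * w := by group
      _ = w⁻¹ * b * w := by rw [show (h' : G) * C.z * (h' : G)⁻¹ = b from e']
      _ = C.vec v := by rw [← eb']; group
  refine hfix v ?_ ?_ (C.z_fused hzf)
  · refine C.vec_inj ((hx v).symm.trans ?_)
    rw [← Subgroup.mem_centralizer_singleton_iff.1 hb0.2, mul_inv_cancel_right]
  · intro e0
    rw [e0, C.vec_zero, conj_eq_one_iff] at hzf
    exact C.base.z1 hzf

/-- the subgroup of index two -/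
theorem exists_N (hc : ¬ IsEven' C) (e : C.Hq ≃* Perm (Fin 8)) :
    ∃ N : Subgroup G, N.index = 2 ∧ ∀ x : C.Ct, (x : G) ∈ N ↔ Perm.sign (e (C.πh x)) = 1 := by
  haveI : Fact (Nat.Prime 3) := ⟨Nat.prime_three⟩
  set φ : C.Ct →* Perm (Fin 8) := e.toMonoidHom.comp C.πh with hφ
  have hker : ∀ x, φ x = 1 ↔ (x : G) = 1 ∨ (x : G) = C.t := fun x => e.map_eq_one_iff.trans πh_one
  have hsurj : Function.Surjective φ := e.surjective.comp (QuotientGroup.mk'_surjective _)
  set zc : C.Ct := ⟨C.z, (Z_X1 C.base.hz).1⟩ with hzc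
  set zc' : C.Ct := ⟨C.toNorm.z' C.z, z'_Ct⟩ with hzc'
  set σ := φ zc with hσ
  set τ := φ zc' with hτ
  have hz3 : C.z ^ 3 = 1 := D.Je _ (D.Z_le_J C.base.hz)
  have hz'3 : C.toNorm.z' C.z ^ 3 = 1 := D.Je _ (C.toNorm.z'_J C.base.hz)
  have hσ1 : σ ≠ 1 := fun h => by
    rcases (hker _).1 h with h | h
    · exact C.base.z1 h
    · have h' : C.z = C.t := h
      rw [h', pow_succ, pow_two, C.t_sq, one_mul] at hz3
      exact C.t_ne hz3
  have hσo : orderOf σ = 3 := orderOf_eq_prime (by rw [← map_pow, show zc ^ 3 = 1 from Subtype.ext hz3, map_one]) hσ1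
  -- the point is a three-cycle
  obtain ⟨n, hn⟩ := Perm.cycleType_prime_order (σ := σ) (by rw [hσo]; exact Nat.prime_three)
  rw [hσo] at hn
  have hσc : Nat.card (Subgroup.centralizer ({σ} : Set (Perm (Fin 8)))) = 360 := by
    obtain ⟨eC⟩ := exists_eCz.2 hc
    have h1 : Nat.card (Subgroup.centralizer ({C.πh zc} : Set C.Hq)) = 360 := by
      rw [Nat.card_congr eC.toEquiv, Nat.card_prod, Nat.card_perm, Nat.card_fin, Nat.card_eq_fintype_card]
      rfl
    rw [← h1]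
    refine (Nat.card_congr (Equiv.subtypeEquiv e.toEquiv fun q => ?_)).symm
    rw [Subgroup.mem_centralizer_singleton_iff, Subgroup.mem_centralizer_singleton_iff]
    show _ ↔ e q * e (C.πh zc) = e (C.πh zc) * e q
    rw [← map_mul, ← map_mul, e.injective.eq_iff]
  have hn0 : n = 0 := by
    have hsum := σ.sum_cycleType
    rw [hn, Multiset.sum_replicate, smul_eq_mul] at hsum
    have hle : σ.support.card ≤ 8 := le_trans (Finset.card_le_univ _) (by simp)
    rcases n with _ | _ | n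
    · rfl
    · exfalso
      rw [Perm.nat_card_centralizer, hn] at hσc
      have h36 : Nat.factorial (Fintype.card (Fin 8) - (Multiset.replicate (1 + 1) 3).sum) * (Multiset.replicate (1 + 1) 3).prod *
          (∏ n ∈ (Multiset.replicate (1 + 1) 3).toFinset, Nat.factorial ((Multiset.replicate (1 + 1) 3).count n)) = 36 := by decide
      rw [show (0 + 1 + 1 : ℕ) = 1 + 1 from rfl] at hσc
      rw [h36] at hσc
      omega
    · exfalso; omega
  subst hn0
  have hσcyc : σ.IsThreeCycle := hn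
  have hσs : σ.support.card = 3 := Perm.IsThreeCycle.card_support hσcyc
  -- the second point
  obtain ⟨gg, hgt, hgJ, hgg, hgact⟩ := exists_gg (C := C)
  set gc : C.Ct := ⟨gg, hgt⟩ with hgc
  have hgz : gc * zc * gc⁻¹ = zc' := Subtype.ext (by
    show gg * C.z * gg⁻¹ = C.toNorm.z' C.z
    conv_lhs => rw [← C.vec_z]
    rw [hgact, ← C.vec_z']; rfl)
  have hτσ : φ gc * σ * (φ gc)⁻¹ = τ := by rw [hσ, hτ, ← map_inv, ← map_mul, ← map_mul, hgz]
  have hτs : τ.support.card = 3 := by rw [← hτσ, Perm.card_support_conj, hσs]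
  have hστ : σ * τ = τ * σ := by
    rw [hσ, hτ, ← map_mul, ← map_mul]
    exact congrArg φ (Subtype.ext (D.Jc _ (D.Z_le_J C.base.hz) _ (C.toNorm.z'_J C.base.hz)))
  have hdisj : ∀ a, σ a ≠ a → τ a = a := fun a ha => by
    by_contra h2
    obtain ⟨i, hi⟩ := three_disjoint hσcyc.isCycle (by rw [hσs, hτs]) hστ ha h2
    have hm : C.toNorm.z' C.z ∈ D.Z := by
      have h1 : φ (zc' * (zc ^ i)⁻¹) = 1 := by
        rw [map_mul, map_inv, map_zpow, ← hσ, ← hτ, hi, mul_inv_cancel]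
      have hzi : C.z ^ i ∈ D.Z := zpow_mem C.base.hz i
      rcases (hker _).1 h1 with h | h
      · have h' : C.toNorm.z' C.z * (C.z ^ i)⁻¹ = 1 := h
        rw [mul_inv_eq_one.1 h']; exact hzi
      · exfalso
        have h' : C.toNorm.z' C.z * (C.z ^ i)⁻¹ = C.t := h
        have h3 := D.Je _ (mul_mem (C.toNorm.z'_J C.base.hz) (inv_mem (D.Z_le_J hzi)))
        rw [h', pow_succ, pow_two, C.t_sq, one_mul] at h3
        exact C.t_ne h3
    exact C.toNorm.zp_not_A C.base.hz C.base.z1 (D.Z_le_A hm)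
  -- kinds of involutions exchanging the points
  obtain ⟨u, U, hu, hut, hA, hU⟩ := C.exists_u
  set uc : C.Ct := ⟨u, mem_Ct.2 (C.K_t hu)⟩ with huc
  have hsK : Perm.sign (φ uc) = 1 := by
    have h := K_kill (C := C) ((Perm.sign.comp φ).comp (Subgroup.inclusion fun k hk => mem_Ct.2 (C.K_t hk))) ⟨u, hu⟩
    simp only [MonoidHom.comp_apply] at h
    exact h
  have hu2 : φ uc * φ uc = 1 := by rw [← map_mul, hker]; exact Or.inr hut
  have hu22 : (φ uc).cycleType = {2, 2} := by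
    obtain ⟨m, hm4, hms, hm⟩ := cycleType_of_sq hu2
    interval_cases m
    · exfalso
      rw [Multiset.replicate_zero, Perm.cycleType_eq_zero, hker] at hm
      rcases hm with h | h <;> (have h' : u = _ := h; rw [h'] at hut)
      · exact C.t_ne (by rw [← hut, one_mul])
      · rw [C.t_sq] at hut; exact C.t_ne hut.symm
    · rw [Perm.sign_of_cycleType, hm] at hsK; exact absurd hsK (by decide)
    · exact hm.trans rfl
    · rw [Perm.sign_of_cycleType, hm] at hsK; exact absurd hsK (by decide)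
    · exfalso
      obtain ⟨a, ha⟩ := free_three hu2 hσs (by
        rw [hσ, ← map_mul, ← map_mul]
        exact congrArg φ (Subtype.ext (mul_inv_eq_iff_eq_mul.1 (cZ (D.L_le (C.K_le_L hu)) C.base.hz))))
      have huniv : (φ uc).support = Finset.univ := Finset.eq_univ_of_card _ (by rw [Fintype.card_fin]; omega)
      exact Perm.mem_support.1 (huniv ▸ Finset.mem_univ a) ha
  have hkind : ∀ x : C.Ct, (x : G) * x = 1 → x * zc * x⁻¹ = zc' →
      (Perm.sign (φ x) = 1 → (φ x).cycleType = {2, 2, 2, 2}) ∧ (Perm.sign (φ x) = -1 → (φ x).cycleType = {2, 2, 2}) := by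
    intro x hx hxz
    have hxx : φ x * φ x = 1 := by rw [← map_mul, hker]; exact Or.inl hx
    have hπ : φ x * σ * (φ x)⁻¹ = τ := by rw [hσ, hτ, ← map_inv, ← map_mul, ← map_mul, hxz]
    have hsub : σ.support ⊆ (φ x).support := fun a ha => Perm.mem_support.2 fun hfix => by
      have ha' := Perm.mem_support.1 ha
      have h1 : τ a = φ x (σ a) := by
        rw [← hπ, Perm.mul_apply, Perm.mul_apply, Perm.inv_def, (Equiv.symm_apply_eq _).2 hfix.symm]
      rw [hdisj a ha'] at h1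
      exact ha' ((φ x).injective (h1.symm.trans hfix.symm))
    have h3 := Finset.card_le_card hsub
    rw [hσs] at h3
    obtain ⟨m, hm4, hms, hm⟩ := cycleType_of_sq hxx
    interval_cases m <;> try omega
    · exfalso
      have hd := sq_eq hker hsurj C.t_sq ((hm.trans rfl).trans hu22.symm) (Or.inr hut)
      rw [hx, show (uc : G) * uc = C.t from hut] at hd
      exact C.t_ne hd.symm
    · refine ⟨fun h => ?_, fun _ => hm.trans rfl⟩
      rw [Perm.sign_of_cycleType, hm] at h; exact absurd h (by decide)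
    · refine ⟨fun _ => hm.trans rfl, fun h => ?_⟩
      rw [Perm.sign_of_cycleType, hm] at h; exact absurd h (by decide)
  -- an odd element centralising both points
  obtain ⟨s, hs, hsσ, hsτ⟩ := exists_swap hσs hτs
  obtain ⟨c, hcX, hcs⟩ : ∃ c : C.Ct, (c : G) ∈ C.Xc ∧ φ c = s := by
    have hm : e.symm s ∈ C.imh C.Xc := by
      rw [← centralizer_Db, ← closure_yz, Subgroup.centralizer_closure, Subgroup.mem_centralizer_iff]
      have hy : C.yq = C.πh (zc * zc') := congrArg C.πh (Subtype.ext (by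
        show C.yv = C.z * C.toNorm.z' C.z
        rw [← C.vec_z', ← C.vec_z, ← C.vec_add]; exact congrArg C.vec (by decide)))
      have hcm : ∀ q : C.Ct, Commute s (φ q) → C.πh q * e.symm s = e.symm s * C.πh q := fun q hq => by
        apply e.injective
        rw [map_mul, map_mul, e.apply_symm_apply]
        exact hq.eq.symm
      rintro q (rfl | rfl)
      · rw [hy]; exact hcm _ (by rw [map_mul]; exact hsσ.mul_right hsτ)
      · exact hcm zc hsσ
    obtain ⟨c, hc', ec⟩ := hm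
    exact ⟨c, hc', by rw [hφ, MonoidHom.comp_apply, ec]; exact e.apply_symm_apply s⟩
  have hX := Xc_iff.1 hcX
  obtain ⟨H, hH, hHact⟩ := C.rot_of hX.1.2 hX.2
  have hD0 : ∀ d : C.Ct, (d : G) ∈ C.D0 → Perm.sign (φ d) = 1 := fun d hd => by
    have h3 : Perm.sign (φ d) ^ 3 = 1 := by
      rw [← map_pow, ← map_pow, show d ^ 3 = 1 from Subtype.ext (D0_three hd), map_one, map_one]
    rwa [pow_succ, pow_two, Int.units_mul_self, one_mul] at h3
  have htk : φ ⟨C.t, mem_Ct.2 rfl⟩ = 1 := (hker _).2 (Or.inr rfl)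
  have hHR : H = (0, -1, 1, 0) ∨ H = (0, 1, -1, 0) := by
    rcases hH with rfl | rfl | h
    · exfalso
      have := hD0 c (D0_iff.2 ⟨D.cent_J fun a ha => by
        obtain ⟨v, rfl⟩ := C.vec_surj ha
        refine (mul_inv_eq_iff_eq_mul.1 ?_).symm
        rw [hHact]; simp [lm, app], c.2⟩)
      rw [hcs, hs] at this
      exact absurd this (by decide)
    · exfalso
      have := hD0 (c * ⟨C.t, mem_Ct.2 rfl⟩) (D0_iff.2 ⟨D.cent_J fun a ha => by
        obtain ⟨v, rfl⟩ := C.vec_surj ha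
        refine (mul_inv_eq_iff_eq_mul.1 ?_).symm
        show (c : G) * C.t * C.vec v * ((c : G) * C.t)⁻¹ = _
        calc (c : G) * C.t * C.vec v * ((c : G) * C.t)⁻¹ = (c : G) * ((C.t : G) * C.vec v * (C.t : G)⁻¹) * (c : G)⁻¹ := by group
          _ = _ := by rw [C.t_act, hHact]; simp [lm, app], (c * ⟨C.t, mem_Ct.2 rfl⟩).2⟩)
      rw [map_mul, htk, mul_one, hcs, hs] at this
      exact absurd this (by decide)
    · exact h
  obtain ⟨hinv, -, hz, -⟩ := refl_fix H hHR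
  set x0 : C.Ct := gc * c with hx0
  have hx0a : ∀ v, (x0 : G) * C.vec v * (x0 : G)⁻¹ = C.vec (g4 (lm 1 1 H v)) := fun v => by
    show gg * c * C.vec v * (gg * c)⁻¹ = _
    calc gg * c * C.vec v * (gg * c)⁻¹ = gg * ((c : G) * C.vec v * (c : G)⁻¹) * gg⁻¹ := by group
      _ = _ := by rw [hHact, hgact]
  have hxx : (x0 : G) * x0 ∈ C.D0 := D0_iff.2 ⟨D.cent_J fun a ha => by
    obtain ⟨v, rfl⟩ := C.vec_surj ha
    refine (mul_inv_eq_iff_eq_mul.1 ?_).symm
    calc (x0 : G) * x0 * C.vec v * ((x0 : G) * x0)⁻¹ = x0 * (x0 * C.vec v * (x0 : G)⁻¹) * (x0 : G)⁻¹ := by group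
      _ = C.vec v := by rw [hx0a, hx0a, hinv], mul_mem x0.2 x0.2⟩
  set u1 : C.Ct := x0 ^ 3 with hu1
  have hu11 : (u1 : G) * u1 = 1 := by
    rw [hu1, Subgroup.coe_pow, ← pow_add, show 3 + 3 = 2 * 3 from rfl, pow_mul, pow_two, D0_three hxx]
  have hu1a : ∀ v, (u1 : G) * C.vec v * (u1 : G)⁻¹ = C.vec (g4 (lm 1 1 H v)) := fun v => by
    rw [hu1, Subgroup.coe_pow]
    calc (x0 : G) ^ 3 * C.vec v * ((x0 : G) ^ 3)⁻¹ = x0 * (x0 * (x0 * C.vec v * (x0 : G)⁻¹) * (x0 : G)⁻¹) * (x0 : G)⁻¹ := by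
          simp [pow_succ, mul_assoc]
      _ = _ := by rw [hx0a, hx0a, hx0a, hinv]
  have hk1 := hkind u1 hu11 (Subtype.ext (by
    show (u1 : G) * C.z * (u1 : G)⁻¹ = C.toNorm.z' C.z
    conv_lhs => rw [← C.vec_z]
    rw [hu1a, hz, C.vec_z']))
  have hkg := hkind gc hgg hgz
  have hsign : Perm.sign (φ u1) = - Perm.sign (φ gc) := by
    rw [hu1, map_pow, map_pow, hx0, map_mul, map_mul, hcs, hs]
    rcases Int.units_eq_one_or (Perm.sign (φ gc)) with h | h <;> rw [h] <;> rfl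
  have hut' : ¬ IsConj (u1 : G) (C.t : G) := not_conj hHR hu1a
  have hgt' : IsConj (gc : G) (C.t : G) := gg_conj hgJ hgg hgact
  obtain ⟨N, hN, hmem⟩ := exists_index_two C.order_t φ hsurj (fun x => by
      rw [hker]
      exact ⟨fun h => h.elim (fun e => by rw [e]; exact one_mem _) fun e => by rw [e]; exact Subgroup.mem_zpowers _, mem_t⟩)
    uc (by rw [pow_two]; exact hut) hu22 gc u1 (by rw [pow_two]; exact hgg) (by rw [pow_two]; exact hu11) hgt' hut' (by
      rcases Int.units_eq_one_or (Perm.sign (φ gc)) with h | h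
      · exact Or.inr ⟨hkg.1 h, hk1.2 (by rw [hsign, h])⟩
      · exact Or.inl ⟨hkg.2 h, hk1.1 (by rw [hsign, h, neg_neg])⟩)
  exact ⟨N, hN, hmem⟩

end Ctx

end Cfsg.Agent.MclThree
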