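import Cfsg.Agent.Lib.Recognition.MclThreeLocal.Pieces

/-!
Coordinates on the elementary abelian subgroup of order 81.
-/

set_option autoImplicit false
set_option linter.unusedSectionVars false

namespace Cfsg.Agent.MclThree

open scoped commutatorElement

universe u

/-- coordinates -/
abbrev V4 := ZMod 3 × ZMod 3 × ZMod 3 × ZMod 3

/-- powers with exponents modulo three -/
def pw {G : Type u} [Group G] (g : G) (a : ZMod 3) : G := g ^ a.val

theorem pw_add {G : Type u} [Group G] {g : G} (h : g ^ 3 = 1) (a b : ZMod 3) : pw g (a + b) = pw g a * pw g b := by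
  rw [pw, pw, pw, ← pow_add, ZMod.val_add]
  conv_rhs => rw [← Nat.div_add_mod (a.val + b.val) 3, pow_add, pow_mul, h, one_pow, one_mul]

theorem pw_one {G : Type u} [Group G] (g : G) : pw g 1 = g := by
  rw [pw, ZMod.val_one, pow_one]

theorem pw_zero {G : Type u} [Group G] (g : G) : pw g 0 = 1 := by
  rw [pw, ZMod.val_zero, pow_zero]

theorem pw_mem {G : Type u} [Group G] {H : Subgroup G} {g : G} (h : g ∈ H) (a : ZMod 3) : pw g a ∈ H :=
  pow_mem h _

theorem pw_conj {G : Type u} [Group G] (x g : G) (a : ZMod 3) : x * pw g a * x⁻¹ = pw (x * g * x⁻¹) a := by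
  rw [pw, pw, conj_pow]

variable {G : Type u} [Group G] [Finite G] {D : Data G}

namespace Norm

variable (K : Norm D)

/-- the other conjugate of the centre generator -/
def z' (z : G) : G := (K.g : G) * z * (K.g : G)⁻¹

theorem z'_J {z : G} (hz : z ∈ D.Z) : K.z' z ∈ D.J := mem_norm (D.M_norm K.g.2) (D.Z_le_J hz)

theorem comm_t_g {a : G} (ha : a ∈ D.J) :
    (K.t : G) * ((K.g : G) * a * (K.g : G)⁻¹) * (K.t : G)⁻¹ =
      (K.g : G) * ((K.t : G) * a * (K.t : G)⁻¹) * (K.g : G)⁻¹ := by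
  have h : K.φ (K.t * K.g) = K.φ (K.g * K.t) := by
    rw [map_mul, map_mul, K.φ_t, K.hg]; decide +kernel
  calc _ = ((K.t * K.g : D.M) : G) * a * ((K.t * K.g : D.M) : G)⁻¹ := by simp [mul_assoc]
    _ = ((K.g * K.t : D.M) : G) * a * ((K.g * K.t : D.M) : G)⁻¹ := K.act_congr h ha
    _ = _ := by simp [mul_assoc]

theorem t_z' {z : G} (hz : z ∈ D.Z) : (K.t : G) * K.z' z * (K.t : G)⁻¹ = K.z' z := by
  rw [z', K.comm_t_g (D.Z_le_J hz), K.t_Z hz]

theorem g_W0 {w : G} (hw : w ∈ K.W0) : (K.g : G) * w * (K.g : G)⁻¹ ∈ D.J ∧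
    (K.t : G) * ((K.g : G) * w * (K.g : G)⁻¹) * (K.t : G)⁻¹ = ((K.g : G) * w * (K.g : G)⁻¹)⁻¹ :=
  ⟨mem_norm (D.M_norm K.g.2) hw.1.1, by rw [K.comm_t_g hw.1.1, hw.2]; group⟩

theorem f_W0 {w : G} (hw : w ∈ K.W0) : (K.f : G) * w * (K.f : G)⁻¹ ∈ K.W0 := by
  refine ⟨mem_norm K.f_NA hw.1, ?_⟩
  have : (K.t : G) * K.f = K.f * K.t := by rw [t, Subgroup.coe_mul, mul_assoc]
  calc (K.t : G) * ((K.f : G) * w * (K.f : G)⁻¹) * (K.t : G)⁻¹
      = ((K.t : G) * K.f) * w * ((K.t : G) * K.f)⁻¹ := by group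
    _ = (K.f : G) * ((K.t : G) * w * (K.t : G)⁻¹) * (K.f : G)⁻¹ := by rw [this]; group
    _ = _ := by rw [hw.2]; group

/-- the coordinates -/
def ι (z e1 : G) (v : V4) : G :=
  pw z v.1 * pw e1 v.2.1 * pw ((K.f : G) * e1 * (K.f : G)⁻¹) v.2.2.1 * pw (K.z' z) v.2.2.2

/-- admissible bases -/
structure Base (z e1 : G) : Prop where
  hz : z ∈ D.Z
  z1 : z ≠ 1
  he : e1 ∈ K.W0
  e1ne : e1 ≠ 1

theorem exists_base : ∃ z e1 : G, K.Base z e1 := by
  obtain ⟨⟨z, hz⟩, hz1⟩ : ∃ x : D.Z, x ≠ 1 := by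
    haveI : Nontrivial D.Z := Finite.one_lt_card_iff_nontrivial.1 (by rw [D.Z_eq.2]; norm_num)
    exact exists_ne 1
  obtain ⟨⟨e, he⟩, he1⟩ : ∃ x : K.W0, x ≠ 1 := by
    haveI : Nontrivial K.W0 := Finite.one_lt_card_iff_nontrivial.1 (by rw [K.card_W0]; norm_num)
    exact exists_ne 1
  exact ⟨z, e, hz, fun h => hz1 (Subtype.ext h), he, fun h => he1 (Subtype.ext h)⟩

namespace Base

variable {K} {z e1 : G} (b : K.Base z e1)
include b

theorem mems : z ∈ D.J ∧ e1 ∈ D.J ∧ (K.f : G) * e1 * (K.f : G)⁻¹ ∈ D.J ∧ K.z' z ∈ D.J :=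
  ⟨D.Z_le_J b.hz, b.he.1.1, mem_norm (D.M_norm K.f.2) b.he.1.1, K.z'_J b.hz⟩

theorem mem (v : V4) : K.ι z e1 v ∈ D.J :=
  mul_mem (mul_mem (mul_mem (pw_mem b.mems.1 _) (pw_mem b.mems.2.1 _)) (pw_mem b.mems.2.2.1 _))
    (pw_mem b.mems.2.2.2 _)

theorem add (v w : V4) : K.ι z e1 (v + w) = K.ι z e1 v * K.ι z e1 w := by
  obtain ⟨h1, h2, h3, h4⟩ := b.mems
  simp only [ι, Prod.fst_add, Prod.snd_add, pw_add (D.Je _ h1), pw_add (D.Je _ h2), pw_add (D.Je _ h3),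
    pw_add (D.Je _ h4)]
  have m4 : ∀ {p q r s : G}, q ∈ D.J → r ∈ D.J → p * q * (r * s) = p * r * (q * s) := fun {p q r s} hq hr => by
    rw [mul_assoc, ← mul_assoc q, D.Jc q hq r hr, mul_assoc r, ← mul_assoc]
  have hv := pw_mem h2 v.2.1
  have hz1 := pw_mem h1 w.1
  rw [m4 (pw_mem h1 w.1) hv, m4 (mul_mem hz1 (pw_mem h2 w.2.1)) (pw_mem h3 v.2.2.1),
    m4 (mul_mem (mul_mem hz1 (pw_mem h2 w.2.1)) (pw_mem h3 w.2.2.1)) (pw_mem h4 v.2.2.2)]

theorem zero : K.ι z e1 0 = 1 := by simp [ι, pw_zero]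

theorem neg (v : V4) : K.ι z e1 (-v) = (K.ι z e1 v)⁻¹ := by
  refine (inv_eq_of_mul_eq_one_right ?_).symm
  rw [← b.add, add_neg_cancel, b.zero]

theorem inj : Function.Injective (K.ι z e1) := by
  obtain ⟨h1, h2, h3, h4⟩ := b.mems
  have key : ∀ v : V4, K.ι z e1 v = 1 → v = 0 := by
    rintro ⟨a, x, y, c⟩ h
    have hfe := K.f_W0 b.he
    have hW : pw e1 x * pw ((K.f : G) * e1 * (K.f : G)⁻¹) y ∈ K.W0 := mul_mem (pw_mem b.he _) (pw_mem hfe _)
    have hA : pw z a * (pw e1 x * pw ((K.f : G) * e1 * (K.f : G)⁻¹) y) ∈ D.A :=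
      mul_mem (pw_mem (D.Z_le_A b.hz) _) hW.1
    simp only [ι] at h
    have hc : c = 0 := by
      by_contra hc
      have hm : pw (K.z' z) c ∈ D.A := by
        rw [mul_assoc (pw z a)] at h
        rw [← inv_eq_of_mul_eq_one_right h]
        exact inv_mem hA
      refine K.zp_not_A b.hz b.z1 ?_
      rcases (show ∀ c : ZMod 3, c ≠ 0 → c = 1 ∨ c + c = 1 by decide) c hc with rfl | e
      · rwa [pw_one] at hm
      · show K.z' z ∈ D.A
        rw [← pw_one (K.z' z), ← e, pw_add (D.Je _ h4)]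
        exact mul_mem hm hm
    subst hc
    rw [pw_zero, mul_one, mul_assoc] at h
    have hd : pw z a = 1 := by
      have hz' : pw z a ∈ D.Z := pw_mem b.hz _
      have hmW : pw z a ∈ K.W0 := by rw [eq_inv_of_mul_eq_one_left h]; exact inv_mem hW
      have e := hmW.2
      rw [K.t_Z hz'] at e
      have h2' : pw z a ^ 2 = 1 := by rw [pow_two]; nth_rw 2 [e]; rw [mul_inv_cancel]
      have h3' := D.Je _ (D.Z_le_J hz')
      rwa [pow_succ, h2', one_mul] at h3'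
    rw [hd, one_mul] at h
    have hpow : ∀ {g : G} {a : ZMod 3}, g ^ 3 = 1 → g ≠ 1 → pw g a = 1 → a = 0 := fun {g a} h3 hg ha => by
      by_contra hne
      refine hg ?_
      rcases (show ∀ c : ZMod 3, c ≠ 0 → c = 1 ∨ c + c = 1 by decide) a hne with rfl | e
      · rwa [pw_one] at ha
      · rw [← pw_one g, ← e, pw_add h3, ha, mul_one]
    have ha0 := hpow (D.Je _ h1) b.z1 hd
    have hy : y = 0 := by
      by_contra hy
      have hpy : pw ((K.f : G) * e1 * (K.f : G)⁻¹) y = pw e1 (-x) := by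
        rw [← one_mul (pw ((K.f : G) * e1 * (K.f : G)⁻¹) y), ← pw_zero e1, ← neg_add_cancel x,
          pw_add (D.Je _ h2), mul_assoc, h, mul_one]
      obtain ⟨k, hk⟩ : ∃ k : ZMod 3, (K.f : G) * e1 * (K.f : G)⁻¹ = pw e1 k := by
        rcases (show ∀ c : ZMod 3, c ≠ 0 → c = 1 ∨ c + c = 1 by decide) y hy with rfl | e
        · exact ⟨-x, by rwa [pw_one] at hpy⟩
        · exact ⟨-x + -x, by rw [pw_add (D.Je _ h2), ← hpy, ← pw_add (D.Je _ h3), e, pw_one]⟩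
      have ht : (K.t : G) * e1 * (K.t : G)⁻¹ = e1 := by
        have hk0 : k ≠ 0 := fun e => by
          rw [e, pw_zero] at hk
          exact b.e1ne (conj_eq_one_iff.1 hk)
        rw [t, Subgroup.coe_mul, show (K.f : G) * K.f * e1 * ((K.f : G) * K.f)⁻¹ =
          (K.f : G) * ((K.f : G) * e1 * (K.f : G)⁻¹) * (K.f : G)⁻¹ by group, hk, pw_conj, hk]
        have : ∀ k : ZMod 3, k ≠ 0 → pw (pw e1 k) k = e1 := by
          intro k hk
          rcases (show ∀ c : ZMod 3, c ≠ 0 → c = 1 ∨ c = 2 by decide) k hk with rfl | rfl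
          · rw [pw_one, pw_one]
          · show (e1 ^ 2) ^ 2 = e1
            rw [← pow_mul, show 2 * 2 = 3 + 1 from rfl, pow_succ, D.Je _ h2, one_mul]
        exact this k hk0
      rw [b.he.2] at ht
      refine b.e1ne ?_
      have h3' := D.Je _ h2
      rwa [pow_succ, pow_two, show e1 * e1 = 1 by nth_rw 1 [← ht]; rw [inv_mul_cancel], one_mul] at h3'
    subst hy
    rw [pw_zero, mul_one] at h
    simp [ha0, hpow (D.Je _ h2) b.e1ne h]
  intro v w h
  have := key (v - w) (by rw [sub_eq_add_neg, b.add, b.neg, h, mul_inv_cancel])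
  exact sub_eq_zero.1 this

theorem surj {x : G} (hx : x ∈ D.J) : ∃ v, K.ι z e1 v = x := by
  have hb : Function.Bijective (fun v : V4 => (⟨K.ι z e1 v, b.mem v⟩ : D.J)) :=
    (Nat.bijective_iff_injective_and_card _).2
      ⟨fun v w h => b.inj (congrArg Subtype.val h), by rw [D.hJ, Nat.card_eq_fintype_card]; rfl⟩
  obtain ⟨v, hv⟩ := hb.2 ⟨x, hx⟩
  exact ⟨v, congrArg Subtype.val hv⟩

end Base

end Norm

end Cfsg.Agent.MclThree
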